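import Mathlib
import Cfsg.Prelude.Def_Local
import Cfsg.Agent.Lib.Helper63.HallHigman
import Cfsg.Agent.S0029

/-!
# Faithful action on the Frattini quotient of `O_p` (helper63)

* `mem_pCore_of_trivial_on_frattini`: if `O_{p'}(H) = 1`, `H` has finite `p`-length, and `h`
  acts trivially on `O_p(H) / Φ(O_p(H))`, then `h ∈ O_p(H)`.
-/

set_option autoImplicit false

namespace Cfsg.Agent.Lib.Helper63

open Cfsg

/-- In a finite group `H` of finite `p`-length with `O_{p'}(H) = 1`, an element acting trivially on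
the Frattini quotient of `R = O_p(H)` lies in `O_p(H)`. -/
theorem mem_pCore_of_trivial_on_frattini {H : Type*} [Group H] [Finite H] {p : ℕ} [Fact p.Prime]
    (h0 : pPrimeCore p H = ⊥) (hl : ∃ k, PLengthLE p k H) (h : H)
    (hh : ∀ r ∈ pCore p H, h * r * h⁻¹ * r⁻¹ ∈ (frattini ↥(pCore p H)).map (pCore p H).subtype) :
    h ∈ pCore p H := by
  have hp : p.Prime := Fact.out
  set R := pCore p H with hR
  have hRp : IsPGroup p R := pCore_isPGroup' p H
  have hRn : R.Normal := inferInstance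
  set Φ := (frattini ↥R).map R.subtype with hΦ
  have hΦn : Φ.Normal := ConjAct.normal_of_characteristic_of_normal
  -- the kernel of the action on the Frattini quotient
  let C : Subgroup H :=
    { carrier := {c | ∀ r ∈ R, c * r * c⁻¹ * r⁻¹ ∈ Φ}
      one_mem' := by
        intro r _
        simp only [one_mul, inv_one, mul_one, mul_inv_cancel]
        exact Φ.one_mem
      mul_mem' := by
        intro a b ha hb r hr
        have h1 : a * (b * r * b⁻¹ * r⁻¹) * a⁻¹ ∈ Φ := hΦn.conj_mem _ (hb r hr) a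
        have h2 := ha r hr
        have e : a * b * r * (a * b)⁻¹ * r⁻¹
            = a * (b * r * b⁻¹ * r⁻¹) * a⁻¹ * (a * r * a⁻¹ * r⁻¹) := by group
        rw [e]
        exact Φ.mul_mem h1 h2
      inv_mem' := by
        intro a ha r hr
        have hr' : a⁻¹ * r * a ∈ R := by
          have := hRn.conj_mem r hr a⁻¹
          simpa using this
        have h1 := ha _ hr'
        have e : a⁻¹ * r * a⁻¹⁻¹ * r⁻¹ = (a * (a⁻¹ * r * a) * a⁻¹ * (a⁻¹ * r * a)⁻¹)⁻¹ := by group
        rw [e]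
        exact Φ.inv_mem h1 }
  have hCmem : ∀ c, c ∈ C ↔ ∀ r ∈ R, c * r * c⁻¹ * r⁻¹ ∈ Φ := fun c => Iff.rfl
  have hCn : C.Normal := by
    constructor
    intro c hc t
    rw [hCmem] at hc ⊢
    intro r hr
    have hr' : t⁻¹ * r * t ∈ R := by
      have := hRn.conj_mem r hr t⁻¹
      simpa using this
    have h1 := hΦn.conj_mem _ (hc _ hr') t
    have e : t * c * t⁻¹ * r * (t * c * t⁻¹)⁻¹ * r⁻¹
        = t * (c * (t⁻¹ * r * t) * c⁻¹ * (t⁻¹ * r * t)⁻¹) * t⁻¹ := by group
    rw [e]; exact h1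
  have hCp : IsPGroup p C := by
    rintro ⟨c, hc⟩
    obtain ⟨a, m, hm, hnm⟩ := Nat.exists_eq_pow_mul_and_not_dvd (orderOf_pos c).ne' p hp.ne_one
    set c' := c ^ p ^ a with hc'
    have hc'C : c' ∈ C := C.pow_mem hc _
    have hc'm : c' ^ m = 1 := by
      rw [hc', ← pow_mul, ← hnm]; exact pow_orderOf_eq_one c
    have hmcop : m.Coprime p := Nat.coprime_comm.1 ((Nat.Prime.coprime_iff_not_dvd hp).2 hm)
    have hAR : Subgroup.zpowers c' ≤ Subgroup.normalizer (R : Set H) := by
      rw [Subgroup.normalizer_eq_top]; exact le_top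
    have hcop : (Nat.card (Subgroup.zpowers c')).Coprime (Nat.card (frattini ↥R)) := by
      obtain ⟨j, hj⟩ := (IsPGroup.iff_card).1 (hRp.to_subgroup (frattini ↥R))
      rw [hj, Nat.card_zpowers]
      exact Nat.Coprime.pow_right j
        (Nat.Coprime.coprime_dvd_left (orderOf_dvd_of_pow_eq_one hc'm) hmcop)
    have htriv : ∀ x ∈ Subgroup.zpowers c', ∀ k ∈ R,
        x * k * x⁻¹ * k⁻¹ ∈ (frattini ↥R).map R.subtype := by
      intro x hx k hk
      have hxC : x ∈ C := (Subgroup.zpowers_le.2 hc'C) hx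
      exact hxC k hk
    have hcent := Cfsg.Agent.S0029.result (Subgroup.zpowers c') R hAR hcop htriv
    have hc'R : c' ∈ R := centralizer_pCore_le h0 hl (hcent (Subgroup.mem_zpowers c'))
    obtain ⟨j, hj⟩ := hRp ⟨c', hc'R⟩
    have hj' : c' ^ p ^ j = 1 := congrArg Subtype.val hj
    have h1 : orderOf c' ∣ p ^ j := orderOf_dvd_of_pow_eq_one hj'
    have h2 : orderOf c' ∣ m := orderOf_dvd_of_pow_eq_one hc'm
    have h3 : orderOf c' = 1 :=
      Nat.Coprime.eq_one_of_dvd (Nat.Coprime.coprime_dvd_left h2 (Nat.Coprime.pow_right j hmcop)) h1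
    refine ⟨a, Subtype.ext ?_⟩
    exact orderOf_eq_one_iff.1 h3
  exact le_pCore' hCn hCp hh

end Cfsg.Agent.Lib.Helper63
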