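import Mathlib
import Cfsg.Agent.S0033
import Cfsg.Agent.Lib.Helper63.FpqBase

set_option autoImplicit false

namespace Cfsg.Agent.Lib.Helper63.Fpq

open Cfsg.Agent.Lib.Helper63.S3A

universe u

/-- fixed point of a conjugation of prime order in an invariant coset -/
theorem lift1 {K : Type*} [Group K] (g : K) (m : ℕ) (hm : m.Prime) (hg : g ^ m = 1)
    (N : Subgroup K) [Finite N] (hNm : ¬ m ∣ Nat.card N) (hN : ∀ k ∈ N, g * k * g⁻¹ ∈ N)
    (y : K) (hy : y⁻¹ * (g * y * g⁻¹) ∈ N) : ∃ k ∈ N, g * (y * k) * g⁻¹ = y * k := by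
  haveI : Fact m.Prime := ⟨hm⟩
  exact fp_coset m (MulAut.conj g).toMonoidHom
    (fun x => by rw [cj_iter, hg]; group) N hNm hN y hy

theorem comm_nil {G : Type*} [Group G] [Finite G] (hG : Group.IsNilpotent G) {p q : ℕ}
    (hp : p.Prime) (hq : q.Prime) (hpq : p ≠ q) (x u : G) (hx : ∃ k, x ^ p ^ k = 1)
    (hu : ∃ k, u ^ q ^ k = 1) : x * u = u * x := by
  haveI : Fact p.Prime := ⟨hp⟩
  haveI : Fact q.Prime := ⟨hq⟩
  have h1 : IsPGroup p (Subgroup.zpowers x) := by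
    obtain ⟨k, hk⟩ := hx
    rintro ⟨g, hg⟩
    obtain ⟨i, rfl⟩ := Subgroup.mem_zpowers_iff.1 hg
    refine ⟨k, Subtype.ext ?_⟩
    show (x ^ i) ^ p ^ k = 1
    rw [← zpow_natCast, ← zpow_mul, mul_comm, zpow_mul, zpow_natCast, hk, one_zpow]
  have h2 : IsPGroup q (Subgroup.zpowers u) := by
    obtain ⟨k, hk⟩ := hu
    rintro ⟨g, hg⟩
    obtain ⟨i, rfl⟩ := Subgroup.mem_zpowers_iff.1 hg
    refine ⟨k, Subtype.ext ?_⟩
    show (u ^ i) ^ q ^ k = 1
    rw [← zpow_natCast, ← zpow_mul, mul_comm, zpow_mul, zpow_natCast, hk, one_zpow]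
  obtain ⟨Sp, hSp⟩ := h1.exists_le_sylow
  obtain ⟨Sq, hSq⟩ := h2.exists_le_sylow
  have hnp : (Sp : Subgroup G).Normal :=
    Sylow.normal_of_normalizerCondition Group.normalizerCondition_of_isNilpotent _
  have hnq : (Sq : Subgroup G).Normal :=
    Sylow.normal_of_normalizerCondition Group.normalizerCondition_of_isNilpotent _
  have hdisj := IsPGroup.disjoint_of_ne p q hpq (Sp : Subgroup G) (Sq : Subgroup G)
    Sp.isPGroup' Sq.isPGroup'
  exact Subgroup.commute_of_normal_of_disjoint _ _ hnp hnq hdisj x u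
    (hSp (Subgroup.mem_zpowers _)) (hSq (Subgroup.mem_zpowers _))

/-- two subgroups of coprime prime power orders meet trivially -/
theorem inter_triv {Γ : Type*} [Group Γ] (R S : Subgroup Γ) {r s : ℕ}
    (hr : r.Prime) (hs : s.Prime) (hrs : r ≠ s) (hR : IsPGroup r R) (hS : IsPGroup s S) :
    ∀ z, z ∈ R → z ∈ S → z = 1 := by
  intro z hzR hzS
  obtain ⟨i, hi⟩ := hR ⟨z, hzR⟩
  obtain ⟨j, hj⟩ := hS ⟨z, hzS⟩
  have h1 : z ^ r ^ i = 1 := congrArg Subtype.val hi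
  have h2 : z ^ s ^ j = 1 := congrArg Subtype.val hj
  have hc : Nat.Coprime (r ^ i) (s ^ j) :=
    Nat.Coprime.pow _ _ ((Nat.coprime_primes hr hs).2 hrs)
  have := root_mem ⊥ z (r ^ i) (s ^ j) h1 hc (by rw [h2]; exact Subgroup.one_mem _)
  exact Subgroup.mem_bot.1 this

/-- A consequence of Thompson's theorem: if `g` of prime order normalizes the `r`-group `R` and
the `s`-group `S` normalizing `R`, has no fixed points on `R`, and its fixed points on `S`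
centralize `R`, then `S` centralizes `R`. -/
theorem thompson_comm {Γ : Type*} [Group Γ] [Finite Γ] (R S : Subgroup Γ) {r s m : ℕ}
    (hr : r.Prime) (hs : s.Prime) (hm : m.Prime) (hrs : r ≠ s) (hsm : s ≠ m)
    (hR : IsPGroup r R) (hS : IsPGroup s S)
    (hRS : ∀ u ∈ S, ∀ x ∈ R, u * x * u⁻¹ ∈ R)
    (g : Γ) (hg : g ^ m = 1) (hgR : ∀ x ∈ R, g * x * g⁻¹ ∈ R) (hgS : ∀ u ∈ S, g * u * g⁻¹ ∈ S)
    (hfR : ∀ x ∈ R, g * x * g⁻¹ = x → x = 1)
    (hfS : ∀ u ∈ S, g * u * g⁻¹ = u → ∀ x ∈ R, u * x = x * u) :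
    ∀ x ∈ R, ∀ u ∈ S, x * u = u * x := by
  classical
  have hint := inter_triv R S hr hs hrs hR hS
  let K : Subgroup Γ :=
    { carrier := {k | ∃ x ∈ R, ∃ u ∈ S, k = x * u}
      mul_mem' := by
        rintro _ _ ⟨x, hx, u, hu, rfl⟩ ⟨x', hx', u', hu', rfl⟩
        exact ⟨x * (u * x' * u⁻¹), R.mul_mem hx (hRS u hu x' hx'), u * u', S.mul_mem hu hu',
          by group⟩
      one_mem' := ⟨1, R.one_mem, 1, S.one_mem, by simp⟩
      inv_mem' := by
        rintro _ ⟨x, hx, u, hu, rfl⟩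
        exact ⟨u⁻¹ * x⁻¹ * u⁻¹⁻¹, hRS _ (S.inv_mem hu) _ (R.inv_mem hx), u⁻¹, S.inv_mem hu,
          by group⟩ }
  have hKmem : ∀ k, k ∈ K ↔ ∃ x ∈ R, ∃ u ∈ S, k = x * u := fun k => Iff.rfl
  let C : Subgroup Γ :=
    { carrier := {u | u ∈ S ∧ ∀ x ∈ R, u * x = x * u}
      mul_mem' := by
        rintro u u' ⟨hu, hu2⟩ ⟨hu', hu2'⟩
        refine ⟨S.mul_mem hu hu', fun x hx => ?_⟩
        rw [mul_assoc, hu2' x hx, ← mul_assoc, hu2 x hx, mul_assoc]
      one_mem' := ⟨S.one_mem, fun x _ => by simp⟩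
      inv_mem' := by
        rintro u ⟨hu, hu2⟩
        refine ⟨S.inv_mem hu, fun x hx => ?_⟩
        have := hu2 x hx
        calc u⁻¹ * x = u⁻¹ * (x * u) * u⁻¹ := by group
          _ = u⁻¹ * (u * x) * u⁻¹ := by rw [this]
          _ = x * u⁻¹ := by group }
  have hCmem : ∀ u, u ∈ C ↔ u ∈ S ∧ ∀ x ∈ R, u * x = x * u := fun u => Iff.rfl
  have hCK : C ≤ K := fun u hu => ⟨1, R.one_mem, u, hu.1, by simp⟩
  have hCS : C ≤ S := fun u hu => hu.1
  have hCconjS : ∀ u ∈ S, ∀ c ∈ C, u * c * u⁻¹ ∈ C := by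
    intro u hu c hc
    refine ⟨S.mul_mem (S.mul_mem hu hc.1) (S.inv_mem hu), fun x hx => ?_⟩
    have h1 : u⁻¹ * x * u⁻¹⁻¹ ∈ R := hRS _ (S.inv_mem hu) x hx
    have h2 := hc.2 _ h1
    calc u * c * u⁻¹ * x = u * (c * (u⁻¹ * x * u⁻¹⁻¹)) * u⁻¹ := by group
      _ = u * ((u⁻¹ * x * u⁻¹⁻¹) * c) * u⁻¹ := by rw [h2]
      _ = x * (u * c * u⁻¹) := by group
  have hCconjK : ∀ k ∈ K, ∀ c ∈ C, k * c * k⁻¹ ∈ C := by
    rintro _ ⟨x, hx, u, hu, rfl⟩ c hc
    have h1 := hCconjS u hu c hc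
    have h2 := h1.2 x hx
    have e : x * u * c * (x * u)⁻¹ = u * c * u⁻¹ := by
      calc x * u * c * (x * u)⁻¹ = x * (u * c * u⁻¹) * x⁻¹ := by group
        _ = (u * c * u⁻¹) * x * x⁻¹ := by rw [h2]
        _ = u * c * u⁻¹ := by group
    rw [e]; exact h1
  haveI hCn : (C.subgroupOf K).Normal := ⟨by
    intro n hn k
    rw [Subgroup.mem_subgroupOf] at hn ⊢
    exact hCconjK k k.2 n hn⟩
  have hgK : ∀ k ∈ K, g * k * g⁻¹ ∈ K := by
    rintro _ ⟨x, hx, u, hu, rfl⟩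
    exact ⟨g * x * g⁻¹, hgR x hx, g * u * g⁻¹, hgS u hu, by group⟩
  have hgR' := norm_inv R g hgR
  have hgC : ∀ c ∈ C, g * c * g⁻¹ ∈ C := by
    intro c hc
    refine ⟨hgS c hc.1, fun x hx => ?_⟩
    have h2 := hc.2 _ (hgR' x hx)
    calc g * c * g⁻¹ * x = g * (c * (g⁻¹ * x * g)) * g⁻¹ := by group
      _ = g * ((g⁻¹ * x * g) * c) * g⁻¹ := by rw [h2]
      _ = x * (g * c * g⁻¹) := by group
  let ψ : K →* K :=
    { toFun := fun k => ⟨g * k * g⁻¹, hgK k k.2⟩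
      map_one' := by apply Subtype.ext; simp
      map_mul' := fun k k' => by
        apply Subtype.ext
        show g * ((k : Γ) * (k' : Γ)) * g⁻¹ = (g * (k : Γ) * g⁻¹) * (g * (k' : Γ) * g⁻¹)
        group }
  have hψ : ∀ k : K, ((ψ k : K) : Γ) = g * k * g⁻¹ := fun k => rfl
  have hψit : ∀ n : ℕ, ∀ k : K, ((ψ^[n] k : K) : Γ) = g ^ n * k * (g ^ n)⁻¹ := by
    intro n
    induction n with
    | zero => intro k; simp
    | succ n ih =>
      intro k
      rw [Function.iterate_succ_apply', hψ, ih, pow_succ']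
      group
  have hψC : C.subgroupOf K ≤ (C.subgroupOf K).comap ψ := by
    intro n hn
    rw [Subgroup.mem_comap, Subgroup.mem_subgroupOf]
    rw [Subgroup.mem_subgroupOf] at hn
    exact hgC n hn
  let φ : K ⧸ C.subgroupOf K →* K ⧸ C.subgroupOf K :=
    QuotientGroup.map (C.subgroupOf K) (C.subgroupOf K) ψ hψC
  have hφmk : ∀ k : K, φ (k : K ⧸ C.subgroupOf K) = ((ψ k : K) : K ⧸ C.subgroupOf K) :=
    fun k => rfl
  have hφit : ∀ n : ℕ, ∀ k : K, φ^[n] (k : K ⧸ C.subgroupOf K) =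
      ((ψ^[n] k : K) : K ⧸ C.subgroupOf K) := by
    intro n
    induction n with
    | zero => intro k; rfl
    | succ n ih =>
      intro k
      rw [Function.iterate_succ_apply', ih, hφmk, ← Function.iterate_succ_apply' ψ n k]
  have hφm : (⇑φ)^[m] = _root_.id := by
    funext y
    induction y using QuotientGroup.induction_on with
    | H k =>
      rw [hφit]
      have : ψ^[m] k = k := by
        apply Subtype.ext
        rw [hψit, hg]; group
      rw [this]; rfl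
  haveI : Finite C := inferInstance
  have hCm : ¬ m ∣ Nat.card C := not_dvd_pgroup hs hm hsm C (hS.to_le hCS)
  have hφfp : MonoidHom.FixedPointFree φ := by
    intro y
    induction y using QuotientGroup.induction_on with
    | H k =>
      intro hk
      rw [hφmk] at hk
      have h1 : k⁻¹ * ψ k ∈ C.subgroupOf K := by
        rw [← QuotientGroup.eq]; exact hk.symm
      rw [Subgroup.mem_subgroupOf] at h1
      have h1' : (k : Γ)⁻¹ * (g * (k : Γ) * g⁻¹) ∈ C := h1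
      obtain ⟨c, hc, hcfix⟩ := lift1 g m hm hg C hCm hgC (k : Γ) h1'
      obtain ⟨x, hx, u, hu, hkxu⟩ := (hKmem _).1 k.2
      have hu' : u * c ∈ S := S.mul_mem hu hc.1
      have e1 : g * x * g⁻¹ * (g * (u * c) * g⁻¹) = x * (u * c) := by
        have : g * x * g⁻¹ * (g * (u * c) * g⁻¹) = g * (x * u * c) * g⁻¹ := by group
        rw [this, ← hkxu, hcfix, hkxu]; group
      have e2 : x⁻¹ * (g * x * g⁻¹) = (u * c) * (g * (u * c) * g⁻¹)⁻¹ := by
        calc x⁻¹ * (g * x * g⁻¹) = x⁻¹ * (g * x * g⁻¹ * (g * (u * c) * g⁻¹)) * (g * (u * c) * g⁻¹)⁻¹ := by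
              group
          _ = x⁻¹ * (x * (u * c)) * (g * (u * c) * g⁻¹)⁻¹ := by rw [e1]
          _ = (u * c) * (g * (u * c) * g⁻¹)⁻¹ := by group
      have e3 : x⁻¹ * (g * x * g⁻¹) = 1 := by
        apply hint
        · exact R.mul_mem (R.inv_mem hx) (hgR x hx)
        · rw [e2]; exact S.mul_mem hu' (S.inv_mem (hgS _ hu'))
      have e4 : g * x * g⁻¹ = x := by
        have := congrArg (fun z => x * z) e3
        simpa using this
      have hx1 : x = 1 := hfR x hx e4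
      have e5 : g * (u * c) * g⁻¹ = u * c := by
        rw [e4, hx1] at e1
        simpa using e1
      have huC : u * c ∈ C := ⟨hu', hfS _ hu' e5⟩
      have hkC : (k : Γ) ∈ C := by
        rw [hkxu, hx1, one_mul]
        have : u = (u * c) * c⁻¹ := by group
        rw [this]; exact C.mul_mem huC (C.inv_mem hc)
      exact (QuotientGroup.eq_one_iff _).2 (Subgroup.mem_subgroupOf.2 hkC)
  have hnil : Group.IsNilpotent (K ⧸ C.subgroupOf K) :=
    Cfsg.Agent.S0033.fpf_nilpotent_of_iterate φ hφfp hm hφm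
  intro x hx u hu
  have hxK : x ∈ K := ⟨x, hx, 1, S.one_mem, by simp⟩
  have huK : u ∈ K := ⟨1, R.one_mem, u, hu, by simp⟩
  have hxo : ∃ k, ((⟨x, hxK⟩ : K) : K ⧸ C.subgroupOf K) ^ r ^ k = 1 := by
    obtain ⟨k, hk⟩ := hR ⟨x, hx⟩
    refine ⟨k, ?_⟩
    have h1 : x ^ r ^ k = 1 := congrArg Subtype.val hk
    have h2 : (⟨x, hxK⟩ : K) ^ r ^ k = 1 := Subtype.ext h1
    rw [← QuotientGroup.mk_pow, h2]; rfl
  have huo : ∃ k, ((⟨u, huK⟩ : K) : K ⧸ C.subgroupOf K) ^ s ^ k = 1 := by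
    obtain ⟨k, hk⟩ := hS ⟨u, hu⟩
    refine ⟨k, ?_⟩
    have h1 : u ^ s ^ k = 1 := congrArg Subtype.val hk
    have h2 : (⟨u, huK⟩ : K) ^ s ^ k = 1 := Subtype.ext h1
    rw [← QuotientGroup.mk_pow, h2]; rfl
  have hcomm := comm_nil hnil hr hs hrs _ _ hxo huo
  have h3 : ((⟨x, hxK⟩ * ⟨u, huK⟩ : K) : K ⧸ C.subgroupOf K) =
      ((⟨u, huK⟩ * ⟨x, hxK⟩ : K) : K ⧸ C.subgroupOf K) := hcomm
  rw [QuotientGroup.eq, Subgroup.mem_subgroupOf] at h3
  have h4 : (x * u)⁻¹ * (u * x) ∈ C := h3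
  have h5 : (x * u)⁻¹ * (u * x) = 1 := by
    apply hint
    · have e : (x * u)⁻¹ * (u * x) = (u⁻¹ * x⁻¹ * u⁻¹⁻¹) * x := by group
      rw [e]
      exact R.mul_mem (hRS _ (S.inv_mem hu) _ (R.inv_mem hx)) hx
    · exact h4.1
  exact (inv_mul_eq_one.1 h5)

end Cfsg.Agent.Lib.Helper63.Fpq
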