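import Mathlib
import Cfsg.Agent.Lib.Helper63.FpqCfg

set_option autoImplicit false

namespace Cfsg.Agent.Lib.Helper63.Fpq

open Cfsg.Agent.Lib.Helper63.S3A

universe u

/-- the centralizer of `R` in `S` -/
def cent {Γ : Type*} [Group Γ] (R S : Subgroup Γ) : Subgroup Γ where
  carrier := {u | u ∈ S ∧ ∀ x ∈ R, u * x = x * u}
  mul_mem' := by
    rintro u u' ⟨hu, hu2⟩ ⟨hu', hu2'⟩
    refine ⟨S.mul_mem hu hu', fun x hx => ?_⟩
    rw [mul_assoc, hu2' x hx, ← mul_assoc, hu2 x hx, mul_assoc]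
  one_mem' := ⟨S.one_mem, fun x _ => by simp⟩
  inv_mem' := by
    rintro u ⟨hu, hu2⟩
    refine ⟨S.inv_mem hu, fun x hx => ?_⟩
    have := hu2 x hx
    calc u⁻¹ * x = u⁻¹ * (x * u) * u⁻¹ := by group
      _ = u⁻¹ * (u * x) * u⁻¹ := by rw [this]
      _ = x * u⁻¹ := by group

theorem mem_cent {Γ : Type*} [Group Γ] (R S : Subgroup Γ) (u : Γ) :
    u ∈ cent R S ↔ u ∈ S ∧ ∀ x ∈ R, u * x = x * u := Iff.rfl

theorem cent_le {Γ : Type*} [Group Γ] (R S : Subgroup Γ) : cent R S ≤ S := fun _ h => h.1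

/-- the fixed points of conjugation by `g` in `S` -/
def fixg {Γ : Type*} [Group Γ] (g : Γ) (S : Subgroup Γ) : Subgroup Γ where
  carrier := {u | u ∈ S ∧ g * u * g⁻¹ = u}
  mul_mem' := by
    rintro u u' ⟨hu, hu2⟩ ⟨hu', hu2'⟩
    refine ⟨S.mul_mem hu hu', ?_⟩
    calc g * (u * u') * g⁻¹ = (g * u * g⁻¹) * (g * u' * g⁻¹) := by group
      _ = u * u' := by rw [hu2, hu2']
  one_mem' := ⟨S.one_mem, by simp⟩
  inv_mem' := by
    rintro u ⟨hu, hu2⟩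
    refine ⟨S.inv_mem hu, ?_⟩
    calc g * u⁻¹ * g⁻¹ = (g * u * g⁻¹)⁻¹ := by group
      _ = u⁻¹ := by rw [hu2]

theorem mem_fixg {Γ : Type*} [Group Γ] (g : Γ) (S : Subgroup Γ) (u : Γ) :
    u ∈ fixg g S ↔ u ∈ S ∧ g * u * g⁻¹ = u := Iff.rfl

theorem fixg_le {Γ : Type*} [Group Γ] (g : Γ) (S : Subgroup Γ) : fixg g S ≤ S := fun _ h => h.1

/-- conjugation by `g` normalizing `R` and `S` preserves the centralizer of `R` in `S` -/
theorem cent_conj {Γ : Type*} [Group Γ] (R S : Subgroup Γ) [Finite R] (g : Γ)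
    (hgR : ∀ x ∈ R, g * x * g⁻¹ ∈ R) (hgS : ∀ u ∈ S, g * u * g⁻¹ ∈ S) :
    ∀ c ∈ cent R S, g * c * g⁻¹ ∈ cent R S := by
  have hgR' := norm_inv R g hgR
  intro c hc
  refine ⟨hgS c hc.1, fun x hx => ?_⟩
  have h2 := hc.2 _ (hgR' x hx)
  calc g * c * g⁻¹ * x = g * (c * (g⁻¹ * x * g)) * g⁻¹ := by group
    _ = g * ((g⁻¹ * x * g) * c) * g⁻¹ := by rw [h2]
    _ = x * (g * c * g⁻¹) := by group

/-- coprime action: if every commutator `x⁻¹ (u x u⁻¹)` commutes with `u`, the groups commute -/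
theorem coprime_comm {Γ : Type*} [Group Γ] (R S : Subgroup Γ) {r s : ℕ}
    (hr : r.Prime) (hs : s.Prime) (hrs : r ≠ s) (hR : IsPGroup r R) (hS : IsPGroup s S)
    (hRS : ∀ u ∈ S, ∀ x ∈ R, u * x * u⁻¹ ∈ R)
    (x u : Γ) (hx : x ∈ R) (hu : u ∈ S)
    (hc : (x⁻¹ * (u * x * u⁻¹)) * u = u * (x⁻¹ * (u * x * u⁻¹))) : x * u = u * x := by
  set c := x⁻¹ * (u * x * u⁻¹) with hcdef
  have hcR : c ∈ R := R.mul_mem (R.inv_mem hx) (hRS u hu x hx)
  have hpow : ∀ j : ℕ, u ^ j * x * (u ^ j)⁻¹ = x * c ^ j := by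
    intro j
    induction j with
    | zero => simp
    | succ j ih =>
      have hcj : u * c ^ j * u⁻¹ = c ^ j := by
        have : Commute u (c ^ j) := (Commute.pow_right hc.symm j)
        rw [this.eq]; group
      calc u ^ (j + 1) * x * (u ^ (j + 1))⁻¹ = u * (u ^ j * x * (u ^ j)⁻¹) * u⁻¹ := by
            rw [pow_succ']; group
        _ = u * (x * c ^ j) * u⁻¹ := by rw [ih]
        _ = (u * x * u⁻¹) * (u * c ^ j * u⁻¹) := by group
        _ = (x * c) * c ^ j := by rw [hcj, hcdef]; group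
        _ = x * c ^ (j + 1) := by rw [pow_succ']; group
  obtain ⟨k, hk⟩ := hS ⟨u, hu⟩
  have huk : u ^ s ^ k = 1 := congrArg Subtype.val hk
  have h1 := hpow (s ^ k)
  rw [huk] at h1
  have h2 : c ^ s ^ k = 1 := by
    have : x * c ^ s ^ k = x := by rw [← h1]; group
    simpa using this
  obtain ⟨i, hi⟩ := hR ⟨c, hcR⟩
  have hci : c ^ r ^ i = 1 := congrArg Subtype.val hi
  have hcop : Nat.Coprime (r ^ i) (s ^ k) :=
    Nat.Coprime.pow _ _ ((Nat.coprime_primes hr hs).2 hrs)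
  have hc1 : c = 1 := by
    have := root_mem ⊥ c (r ^ i) (s ^ k) hci hcop (by rw [h2]; exact Subgroup.one_mem _)
    exact Subgroup.mem_bot.1 this
  have h3 : u * x * u⁻¹ = x := by
    have : x * c = x := by rw [hc1, mul_one]
    rw [hcdef] at this
    have e : x * (x⁻¹ * (u * x * u⁻¹)) = u * x * u⁻¹ := by group
    rw [e] at this; exact this
  calc x * u = (u * x * u⁻¹) * u := by rw [h3]
    _ = u * x := by group

section

variable {W : Type u} [AddCommGroup W]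

/-- invariance of an additive subgroup under the whole configuration -/
def Inv (a t : LAut W) (R S : Subgroup (LAut W)) (U : AddSubgroup W) : Prop :=
  (∀ w ∈ U, a w ∈ U) ∧ (∀ w ∈ U, t w ∈ U) ∧ (∀ x ∈ R, ∀ w ∈ U, x w ∈ U) ∧
    (∀ u ∈ S, ∀ w ∈ U, u w ∈ U)

/-- a configuration all of whose proper sub-configurations satisfy the conclusion -/
structure Min (p q r s ℓ : ℕ) (a t : LAut W) (R S : Subgroup (LAut W)) : Prop where
  cfg : Cfg p q r s ℓ a t R S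
  res : ∀ U : AddSubgroup W, U ≠ ⊤ → Inv a t R S U →
    ∀ x ∈ R, ∀ u ∈ S, ∀ w ∈ U, x (u w) = u (x w)
  subR : ∀ R₁ : Subgroup (LAut W), R₁ ≤ R → R₁ ≠ R → (∀ x ∈ R₁, a * x * a⁻¹ ∈ R₁) →
    (∀ x ∈ R₁, t * x * t⁻¹ ∈ R₁) → (∀ u ∈ S, ∀ x ∈ R₁, u * x * u⁻¹ ∈ R₁) →
    ∀ x ∈ R₁, ∀ u ∈ S, x * u = u * x
  subS : ∀ S₁ : Subgroup (LAut W), S₁ ≤ S → S₁ ≠ S → (∀ u ∈ S₁, a * u * a⁻¹ ∈ S₁) →
    (∀ u ∈ S₁, t * u * t⁻¹ ∈ S₁) → ∀ x ∈ R, ∀ u ∈ S₁, x * u = u * x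

variable [Finite W] {p q r s ℓ : ℕ} {a t : LAut W} {R S : Subgroup (LAut W)}

theorem conj_fix_of {c t x : LAut W} (hcx : c * x = x * c)
    (hxt : c * t * c⁻¹ * x * (c * t * c⁻¹)⁻¹ = x) : t * x * t⁻¹ = x := by
  have e1 : c⁻¹ * x * c = x := by rw [mul_assoc, ← hcx, inv_mul_cancel_left]
  have e2 : t * x * t⁻¹ = c⁻¹ * (c * t * c⁻¹ * x * (c * t * c⁻¹)⁻¹) * c := by
    calc t * x * t⁻¹ = t * (c⁻¹ * x * c) * t⁻¹ := by rw [e1]
      _ = c⁻¹ * (c * t * c⁻¹ * x * (c * t * c⁻¹)⁻¹) * c := by group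
  rw [e2, hxt, e1]

theorem Cfg.conj (h : Cfg p q r s ℓ a t R S) {c : LAut W} (hc : c ∈ Subgroup.zpowers a) :
    Cfg p q r s ℓ a (c * t * c⁻¹) R S := by
  have hca : c * a = a * c := h.zp_comm hc rfl
  have hcz : ∀ z ∈ Subgroup.zpowers a, c * z * c⁻¹ = z := by
    intro z hz
    have h1 : z * a = a * z := h.zp_comm hz rfl
    have h2 : c * z = z * c := h.zp_comm hc h1.symm
    rw [h2]; group
  have hcinv : c⁻¹ ∈ Subgroup.zpowers a := Subgroup.inv_mem _ hc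
  have e0 : c⁻¹ * a * c = a := by rw [mul_assoc, ← hca, inv_mul_cancel_left]
  have econj : c * t * c⁻¹ * a * (c * t * c⁻¹)⁻¹ = t * a * t⁻¹ := by
    calc c * t * c⁻¹ * a * (c * t * c⁻¹)⁻¹ = c * (t * (c⁻¹ * a * c) * t⁻¹) * c⁻¹ := by group
      _ = c * (t * a * t⁻¹) * c⁻¹ := by rw [e0]
      _ = t * a * t⁻¹ := hcz _ h.nrm
  have hcR := h.zp_le_nz R h.Ra
  have hcS := h.zp_le_nz S h.Sa
  have hcomm_of : ∀ x : LAut W, a * x * a⁻¹ = x → c * x = x * c := by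
    intro x hxa
    apply h.zp_comm hc
    calc a * x = (a * x * a⁻¹) * a := by group
      _ = x * a := by rw [hxa]
  exact
    { hp := h.hp, hq := h.hq, hr := h.hr, hs := h.hs, hℓ := h.hℓ, hrs := h.hrs, hrℓ := h.hrℓ
      hrp := h.hrp, hrq := h.hrq, hsp := h.hsp, hsq := h.hsq, hℓp := h.hℓp, hℓq := h.hℓq
      hpq := h.hpq
      aq := h.aq
      tp := by rw [conj_pow, h.tp]; group
      nrm := by rw [econj]; exact h.nrm
      gen := by rw [econj]; exact h.gen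
      exp := h.exp
      fp := by
        intro w hw1 hw2
        have h1 : c⁻¹ w = w := h.zp_fix hcinv hw1
        have h2 : c (t (c⁻¹ w)) = w := hw2
        rw [h1] at h2
        apply h.fp w hw1
        have h3 : c⁻¹ (c (t w)) = c⁻¹ w := by rw [h2]
        rw [inv_app, h1] at h3
        exact h3
      Rp := h.Rp, Sp := h.Sp, Ra := h.Ra
      Rt := by
        intro x hx
        have e : c * t * c⁻¹ * x * (c * t * c⁻¹)⁻¹ = c * (t * (c⁻¹ * x * c) * t⁻¹) * c⁻¹ := by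
          group
        rw [e]
        exact nz_conj (hcR hc) _ (h.Rt _ (nz_conj' (hcR hc) x hx))
      Sa := h.Sa
      St := by
        intro x hx
        have e : c * t * c⁻¹ * x * (c * t * c⁻¹)⁻¹ = c * (t * (c⁻¹ * x * c) * t⁻¹) * c⁻¹ := by
          group
        rw [e]
        exact nz_conj (hcS hc) _ (h.St _ (nz_conj' (hcS hc) x hx))
      RS := h.RS
      Rfp := by
        intro x hx hxa hxt
        exact h.Rfp x hx hxa (conj_fix_of (hcomm_of x hxa) hxt)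
      Sfp := by
        intro x hx hxa hxt
        exact h.Sfp x hx hxa (conj_fix_of (hcomm_of x hxa) hxt) }

/-- common fixed point of `a` and `t` in an invariant coset -/
theorem Cfg.lift (h : Cfg p q r s ℓ a t R S) (N : Subgroup (LAut W))
    (hNq : ¬ q ∣ Nat.card N) (hNp : ¬ p ∣ Nat.card N)
    (hNa : ∀ k ∈ N, a * k * a⁻¹ ∈ N) (hNt : ∀ k ∈ N, t * k * t⁻¹ ∈ N) (y : LAut W)
    (hya : y⁻¹ * (a * y * a⁻¹) ∈ N) (hyt : y⁻¹ * (t * y * t⁻¹) ∈ N) :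
    ∃ k ∈ N, a * (y * k) * a⁻¹ = y * k ∧ t * (y * k) * t⁻¹ = y * k := by
  haveI : Fact q.Prime := ⟨h.hq⟩
  haveI : Fact p.Prime := ⟨h.hp⟩
  exact fp2 q p (MulAut.conj a).toMonoidHom (MulAut.conj t).toMonoidHom
    (fun x => by rw [cj_iter, h.aq]; group) (fun x => by rw [cj_iter, h.tp]; group)
    (fun x hx => h.fix_t hx) N hNq hNp hNa hNt y hya hyt

theorem Cfg.Rq (h : Cfg p q r s ℓ a t R S) (N : Subgroup (LAut W)) (hN : N ≤ R) :
    ¬ q ∣ Nat.card N := not_dvd_pgroup h.hr h.hq h.hrq N (h.Rp.to_le hN)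

theorem Cfg.Rpp (h : Cfg p q r s ℓ a t R S) (N : Subgroup (LAut W)) (hN : N ≤ R) :
    ¬ p ∣ Nat.card N := not_dvd_pgroup h.hr h.hp h.hrp N (h.Rp.to_le hN)

theorem Cfg.Sq (h : Cfg p q r s ℓ a t R S) (N : Subgroup (LAut W)) (hN : N ≤ S) :
    ¬ q ∣ Nat.card N := not_dvd_pgroup h.hs h.hq h.hsq N (h.Sp.to_le hN)

theorem Cfg.Spp (h : Cfg p q r s ℓ a t R S) (N : Subgroup (LAut W)) (hN : N ≤ S) :
    ¬ p ∣ Nat.card N := not_dvd_pgroup h.hs h.hp h.hsp N (h.Sp.to_le hN)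

/-- an `a`,`t`-invariant subgroup of `R` modulo which `a` and `t` act trivially is everything -/
theorem Cfg.Rtriv (h : Cfg p q r s ℓ a t R S) (N : Subgroup (LAut W)) (hN : N ≤ R)
    (hNa : ∀ k ∈ N, a * k * a⁻¹ ∈ N) (hNt : ∀ k ∈ N, t * k * t⁻¹ ∈ N) (y : LAut W)
    (hy : y ∈ R) (hya : y⁻¹ * (a * y * a⁻¹) ∈ N) (hyt : y⁻¹ * (t * y * t⁻¹) ∈ N) : y ∈ N := by
  obtain ⟨k, hk, hk1, hk2⟩ := h.lift N (h.Rq N hN) (h.Rpp N hN) hNa hNt y hya hyt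
  have h1 : y * k = 1 := h.Rfp _ (R.mul_mem hy (hN hk)) hk1 hk2
  have : y = k⁻¹ := eq_inv_of_mul_eq_one_left h1
  rw [this]; exact N.inv_mem hk

theorem Cfg.Striv (h : Cfg p q r s ℓ a t R S) (N : Subgroup (LAut W)) (hN : N ≤ S)
    (hNa : ∀ k ∈ N, a * k * a⁻¹ ∈ N) (hNt : ∀ k ∈ N, t * k * t⁻¹ ∈ N) (y : LAut W)
    (hy : y ∈ S) (hya : y⁻¹ * (a * y * a⁻¹) ∈ N) (hyt : y⁻¹ * (t * y * t⁻¹) ∈ N) : y ∈ N := by
  obtain ⟨k, hk, hk1, hk2⟩ := h.lift N (h.Sq N hN) (h.Spp N hN) hNa hNt y hya hyt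
  have h1 : y * k = 1 := h.Sfp _ (S.mul_mem hy (hN hk)) hk1 hk2
  have : y = k⁻¹ := eq_inv_of_mul_eq_one_left h1
  rw [this]; exact N.inv_mem hk

theorem Min.conj (h : Min p q r s ℓ a t R S) {c : LAut W} (hc : c ∈ Subgroup.zpowers a) :
    Min p q r s ℓ a (c * t * c⁻¹) R S := by
  have hcfg := h.cfg
  have et : t = c⁻¹ * (c * t * c⁻¹) * c := by group
  refine ⟨hcfg.conj hc, ?_, ?_, ?_⟩
  · intro U hU hinv
    apply h.res U hU
    refine ⟨hinv.1, ?_, hinv.2.2⟩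
    have hst := hcfg.zp_stab U hinv.1
    intro w hw
    rw [et]
    have h1 : c w ∈ U := ((hst hc) w).2 hw
    have h2 := hinv.2.1 _ h1
    exact (((stabU U).inv_mem (hst hc)) _).2 h2
  · intro R₁ hle hne hR₁a hR₁t hR₁S
    apply h.subR R₁ hle hne hR₁a _ hR₁S
    have hnz := hcfg.zp_le_nz R₁ hR₁a
    intro x hx
    have e : t * x * t⁻¹ = c⁻¹ * ((c * t * c⁻¹) * (c * x * c⁻¹) * (c * t * c⁻¹)⁻¹) * c := by group
    rw [e]
    exact nz_conj' (hnz hc) _ (hR₁t _ (nz_conj (hnz hc) x hx))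
  · intro S₁ hle hne hS₁a hS₁t
    apply h.subS S₁ hle hne hS₁a
    have hnz := hcfg.zp_le_nz S₁ hS₁a
    intro x hx
    have e : t * x * t⁻¹ = c⁻¹ * ((c * t * c⁻¹) * (c * x * c⁻¹) * (c * t * c⁻¹)⁻¹) * c := by group
    rw [e]
    exact nz_conj' (hnz hc) _ (hS₁t _ (nz_conj (hnz hc) x hx))

/-- the fixed points of `a` in `R` and in `S` commute -/
theorem Cfg.fix_comm (h : Cfg p q r s ℓ a t R S) :
    ∀ x ∈ fixg a R, ∀ u ∈ fixg a S, x * u = u * x := by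
  apply thompson_comm (fixg a R) (fixg a S) h.hr h.hs h.hp h.hrs h.hsp
    (h.Rp.to_le (fixg_le a R)) (h.Sp.to_le (fixg_le a S)) _ t h.tp
  · intro x hx
    exact ⟨h.Rt x hx.1, h.fix_t hx.2⟩
  · intro u hu
    exact ⟨h.St u hu.1, h.fix_t hu.2⟩
  · intro x hx hxt
    exact h.Rfp x hx.1 hx.2 hxt
  · intro u hu hut x _
    rw [h.Sfp u hu.1 hu.2 hut]; simp
  · intro u hu x hx
    refine ⟨h.RS u hu.1 x hx.1, ?_⟩
    calc a * (u * x * u⁻¹) * a⁻¹ = (a * u * a⁻¹) * (a * x * a⁻¹) * (a * u * a⁻¹)⁻¹ := by group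
      _ = u * x * u⁻¹ := by rw [hu.2, hx.2]

/-- if `a` centralizes `R`, then `S` centralizes `R` -/
theorem Cfg.comm_of_a (h : Cfg p q r s ℓ a t R S) (ha : ∀ x ∈ R, a * x * a⁻¹ = x) :
    ∀ x ∈ R, ∀ u ∈ S, x * u = u * x := by
  have hobs := h.fix_comm
  have hC : ∀ u ∈ S, u ∈ cent R S := by
    intro u hu
    have hCa : ∀ k ∈ cent R S, a * k * a⁻¹ ∈ cent R S := cent_conj R S a h.Ra h.Sa
    have h1 : u⁻¹ * (a * u * a⁻¹) ∈ cent R S := by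
      refine ⟨S.mul_mem (S.inv_mem hu) (h.Sa u hu), fun x hx => ?_⟩
      have hux : u * x * u⁻¹ ∈ R := h.RS u hu x hx
      have e1 : a * x = x * a := by
        calc a * x = (a * x * a⁻¹) * a := by group
          _ = x * a := by rw [ha x hx]
      have e2 : a * (u * x * u⁻¹) = (u * x * u⁻¹) * a := by
        calc a * (u * x * u⁻¹) = (a * (u * x * u⁻¹) * a⁻¹) * a := by group
          _ = (u * x * u⁻¹) * a := by rw [ha _ hux]
      have e3 : a⁻¹ * x = x * a⁻¹ := by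
        calc a⁻¹ * x = a⁻¹ * (x * a) * a⁻¹ := by group
          _ = a⁻¹ * (a * x) * a⁻¹ := by rw [e1]
          _ = x * a⁻¹ := by group
      calc u⁻¹ * (a * u * a⁻¹) * x = u⁻¹ * a * u * (a⁻¹ * x) := by group
        _ = u⁻¹ * a * u * (x * a⁻¹) := by rw [e3]
        _ = u⁻¹ * (a * (u * x * u⁻¹)) * u * a⁻¹ := by group
        _ = u⁻¹ * ((u * x * u⁻¹) * a) * u * a⁻¹ := by rw [e2]
        _ = x * (u⁻¹ * (a * u * a⁻¹)) := by group
    obtain ⟨k, hk, hkfix⟩ := lift1 a q h.hq h.aq (cent R S) (h.Sq _ (cent_le R S)) hCa u h1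
    have huk : u * k ∈ fixg a S := ⟨S.mul_mem hu hk.1, hkfix⟩
    have hukC : u * k ∈ cent R S :=
      ⟨huk.1, fun x hx => (hobs x ⟨hx, ha x hx⟩ _ huk).symm⟩
    have : u = (u * k) * k⁻¹ := by group
    rw [this]
    exact (cent R S).mul_mem hukC ((cent R S).inv_mem hk)
  intro x hx u hu
  exact ((hC u hu).2 x hx).symm

/-- the generators `x⁻¹ (u x u⁻¹)` -/
def comms (R S : Subgroup (LAut W)) : Set (LAut W) :=
  {c | ∃ x ∈ R, ∃ u ∈ S, c = x⁻¹ * (u * x * u⁻¹)}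

theorem comms_le (h : Cfg p q r s ℓ a t R S) : Subgroup.closure (comms R S) ≤ R := by
  rw [Subgroup.closure_le]
  rintro _ ⟨x, hx, u, hu, rfl⟩
  exact R.mul_mem (R.inv_mem hx) (h.RS u hu x hx)

/-- Step A: in a minimal counterexample `R` is generated by commutators with `S` -/
theorem Min.genA (h : Min p q r s ℓ a t R S) (hnc : ¬ ∀ x ∈ R, ∀ u ∈ S, x * u = u * x) :
    Subgroup.closure (comms R S) = R := by
  by_contra hne
  apply hnc
  have hcfg := h.cfg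
  have hle := comms_le hcfg
  have hconj : ∀ g : LAut W, (∀ x ∈ R, g * x * g⁻¹ ∈ R) → (∀ u ∈ S, g * u * g⁻¹ ∈ S) →
      ∀ c ∈ Subgroup.closure (comms R S), g * c * g⁻¹ ∈ Subgroup.closure (comms R S) := by
    intro g hgR hgS
    apply closure_conj_mem
    rintro _ ⟨x, hx, u, hu, rfl⟩
    apply Subgroup.subset_closure
    exact ⟨g * x * g⁻¹, hgR x hx, g * u * g⁻¹, hgS u hu, by group⟩
  have hsub := h.subR _ hle hne (hconj a hcfg.Ra hcfg.Sa) (hconj t hcfg.Rt hcfg.St)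
    (fun u hu => hconj u (hcfg.RS u hu)
      (fun u' hu' => S.mul_mem (S.mul_mem hu hu') (S.inv_mem hu)))
  intro x hx u hu
  apply coprime_comm R S hcfg.hr hcfg.hs hcfg.hrs hcfg.Rp hcfg.Sp hcfg.RS x u hx hu
  exact hsub _ (Subgroup.subset_closure ⟨x, hx, u, hu, rfl⟩) u hu

/-- Step B: a proper invariant normal subgroup of `R` is central in `R` and centralized by `S` -/
theorem Min.centB (h : Min p q r s ℓ a t R S) (hnc : ¬ ∀ x ∈ R, ∀ u ∈ S, x * u = u * x)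
    (N : Subgroup (LAut W)) (hN : N ≤ R) (hne : N ≠ R) (hNa : ∀ x ∈ N, a * x * a⁻¹ ∈ N)
    (hNt : ∀ x ∈ N, t * x * t⁻¹ ∈ N) (hNS : ∀ u ∈ S, ∀ x ∈ N, u * x * u⁻¹ ∈ N)
    (hNR : ∀ x ∈ R, ∀ n ∈ N, x * n * x⁻¹ ∈ N) :
    (∀ n ∈ N, ∀ u ∈ S, n * u = u * n) ∧ (∀ n ∈ N, ∀ x ∈ R, n * x = x * n) := by
  have hS := h.subR N hN hne hNa hNt hNS
  refine ⟨hS, ?_⟩
  have hgen := h.genA hnc
  have hle : Subgroup.closure (comms R S) ≤ cent N R := by
    rw [Subgroup.closure_le]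
    rintro _ ⟨x, hx, u, hu, rfl⟩
    refine ⟨R.mul_mem (R.inv_mem hx) (h.cfg.RS u hu x hx), fun n hn => ?_⟩
    have h1 : u⁻¹ * n * u = n := by
      rw [mul_assoc, hS n hn u hu]; group
    have h2 : x * n * x⁻¹ ∈ N := hNR x hx n hn
    have h3 : u * (x * n * x⁻¹) * u⁻¹ = x * n * x⁻¹ := by
      rw [← hS _ h2 u hu]; group
    calc x⁻¹ * (u * x * u⁻¹) * n = x⁻¹ * u * x * (u⁻¹ * n * u) * u⁻¹ := by group
      _ = x⁻¹ * u * x * n * u⁻¹ := by rw [h1]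
      _ = x⁻¹ * (u * (x * n * x⁻¹) * u⁻¹) * (u * x * u⁻¹) := by group
      _ = x⁻¹ * (x * n * x⁻¹) * (u * x * u⁻¹) := by rw [h3]
      _ = n * (x⁻¹ * (u * x * u⁻¹)) := by group
  rw [hgen] at hle
  intro n hn x hx
  exact ((hle hx).2 n hn).symm

end

end Cfsg.Agent.Lib.Helper63.Fpq
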