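import Mathlib
import Cfsg.Agent.Lib.Helper63.FpqMin

set_option autoImplicit false

namespace Cfsg.Agent.Lib.Helper63.Fpq

open Cfsg.Agent.Lib.Helper63.S3A

universe u

section

variable {W : Type u} [AddCommGroup W]

/-- the fixed space of a group of automorphisms -/
def FixSp (Y : Subgroup (LAut W)) : AddSubgroup W where
  carrier := {w | ∀ y ∈ Y, y w = w}
  add_mem' := by
    intro v w hv hw y hy
    rw [map_add, hv y hy, hw y hy]
  zero_mem' := fun y _ => map_zero y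
  neg_mem' := by
    intro v hv y hy
    rw [map_neg, hv y hy]

theorem mem_FixSp (Y : Subgroup (LAut W)) (w : W) : w ∈ FixSp Y ↔ ∀ y ∈ Y, y w = w := Iff.rfl

theorem FixSp_anti {Y Y' : Subgroup (LAut W)} (h : Y ≤ Y') : FixSp Y' ≤ FixSp Y :=
  fun _ hw y hy => hw y (h hy)

theorem FixSp_sup {Y Y' : Subgroup (LAut W)} {w : W} (h1 : w ∈ FixSp Y) (h2 : w ∈ FixSp Y') :
    w ∈ FixSp (Y ⊔ Y') := by
  have : Y ⊔ Y' ≤ stab w := sup_le (fun y hy => h1 y hy) (fun y hy => h2 y hy)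
  exact fun y hy => this hy

/-- a maximal subgroup of `Z` with nonzero fixed space -/
def MaxFix (Z Y : Subgroup (LAut W)) : Prop :=
  Y ≤ Z ∧ FixSp Y ≠ ⊥ ∧ ∀ Y' : Subgroup (LAut W), Y ≤ Y' → Y' ≤ Z → FixSp Y' ≠ ⊥ → Y' = Y

/-- the conjugate subgroup -/
def cjS (g : LAut W) (Y : Subgroup (LAut W)) : Subgroup (LAut W) := Y.map (cj g)

theorem mem_cjS {g x : LAut W} {Y : Subgroup (LAut W)} : x ∈ cjS g Y ↔ g⁻¹ * x * g ∈ Y := by
  constructor
  · rintro ⟨y, hy, rfl⟩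
    have : g⁻¹ * cj g y * g = y := by rw [cj_apply]; group
    rw [this]; exact hy
  · intro h
    refine ⟨g⁻¹ * x * g, h, ?_⟩
    rw [cj_apply]; group

theorem conj_mem_cjS {g y : LAut W} {Y : Subgroup (LAut W)} (hy : y ∈ Y) :
    g * y * g⁻¹ ∈ cjS g Y := ⟨y, hy, rfl⟩

theorem cjS_one (Y : Subgroup (LAut W)) : cjS 1 Y = Y := by
  ext x; rw [mem_cjS]; simp

theorem cjS_mul (g h : LAut W) (Y : Subgroup (LAut W)) : cjS (g * h) Y = cjS g (cjS h Y) := by
  ext x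
  rw [mem_cjS, mem_cjS, mem_cjS]
  have : (g * h)⁻¹ * x * (g * h) = h⁻¹ * (g⁻¹ * x * g) * h := by group
  rw [this]

theorem cjS_inv_cjS (g : LAut W) (Y : Subgroup (LAut W)) : cjS g⁻¹ (cjS g Y) = Y := by
  rw [← cjS_mul, inv_mul_cancel, cjS_one]

theorem cjS_cjS_inv (g : LAut W) (Y : Subgroup (LAut W)) : cjS g (cjS g⁻¹ Y) = Y := by
  rw [← cjS_mul, mul_inv_cancel, cjS_one]

theorem cjS_mono {g : LAut W} {Y Y' : Subgroup (LAut W)} (h : Y ≤ Y') : cjS g Y ≤ cjS g Y' :=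
  Subgroup.map_mono h

theorem cjS_eq_of_nz {g : LAut W} {Y : Subgroup (LAut W)}
    (hg : g ∈ Subgroup.normalizer (Y : Set (LAut W))) : cjS g Y = Y := by
  ext x
  rw [mem_cjS]
  have := (Subgroup.mem_normalizer_iff.1 ((Subgroup.normalizer (Y : Set (LAut W))).inv_mem hg) x)
  rw [inv_inv] at this
  exact this.symm

theorem nz_of_cjS_eq {g : LAut W} {Y : Subgroup (LAut W)} (h : cjS g Y = Y) :
    g ∈ Subgroup.normalizer (Y : Set (LAut W)) := by
  rw [Subgroup.mem_normalizer_iff]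
  intro y
  constructor
  · intro hy
    rw [← h]; exact conj_mem_cjS hy
  · intro hy
    rw [← h, mem_cjS] at hy
    have e : g⁻¹ * (g * y * g⁻¹) * g = y := by group
    rwa [e] at hy

theorem cjS_le_of_norm {g : LAut W} {Z Y : Subgroup (LAut W)} (hY : Y ≤ Z)
    (hg : ∀ z ∈ Z, g * z * g⁻¹ ∈ Z) : cjS g Y ≤ Z := by
  rintro _ ⟨y, hy, rfl⟩
  exact hg y (hY hy)

theorem FixSp_cjS {g : LAut W} {Y : Subgroup (LAut W)} {w : W} :
    w ∈ FixSp (cjS g Y) ↔ g⁻¹ w ∈ FixSp Y := by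
  constructor
  · intro h y hy
    have h1 := h _ (conj_mem_cjS (g := g) hy)
    have h2 : (g * y * g⁻¹) w = g (y (g⁻¹ w)) := rfl
    rw [h2] at h1
    have h3 := congrArg (fun v => g⁻¹ v) h1
    simpa using h3
  · intro h x hx
    rw [mem_cjS] at hx
    have h1 := h _ hx
    have h2 : (g⁻¹ * x * g) (g⁻¹ w) = g⁻¹ (x w) := by
      show g⁻¹ (x (g (g⁻¹ w))) = g⁻¹ (x w)
      rw [app_inv]
    rw [h2] at h1
    have h3 := congrArg (fun v => g v) h1
    simpa using h3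

theorem FixSp_cjS' {g : LAut W} {Y : Subgroup (LAut W)} {w : W} (hw : w ∈ FixSp Y) :
    g w ∈ FixSp (cjS g Y) := by
  rw [FixSp_cjS, inv_app]; exact hw

theorem MaxFix.conj [Finite W] {Z Y : Subgroup (LAut W)} (h : MaxFix Z Y) (g : LAut W)
    (hg : ∀ z ∈ Z, g * z * g⁻¹ ∈ Z) : MaxFix Z (cjS g Y) := by
  have hg' := norm_inv Z g hg
  refine ⟨cjS_le_of_norm h.1 hg, ?_, ?_⟩
  · intro hbot
    apply h.2.1
    rw [eq_bot_iff]
    intro w hw
    have h1 : g w ∈ FixSp (cjS g Y) := FixSp_cjS' hw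
    rw [hbot, AddSubgroup.mem_bot] at h1
    rw [AddSubgroup.mem_bot]
    have h2 := congrArg (fun v => g⁻¹ v) h1
    simpa using h2
  · intro Y' hle hZ hne
    have h1 : Y ≤ cjS g⁻¹ Y' := by
      have := cjS_mono (g := g⁻¹) hle
      rwa [cjS_inv_cjS] at this
    have h2 : cjS g⁻¹ Y' ≤ Z := by
      apply cjS_le_of_norm hZ
      intro z hz
      have := hg' z hz
      rwa [inv_inv]
    have h3 : FixSp (cjS g⁻¹ Y') ≠ ⊥ := by
      intro hbot
      apply hne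
      rw [eq_bot_iff]
      intro w hw
      have h4 : g⁻¹ w ∈ FixSp (cjS g⁻¹ Y') := FixSp_cjS' hw
      rw [hbot, AddSubgroup.mem_bot] at h4
      rw [AddSubgroup.mem_bot]
      have h5 := congrArg (fun v => g v) h4
      simpa using h5
    have h4 := h.2.2 _ h1 h2 h3
    rw [← h4, cjS_cjS_inv]

/-- elements of `Z` outside a maximal `Y` have no fixed points on the fixed space of `Y` -/
theorem MaxFix.fpf {Z Y : Subgroup (LAut W)} (h : MaxFix Z Y) {z : LAut W} (hz : z ∈ Z)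
    (hzY : z ∉ Y) : ∀ w ∈ FixSp Y, z w = w → w = 0 := by
  intro w hw hzw
  by_contra hw0
  apply hzY
  have h1 : w ∈ FixSp (Y ⊔ Subgroup.zpowers z) := by
    apply FixSp_sup hw
    have : Subgroup.zpowers z ≤ stab w := by
      rw [Subgroup.zpowers_le]; exact hzw
    exact fun y hy => this hy
  have h2 : FixSp (Y ⊔ Subgroup.zpowers z) ≠ ⊥ := by
    intro hbot
    rw [hbot, AddSubgroup.mem_bot] at h1
    exact hw0 h1
  have h3 := h.2.2 _ le_sup_left (sup_le h.1 (by rw [Subgroup.zpowers_le]; exact hz)) h2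
  rw [← h3]
  exact (le_sup_right : Subgroup.zpowers z ≤ _) (Subgroup.mem_zpowers z)

/-- an element of `Z` acting trivially on the fixed space of a maximal `Y` lies in `Y` -/
theorem MaxFix.kernel {Z Y : Subgroup (LAut W)} (h : MaxFix Z Y) {z : LAut W} (hz : z ∈ Z)
    (hfix : ∀ w ∈ FixSp Y, z w = w) : z ∈ Y := by
  by_contra hzY
  apply h.2.1
  rw [eq_bot_iff]
  intro w hw
  rw [AddSubgroup.mem_bot]
  exact h.fpf hz hzY w hw (hfix w hw)

theorem MaxFix.exists [Finite W] (Z : Subgroup (LAut W)) (hW : ∃ w : W, w ≠ 0) :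
    ∃ Y, MaxFix Z Y := by
  have h0 : (⊥ : Subgroup (LAut W)) ≤ Z ∧ FixSp (⊥ : Subgroup (LAut W)) ≠ ⊥ := by
    refine ⟨bot_le, ?_⟩
    obtain ⟨w, hw⟩ := hW
    intro hbot
    have h1 : w ∈ FixSp (⊥ : Subgroup (LAut W)) := by
      intro y hy
      rw [Subgroup.mem_bot] at hy
      rw [hy]; rfl
    rw [hbot, AddSubgroup.mem_bot] at h1
    exact hw h1
  obtain ⟨Y, -, hY⟩ := Finite.exists_le_maximal
    (p := fun Y : Subgroup (LAut W) => Y ≤ Z ∧ FixSp Y ≠ ⊥) h0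
  refine ⟨Y, hY.1.1, hY.1.2, ?_⟩
  intro Y' hle hZ hne
  exact le_antisymm (hY.2 ⟨hZ, hne⟩ hle) hle

/-- the trace over a subgroup -/
noncomputable def trY [Finite W] (Y : Subgroup (LAut W)) : W →ₗ[ℤ] W :=
  letI : Fintype Y := Fintype.ofFinite Y
  tr Y

theorem trY_fix [Finite W] (Y : Subgroup (LAut W)) (w : W) (y : LAut W) (hy : y ∈ Y) :
    y (trY Y w) = trY Y w := by
  letI : Fintype Y := Fintype.ofFinite Y
  exact tr_fix Y w y hy

theorem trY_mem_FixSp [Finite W] (Y : Subgroup (LAut W)) (w : W) : trY Y w ∈ FixSp Y :=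
  fun y hy => trY_fix Y w y hy

theorem trY_of_fix [Finite W] (Y : Subgroup (LAut W)) (w : W) (h : w ∈ FixSp Y) :
    trY Y w = Nat.card Y • w := by
  letI : Fintype Y := Fintype.ofFinite Y
  have := tr_of_fix Y w h
  rw [Nat.card_eq_fintype_card]
  exact this

theorem trY_cjS [Finite W] (Y : Subgroup (LAut W)) (g : LAut W) (w : W) :
    g (trY Y w) = trY (cjS g Y) (g w) := by
  letI : Fintype Y := Fintype.ofFinite Y
  letI : Fintype (cjS g Y) := Fintype.ofFinite _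
  show g (tr Y w) = tr (cjS g Y) (g w)
  rw [tr_apply, tr_apply, map_sum]
  let e : Y ≃ cjS g Y := (Y.equivMapOfInjective (cj g) (MulAut.conj g).injective).toEquiv
  refine Fintype.sum_equiv e _ _ (fun z => ?_)
  show g ((z : LAut W) w) = (g * (z : LAut W) * g⁻¹) (g w)
  simp

theorem trY_comm [Finite W] (Y : Subgroup (LAut W)) (z : LAut W)
    (hz : ∀ y ∈ Y, z * y = y * z) (w : W) : z (trY Y w) = trY Y (z w) := by
  have h1 : cjS z Y = Y := by
    ext x
    rw [mem_cjS]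
    constructor
    · intro hx
      have h2 := hz _ hx
      have e : x = z * (z⁻¹ * x * z) * z⁻¹ := by group
      rw [e, h2]
      have e2 : z⁻¹ * x * z * z * z⁻¹ = z⁻¹ * x * z := by group
      rw [e2]; exact hx
    · intro hx
      have h2 := hz _ hx
      have e : z⁻¹ * x * z = z⁻¹ * (x * z) := by group
      rw [e, ← h2]
      have e2 : z⁻¹ * (z * x) = x := by group
      rw [e2]; exact hx
  have := trY_cjS Y z w
  rw [h1] at this
  exact this

theorem trY_mem [Finite W] (Y : Subgroup (LAut W)) (U : AddSubgroup W)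
    (hU : ∀ y ∈ Y, ∀ u ∈ U, y u ∈ U) (u : W) (hu : u ∈ U) : trY Y u ∈ U := by
  letI : Fintype Y := Fintype.ofFinite Y
  show tr Y u ∈ U
  rw [tr_apply]
  exact U.sum_mem (fun z _ => hU z z.2 u hu)

/-- orthogonality of distinct maximal subgroups -/
theorem ort [Finite W] {Z Y Y₀ : Subgroup (LAut W)} (hZab : ∀ x ∈ Z, ∀ y ∈ Z, x * y = y * x)
    (h : MaxFix Z Y) (h₀ : MaxFix Z Y₀) (hne : Y₀ ≠ Y) (w : W) (hw : w ∈ FixSp Y) :
    trY Y₀ w = 0 := by
  by_contra hv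
  have h1 : trY Y₀ w ∈ FixSp Y₀ := trY_mem_FixSp Y₀ w
  have h2 : trY Y₀ w ∈ FixSp Y := by
    intro y hy
    rw [trY_comm Y₀ y (fun y' hy' => hZab y (h.1 hy) y' (h₀.1 hy')), hw y hy]
  have h3 := FixSp_sup h2 h1
  have h4 : FixSp (Y ⊔ Y₀) ≠ ⊥ := by
    intro hbot
    rw [hbot, AddSubgroup.mem_bot] at h3
    exact hv h3
  have e1 := h.2.2 _ le_sup_left (sup_le h.1 h₀.1) h4
  have e2 := h₀.2.2 _ le_sup_right (sup_le h.1 h₀.1) h4
  exact hne (e2.symm.trans e1)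

end

end Cfsg.Agent.Lib.Helper63.Fpq
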