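import Mathlib
import Cfsg.Agent.Lib.Helper63.FpqDec

set_option autoImplicit false

namespace Cfsg.Agent.Lib.Helper63.Fpq

open Cfsg.Agent.Lib.Helper63.S3A

universe u

section

variable {W : Type u} [AddCommGroup W] [Finite W]

theorem card_W {ℓ : ℕ} (hℓ : ℓ.Prime) (hexp : ∀ w : W, ℓ • w = 0) :
    ∃ k, Nat.card W = ℓ ^ k := by
  haveI : Fact ℓ.Prime := ⟨hℓ⟩
  have h1 : IsPGroup ℓ (Multiplicative W) := by
    intro g
    refine ⟨1, ?_⟩
    rw [pow_one]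
    exact congrArg Multiplicative.ofAdd (hexp (Multiplicative.toAdd g))
  obtain ⟨k, hk⟩ := h1.exists_card_eq
  exact ⟨k, hk⟩

variable {p q r s ℓ : ℕ} {a t : LAut W} {R S : Subgroup (LAut W)}

theorem Cfg.RW (h : Cfg p q r s ℓ a t R S) (N : Subgroup (LAut W)) (hN : N ≤ R) :
    (Nat.card N).Coprime (Nat.card W) := by
  haveI : Fact r.Prime := ⟨h.hr⟩
  obtain ⟨k, hk⟩ := card_W h.hℓ h.exp
  obtain ⟨i, hi⟩ := (h.Rp.to_le hN).exists_card_eq
  rw [hk, hi]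
  exact Nat.Coprime.pow _ _ ((Nat.coprime_primes h.hr h.hℓ).2 h.hrℓ)

theorem Cfg.rW (h : Cfg p q r s ℓ a t R S) : r.Coprime (Nat.card W) := by
  obtain ⟨k, hk⟩ := card_W h.hℓ h.exp
  rw [hk]
  exact Nat.Coprime.pow_right _ ((Nat.coprime_primes h.hr h.hℓ).2 h.hrℓ)

/-- closure of a family under conjugation by the inverse -/
theorem P_inv (P : Subgroup (LAut W) → Prop) (g : LAut W)
    (h : ∀ Y, P Y → P (cjS g Y)) : ∀ Y, P Y → P (cjS g⁻¹ Y) := by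
  have hpow : ∀ j : ℕ, ∀ Y, P Y → P (cjS (g ^ j) Y) := by
    intro j
    induction j with
    | zero => intro Y hY; rw [pow_zero, cjS_one]; exact hY
    | succ j ih =>
      intro Y hY
      rw [pow_succ', cjS_mul]
      exact h _ (ih Y hY)
  intro Y hY
  have e : g ^ (orderOf g - 1) = g⁻¹ := by
    have h1 : g ^ orderOf g = 1 := pow_orderOf_eq_one g
    have h2 : 0 < orderOf g := orderOf_pos g
    have h3 : g ^ (orderOf g - 1) * g = 1 := by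
      rw [← pow_succ, Nat.sub_add_cancel h2, h1]
    exact eq_inv_of_mul_eq_one_left h3
  rw [← e]; exact hpow _ Y hY

/-- the decomposition of the module of a minimal counterexample along a conjugation-closed
family of maximal subgroups of an abelian subgroup -/
theorem Min.dec (h : Min p q r s ℓ a t R S) (hnc : ¬ ∀ x ∈ R, ∀ u ∈ S, x * u = u * x)
    (Z : Subgroup (LAut W)) (hZR : Z ≤ R) (hZab : ∀ x ∈ Z, ∀ y ∈ Z, x * y = y * x)
    (P : Subgroup (LAut W) → Prop) (hPmax : ∀ Y, P Y → MaxFix Z Y) (hPne : ∃ Y, P Y)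
    (hPa : ∀ Y, P Y → P (cjS a Y)) (hPt : ∀ Y, P Y → P (cjS t Y))
    (hPR : ∀ x ∈ R, ∀ Y, P Y → P (cjS x Y)) (hPS : ∀ u ∈ S, ∀ Y, P Y → P (cjS u Y)) :
    ∀ e : LAut W, (∀ Y, P Y → ∀ w ∈ FixSp Y, e w = w) → e = 1 := by
  classical
  have hcfg := h.cfg
  have hcopZ : (Nat.card Z).Coprime (Nat.card W) := hcfg.RW Z hZR
  set n := Nat.card Z with hn
  let Wp : AddSubgroup W := ⨆ (Y : Subgroup (LAut W)) (_ : P Y), FixSp Y
  let U : AddSubgroup W :=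
    { carrier := {w | ∀ Y, P Y → trY Y w = 0}
      add_mem' := by
        intro v w hv hw Y hY
        rw [map_add, hv Y hY, hw Y hY, add_zero]
      zero_mem' := fun Y _ => map_zero _
      neg_mem' := by
        intro v hv Y hY
        rw [map_neg, hv Y hY, neg_zero] }
  have hle : ∀ Y, P Y → FixSp Y ≤ Wp := fun Y hY =>
    le_iSup₂ (f := fun (Y : Subgroup (LAut W)) (_ : P Y) => FixSp Y) Y hY
  have hgWp : ∀ g : LAut W, (∀ Y, P Y → P (cjS g Y)) → ∀ w ∈ Wp, g w ∈ Wp := by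
    intro g hg
    have h1 : Wp ≤ Wp.comap (g.toLinearMap.toAddMonoidHom) := by
      refine iSup₂_le (fun Y hY => ?_)
      intro w hw
      show g w ∈ Wp
      exact hle _ (hg Y hY) (FixSp_cjS' hw)
    exact fun w hw => h1 hw
  have hgU : ∀ g : LAut W, (∀ Y, P Y → P (cjS g Y)) → ∀ w ∈ U, g w ∈ U := by
    intro g hg w hw Y hY
    have h1 := P_inv P g hg Y hY
    have h2 := trY_cjS (cjS g⁻¹ Y) g w
    rw [cjS_cjS_inv, hw _ h1, map_zero] at h2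
    exact h2.symm
  have hsum : ∀ w : W, ∃ w₁ ∈ Wp, ∃ w₂ ∈ U, w = w₁ + w₂ := by
    intro w
    haveI : Fintype (Subgroup (LAut W)) := Fintype.ofFinite _
    let F : Finset (Subgroup (LAut W)) := Finset.univ.filter P
    have hF : ∀ Y, Y ∈ F ↔ P Y := fun Y => by simp [F]
    let v : W := ∑ Y ∈ F, (n / Nat.card Y) • trY Y w
    have hv : v ∈ Wp :=
      AddSubgroup.sum_mem _ (fun Y hY =>
        AddSubgroup.nsmul_mem _ (hle Y ((hF Y).1 hY) (trY_mem_FixSp Y w)) _)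
    have hu : n • w - v ∈ U := by
      intro Y₀ hY₀
      rw [map_sub, map_nsmul, map_sum]
      rw [Finset.sum_eq_single Y₀]
      · rw [map_nsmul, trY_of_fix Y₀ _ (trY_mem_FixSp Y₀ w), smul_smul,
          Nat.div_mul_cancel (Subgroup.card_dvd_of_le (hPmax Y₀ hY₀).1), sub_self]
      · intro Y hY hne
        rw [map_nsmul, ort hZab (hPmax Y ((hF Y).1 hY)) (hPmax Y₀ hY₀) hne.symm _
          (trY_mem_FixSp Y w), smul_zero]
      · intro hnot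
        exact absurd ((hF Y₀).2 hY₀) hnot
    have hmem : n • w ∈ Wp ⊔ U := by
      have e : n • w = v + (n • w - v) := by abel
      rw [e]
      exact AddSubgroup.add_mem _ (AddSubgroup.mem_sup_left hv) (AddSubgroup.mem_sup_right hu)
    have h2 := mem_of_nsmul (Wp ⊔ U) n hcopZ w hmem
    obtain ⟨w₁, h1, w₂, h2, e⟩ := AddSubgroup.mem_sup.1 h2
    exact ⟨w₁, h1, w₂, h2, e.symm⟩
  have hU_ne : U ≠ ⊤ := by
    obtain ⟨Y₀, hY₀⟩ := hPne
    intro htop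
    apply (hPmax Y₀ hY₀).2.1
    rw [eq_bot_iff]
    intro w hw
    have h1 : w ∈ U := by rw [htop]; trivial
    have h2 := h1 Y₀ hY₀
    rw [trY_of_fix Y₀ w hw] at h2
    rw [AddSubgroup.mem_bot]
    exact eq_zero_of_nsmul _ (hcfg.RW Y₀ ((hPmax Y₀ hY₀).1.trans hZR)) w h2
  have hWp : Wp = ⊤ := by
    by_contra hne
    apply hnc
    have r1 := h.res Wp hne ⟨hgWp a hPa, hgWp t hPt, fun x hx => hgWp x (hPR x hx),
      fun u hu => hgWp u (hPS u hu)⟩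
    have r2 := h.res U hU_ne ⟨hgU a hPa, hgU t hPt, fun x hx => hgU x (hPR x hx),
      fun u hu => hgU u (hPS u hu)⟩
    intro x hx u hu
    refine LinearEquiv.ext (fun w => ?_)
    obtain ⟨w₁, h1, w₂, h2, rfl⟩ := hsum w
    show x (u (w₁ + w₂)) = u (x (w₁ + w₂))
    rw [map_add, map_add, map_add, map_add, r1 x hx u hu w₁ h1, r2 x hx u hu w₂ h2]
  intro e he
  have h1 : Wp ≤ FixSp (Subgroup.zpowers e) := by
    refine iSup₂_le (fun Y hY => ?_)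
    intro w hw
    have h2 : Subgroup.zpowers e ≤ stab w := by
      rw [Subgroup.zpowers_le]; exact he Y hY w hw
    exact fun y hy => h2 hy
  refine LinearEquiv.ext (fun w => ?_)
  have h2 : w ∈ Wp := by rw [hWp]; trivial
  exact h1 h2 e (Subgroup.mem_zpowers e)

/-- the sum over the powers of an element -/
noncomputable def T (r : ℕ) (z : LAut W) (w : W) : W := ∑ i ∈ Finset.range r, (z ^ i) w

theorem T_fix (r : ℕ) (z : LAut W) (hz : z ^ r = 1) (w : W) : z (T r z w) = T r z w := by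
  unfold T
  rw [map_sum]
  have h0 : ∀ i, z ((z ^ i) w) = (z ^ (i + 1)) w := fun i => by rw [pow_succ']; rfl
  simp only [h0]
  have h1 := Finset.sum_range_succ' (fun i => (z ^ i) w) r
  have h2 := Finset.sum_range_succ (fun i => (z ^ i) w) r
  rw [h1] at h2
  simp only [hz, pow_zero] at h2
  exact add_right_cancel h2

theorem FixSp_comm {Y : Subgroup (LAut W)} {g : LAut W} (hg : ∀ y ∈ Y, g * y = y * g) {w : W}
    (hw : w ∈ FixSp Y) : g w ∈ FixSp Y := by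
  intro y hy
  calc y (g w) = (y * g) w := rfl
    _ = (g * y) w := by rw [hg y hy]
    _ = g (y w) := rfl
    _ = g w := by rw [hw y hy]

/-- an abelian group of exponent `r` acting without fixed points modulo `Y` is cyclic modulo
`Y` -/
theorem semi {Z Y : Subgroup (LAut W)} (hZab : ∀ x ∈ Z, ∀ y ∈ Z, x * y = y * x)
    (h : MaxFix Z Y) (r : ℕ) (hr : r.Prime) (hexp : ∀ z ∈ Z, z ^ r = 1)
    (hcop : r.Coprime (Nat.card W)) (x : LAut W) (hx : x ∈ Z) (hxY : x ∉ Y) (x' : LAut W)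
    (hx' : x' ∈ Z) : ∃ n : ℕ, x' * (x ^ n)⁻¹ ∈ Y := by
  by_contra hno
  push Not at hno
  have hj : ∀ j : ℕ, x' * x ^ j ∉ Y := by
    intro j hmem
    apply hno ((r - 1) * j)
    have e : (x ^ ((r - 1) * j))⁻¹ = x ^ j := by
      apply inv_eq_of_mul_eq_one_left
      rw [← pow_add]
      have h1 : j + (r - 1) * j = r * j := by
        have := hr.pos
        obtain ⟨r', rfl⟩ : ∃ r', r = r' + 1 := ⟨r - 1, by omega⟩
        simp; ring
      rw [h1, pow_mul, hexp x hx, one_pow]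
    rw [e]; exact hmem
  obtain ⟨⟨w, hw⟩, hw0⟩ := (AddSubgroup.ne_bot_iff_exists_ne_zero).1 h.2.1
  have hw0' : w ≠ 0 := fun h0 => hw0 (Subtype.ext h0)
  have hA : ∀ z ∈ Z, z ∉ Y → z ^ r = 1 → T r z w = 0 := by
    intro z hz hzY hzr
    apply h.fpf hz hzY _ _ (T_fix r z hzr w)
    unfold T
    refine AddSubgroup.sum_mem _ (fun i _ => ?_)
    exact FixSp_comm (fun y hy => hZab _ (Z.pow_mem hz i) y (h.1 hy)) hw
  have hL : ∑ j ∈ Finset.range r, T r (x' * x ^ j) w = 0 :=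
    Finset.sum_eq_zero (fun j _ => hA _ (Z.mul_mem hx' (Z.pow_mem hx j)) (hj j) (hexp _
      (Z.mul_mem hx' (Z.pow_mem hx j))))
  have hswap : ∑ j ∈ Finset.range r, T r (x' * x ^ j) w =
      ∑ i ∈ Finset.range r, (x' ^ i) (T r (x ^ i) w) := by
    unfold T
    rw [Finset.sum_comm]
    refine Finset.sum_congr rfl (fun i _ => ?_)
    rw [map_sum]
    refine Finset.sum_congr rfl (fun j _ => ?_)
    have hc : Commute x' (x ^ j) := hZab x' hx' _ (Z.pow_mem hx j)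
    rw [hc.mul_pow, ← pow_mul, mul_comm j i, pow_mul]
    rfl
  have hR : ∑ i ∈ Finset.range r, (x' ^ i) (T r (x ^ i) w) = r • w := by
    rw [Finset.sum_eq_single 0]
    · simp [T]
    · intro i hi hi0
      have hcop' : Nat.Coprime r i := (Nat.Prime.coprime_iff_not_dvd hr).2
        (Nat.not_dvd_of_pos_of_lt (Nat.pos_of_ne_zero hi0) (Finset.mem_range.1 hi))
      have h1 : x ^ i ∉ Y := fun hmem => hxY (root_mem Y x r i (hexp x hx) hcop' hmem)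
      rw [hA (x ^ i) (Z.pow_mem hx i) h1 (hexp _ (Z.pow_mem hx i)), map_zero]
    · intro h0
      exact absurd (Finset.mem_range.2 hr.pos) h0
  rw [hswap, hR] at hL
  exact hw0' (eq_zero_of_nsmul r hcop w hL)

/-- automorphisms normalizing `Z` and `Y` and centralizing `Z` modulo `Y` -/
def czq (Z Y : Subgroup (LAut W)) : Subgroup (LAut W) where
  carrier := {g | g ∈ Subgroup.normalizer (Z : Set (LAut W)) ∧
    g ∈ Subgroup.normalizer (Y : Set (LAut W)) ∧ ∀ z ∈ Z, g * z * g⁻¹ * z⁻¹ ∈ Y}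
  mul_mem' := by
    rintro g h ⟨hg1, hg2, hg3⟩ ⟨hh1, hh2, hh3⟩
    refine ⟨Subgroup.mul_mem _ hg1 hh1, Subgroup.mul_mem _ hg2 hh2, fun z hz => ?_⟩
    have e : g * h * z * (g * h)⁻¹ * z⁻¹ =
        (g * (h * z * h⁻¹ * z⁻¹) * g⁻¹) * (g * z * g⁻¹ * z⁻¹) := by group
    rw [e]
    exact Y.mul_mem (nz_conj hg2 _ (hh3 z hz)) (hg3 z hz)
  one_mem' := ⟨Subgroup.one_mem _, Subgroup.one_mem _, fun z _ => by simp⟩
  inv_mem' := by
    rintro g ⟨hg1, hg2, hg3⟩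
    refine ⟨Subgroup.inv_mem _ hg1, Subgroup.inv_mem _ hg2, fun z hz => ?_⟩
    have e : g⁻¹ * z * g⁻¹⁻¹ * z⁻¹ = g⁻¹ * (g * z * g⁻¹ * z⁻¹)⁻¹ * g := by group
    rw [e]
    exact nz_conj' hg2 _ (Y.inv_mem (hg3 z hz))

theorem mem_czq (Z Y : Subgroup (LAut W)) (g : LAut W) :
    g ∈ czq Z Y ↔ g ∈ Subgroup.normalizer (Z : Set (LAut W)) ∧
      g ∈ Subgroup.normalizer (Y : Set (LAut W)) ∧ ∀ z ∈ Z, g * z * g⁻¹ * z⁻¹ ∈ Y := Iff.rfl

/-- the automorphisms of a cyclic quotient commute -/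
theorem ab_aut {Z Y : Subgroup (LAut W)} (hZab : ∀ x ∈ Z, ∀ y ∈ Z, x * y = y * x)
    (x : LAut W) (hx : x ∈ Z) (hcyc : ∀ x' ∈ Z, ∃ n : ℕ, x' * (x ^ n)⁻¹ ∈ Y) (g h : LAut W)
    (hgZ : g ∈ Subgroup.normalizer (Z : Set (LAut W)))
    (hgY : g ∈ Subgroup.normalizer (Y : Set (LAut W)))
    (hhZ : h ∈ Subgroup.normalizer (Z : Set (LAut W)))
    (hhY : h ∈ Subgroup.normalizer (Y : Set (LAut W))) :
    (h * g)⁻¹ * (g * h) ∈ czq Z Y := by
  obtain ⟨i, hi⟩ := hcyc (g * x * g⁻¹) (nz_conj hgZ x hx)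
  obtain ⟨j, hj⟩ := hcyc (h * x * h⁻¹) (nz_conj hhZ x hx)
  have step2 : ∀ k : LAut W, k ∈ Subgroup.normalizer (Z : Set (LAut W)) → ∀ n m : ℕ,
      k * x * k⁻¹ * (x ^ n)⁻¹ ∈ Y → k * x ^ m * k⁻¹ * ((x ^ n) ^ m)⁻¹ ∈ Y := by
    intro k hk n m hmem
    have hc : Commute (k * x * k⁻¹) ((x ^ n)⁻¹) :=
      hZab _ (nz_conj hk x hx) _ (Z.inv_mem (Z.pow_mem hx n))
    have e : (k * x * k⁻¹ * (x ^ n)⁻¹) ^ m = k * x ^ m * k⁻¹ * ((x ^ n) ^ m)⁻¹ := by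
      rw [hc.mul_pow, conj_pow, inv_pow]
    rw [← e]; exact Y.pow_mem hmem m
  have s3 : g * h * x * (g * h)⁻¹ * ((x ^ i) ^ j)⁻¹ ∈ Y := by
    have e : g * h * x * (g * h)⁻¹ * ((x ^ i) ^ j)⁻¹ =
        (g * (h * x * h⁻¹ * (x ^ j)⁻¹) * g⁻¹) * (g * x ^ j * g⁻¹ * ((x ^ i) ^ j)⁻¹) := by group
    rw [e]; exact Y.mul_mem (nz_conj hgY _ hj) (step2 g hgZ i j hi)
  have s3' : h * g * x * (h * g)⁻¹ * ((x ^ j) ^ i)⁻¹ ∈ Y := by
    have e : h * g * x * (h * g)⁻¹ * ((x ^ j) ^ i)⁻¹ =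
        (h * (g * x * g⁻¹ * (x ^ i)⁻¹) * h⁻¹) * (h * x ^ i * h⁻¹ * ((x ^ j) ^ i)⁻¹) := by group
    rw [e]; exact Y.mul_mem (nz_conj hhY _ hi) (step2 h hhZ j i hj)
  have epow : (x ^ j) ^ i = (x ^ i) ^ j := by rw [← pow_mul, ← pow_mul, mul_comm]
  rw [epow] at s3'
  have hcZ : (h * g)⁻¹ * (g * h) ∈ Subgroup.normalizer (Z : Set (LAut W)) :=
    Subgroup.mul_mem _ (Subgroup.inv_mem _ (Subgroup.mul_mem _ hhZ hgZ))
      (Subgroup.mul_mem _ hgZ hhZ)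
  have hcY : (h * g)⁻¹ * (g * h) ∈ Subgroup.normalizer (Y : Set (LAut W)) :=
    Subgroup.mul_mem _ (Subgroup.inv_mem _ (Subgroup.mul_mem _ hhY hgY))
      (Subgroup.mul_mem _ hgY hhY)
  have s5 : ((h * g)⁻¹ * (g * h)) * x * ((h * g)⁻¹ * (g * h))⁻¹ * x⁻¹ ∈ Y := by
    have e : ((h * g)⁻¹ * (g * h)) * x * ((h * g)⁻¹ * (g * h))⁻¹ * x⁻¹ =
        (h * g)⁻¹ * ((g * h * x * (g * h)⁻¹ * ((x ^ i) ^ j)⁻¹) *
          (h * g * x * (h * g)⁻¹ * ((x ^ i) ^ j)⁻¹)⁻¹) * (h * g) := by group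
    rw [e]
    exact nz_conj' (Subgroup.mul_mem _ hhY hgY) _ (Y.mul_mem s3 (Y.inv_mem s3'))
  refine ⟨hcZ, hcY, fun z hz => ?_⟩
  obtain ⟨c, hc⟩ : ∃ c : LAut W, c = (h * g)⁻¹ * (g * h) := ⟨_, rfl⟩
  rw [← hc] at hcZ hcY s5 ⊢
  obtain ⟨m, hm⟩ := hcyc z hz
  have hD : c * x ^ m * c⁻¹ * (x ^ m)⁻¹ ∈ Y := by
    have hcm : Commute (c * x * c⁻¹) x⁻¹ := hZab _ (nz_conj hcZ x hx) _ (Z.inv_mem hx)
    have e : (c * x * c⁻¹ * x⁻¹) ^ m = c * x ^ m * c⁻¹ * (x ^ m)⁻¹ := by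
      rw [hcm.mul_pow, conj_pow, inv_pow]
    rw [← e]; exact Y.pow_mem s5 m
  have e : c * z * c⁻¹ * z⁻¹ =
      (c * (z * (x ^ m)⁻¹) * c⁻¹) * (c * x ^ m * c⁻¹ * (x ^ m)⁻¹) * (z * (x ^ m)⁻¹)⁻¹ := by group
  rw [e]
  exact Y.mul_mem (Y.mul_mem (nz_conj hcY _ hm) hD) (Y.inv_mem hm)

end

end Cfsg.Agent.Lib.Helper63.Fpq
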