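import Mathlib
import Cfsg.Agent.Lib.Helper63.FpqDec2
import Cfsg.Agent.Lib.Helper63.FpqHH

set_option autoImplicit false

namespace Cfsg.Agent.Lib.Helper63.Fpq

open Cfsg.Agent.Lib.Helper63.S3A

universe u

section

variable {W : Type u} [AddCommGroup W] [Finite W]

/-- an abelian subgroup of exponent `r`, central in `R` and normalized by everything -/
structure ZD (r : ℕ) (a t : LAut W) (R S Z : Subgroup (LAut W)) : Prop where
  le : Z ≤ R
  ab : ∀ x ∈ Z, ∀ y ∈ Z, x * y = y * x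
  exp : ∀ z ∈ Z, z ^ r = 1
  za : ∀ z ∈ Z, a * z * a⁻¹ ∈ Z
  zt : ∀ z ∈ Z, t * z * t⁻¹ ∈ Z
  zR : ∀ x ∈ R, ∀ z ∈ Z, x * z = z * x
  zS : ∀ u ∈ S, ∀ z ∈ Z, u * z * u⁻¹ ∈ Z
  ne : ∃ z ∈ Z, z ≠ 1

variable {p q r s ℓ : ℕ} {a t : LAut W} {R S Z : Subgroup (LAut W)}

theorem ZD.conj (zd : ZD r a t R S Z) (h : Cfg p q r s ℓ a t R S) {c : LAut W}
    (hc : c ∈ Subgroup.zpowers a) : ZD r a (c * t * c⁻¹) R S Z := by
  refine ⟨zd.le, zd.ab, zd.exp, zd.za, ?_, zd.zR, zd.zS, zd.ne⟩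
  have hnz := h.zp_le_nz Z zd.za
  intro z hz
  have e : c * t * c⁻¹ * z * (c * t * c⁻¹)⁻¹ = c * (t * (c⁻¹ * z * c) * t⁻¹) * c⁻¹ := by group
  rw [e]
  exact nz_conj (hnz hc) _ (zd.zt _ (nz_conj' (hnz hc) z hz))

theorem ZD.zR' (zd : ZD r a t R S Z) : ∀ x ∈ R, ∀ z ∈ Z, x * z * x⁻¹ ∈ Z := by
  intro x hx z hz
  rw [zd.zR x hx z hz]
  have : z * x * x⁻¹ = z := by group
  rw [this]; exact hz

theorem ZD.R_nz (zd : ZD r a t R S Z) {Y : Subgroup (LAut W)} (hY : Y ≤ Z) :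
    R ≤ nzr Y := by
  intro x hx
  apply mem_nz
  intro y hy
  rw [zd.zR x hx y (hY hy)]
  have : y * x * x⁻¹ = y := by group
  rw [this]; exact hy

theorem Cfg.pW (h : Cfg p q r s ℓ a t R S) : p.Coprime (Nat.card W) := by
  obtain ⟨k, hk⟩ := card_W h.hℓ h.exp
  rw [hk]
  exact Nat.Coprime.pow_right _ ((Nat.coprime_primes h.hp h.hℓ).2 h.hℓp.symm)

theorem Cfg.qW (h : Cfg p q r s ℓ a t R S) : q.Coprime (Nat.card W) := by
  obtain ⟨k, hk⟩ := card_W h.hℓ h.exp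
  rw [hk]
  exact Nat.Coprime.pow_right _ ((Nat.coprime_primes h.hq h.hℓ).2 h.hℓq.symm)

theorem W_ne {R S : Subgroup (LAut W)} (hnc : ¬ ∀ x ∈ R, ∀ u ∈ S, x * u = u * x) :
    ∃ w : W, w ≠ 0 := by
  by_contra hno
  push Not at hno
  apply hnc
  intro x _ u _
  refine LinearEquiv.ext (fun w => ?_)
  rw [hno ((x * u) w), hno ((u * x) w)]

theorem stabU_of_nz {Y : Subgroup (LAut W)} {g : LAut W} (hg : g ∈ nzr Y) :
    g ∈ stabU (FixSp Y) := by
  apply stabU_of_maps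
  intro w hw
  have := FixSp_cjS' (g := g) hw
  rwa [cjS_eq_of_nz hg] at this

theorem comm_fixer (U : AddSubgroup W) (g x : LAut W) (hg : g ∈ stabU U) (hx : x ∈ stabU U)
    (hc : ∀ w ∈ U, g (x w) = x (g w)) : g * x * g⁻¹ * x⁻¹ ∈ fixer U := by
  intro w hw
  show g (x (g⁻¹ (x⁻¹ w))) = w
  have h1 : x⁻¹ w ∈ U := ((stabU U).inv_mem hx w).2 hw
  have h2 : g⁻¹ (x⁻¹ w) ∈ U := ((stabU U).inv_mem hg _).2 h1
  rw [hc _ h2, app_inv, app_inv]

/-- the projection to the fixed space of `Y` kills the translates by non-normalizing elements -/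
theorem proj0 {Y : Subgroup (LAut W)} (hZab : ∀ x ∈ Z, ∀ y ∈ Z, x * y = y * x)
    (hY : MaxFix Z Y) (g : LAut W) (hg : ∀ z ∈ Z, g * z * g⁻¹ ∈ Z) (hgY : g ∉ nzr Y) (w : W)
    (hw : w ∈ FixSp Y) : trY Y (g w) = 0 := by
  apply ort hZab (hY.conj g hg) hY _ (g w) (FixSp_cjS' hw)
  intro he
  exact hgY (nz_of_cjS_eq he.symm)

theorem T_fix_of (n : ℕ) (z g : LAut W) (v : W) (hg : ∀ j : ℕ, g ((z ^ j) v) = (z ^ j) v) :
    g (T n z v) = T n z v := by
  unfold T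
  rw [map_sum]
  exact Finset.sum_congr rfl (fun j _ => hg j)

theorem Cfg.vanish (h : Cfg p q r s ℓ a t R S) (w : W) : T p t (T q a w) = 0 := by
  apply h.fp
  · have hv : a (T q a w) = T q a w := T_fix q a h.aq w
    apply T_fix_of
    intro j
    induction j with
    | zero => simpa using hv
    | succ j ih =>
      rw [pow_succ']
      exact h.fixW_t ih
  · exact T_fix p t h.tp _

theorem Cfg.tsum (h : Cfg p q r s ℓ a t R S) (Y : Subgroup (LAut W)) (w : W) :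
    ∑ j ∈ Finset.range p, ∑ i ∈ Finset.range q, trY Y ((t ^ j) ((a ^ i) w)) = 0 := by
  have h1 := congrArg (trY Y) (h.vanish w)
  rw [map_zero] at h1
  rw [← h1]
  unfold T
  rw [map_sum]
  refine Finset.sum_congr rfl (fun j _ => ?_)
  rw [map_sum, map_sum]

theorem Min.decZ (h : Min p q r s ℓ a t R S) (hnc : ¬ ∀ x ∈ R, ∀ u ∈ S, x * u = u * x)
    (zd : ZD r a t R S Z) :
    ∀ e : LAut W, (∀ Y, MaxFix Z Y → ∀ w ∈ FixSp Y, e w = w) → e = 1 := by
  apply h.dec hnc Z zd.le zd.ab (MaxFix Z) (fun Y hY => hY) (MaxFix.exists Z (W_ne hnc))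
  · exact fun Y hY => hY.conj a zd.za
  · exact fun Y hY => hY.conj t zd.zt
  · exact fun x hx Y hY => hY.conj x (zd.zR' x hx)
  · exact fun u hu Y hY => hY.conj u (zd.zS u hu)

theorem Min.Y_ne_Z (h : Min p q r s ℓ a t R S) (hnc : ¬ ∀ x ∈ R, ∀ u ∈ S, x * u = u * x)
    (zd : ZD r a t R S Z) {Y : Subgroup (LAut W)} (hY : MaxFix Z Y) : ∃ x ∈ Z, x ∉ Y := by
  by_contra hno
  push Not at hno
  have hYZ : Y = Z := le_antisymm hY.1 hno
  obtain ⟨z, hz, hz1⟩ := zd.ne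
  apply hz1
  have hcj : ∀ g : LAut W, (∀ z ∈ Z, g * z * g⁻¹ ∈ Z) → ∀ Y', Y' = Z → cjS g Y' = Z := by
    intro g hg Y' hY'
    rw [hY']
    exact cjS_eq_of_nz (mem_nz Z g hg)
  apply h.dec hnc Z zd.le zd.ab (fun Y' => Y' = Z) (fun Y' hY' => by rw [hY']; have h1 := hY; rw [hYZ] at h1; exact h1)
    ⟨Z, rfl⟩ (hcj a zd.za) (hcj t zd.zt) (fun x hx => hcj x (zd.zR' x hx))
    (fun u hu => hcj u (zd.zS u hu))
  intro Y' hY' w hw
  rw [hY'] at hw
  exact hw z hz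

theorem Min.T3 (h : Min p q r s ℓ a t R S) (zd : ZD r a t R S Z) {Y : Subgroup (LAut W)}
    (hY : MaxFix Z Y) (ht : t ∈ nzr Y) (ha : a ∉ nzr Y) : ∀ w ∈ FixSp Y, t w = w → w = 0 := by
  intro w hw htw
  have hcfg := h.cfg
  have hsum := hcfg.tsum Y w
  have haZ : a ∈ nzr Z := mem_nz Z a zd.za
  have htZ : t ∈ nzr Z := mem_nz Z t zd.zt
  have hinner : ∀ j ∈ Finset.range p,
      ∑ i ∈ Finset.range q, trY Y ((t ^ j) ((a ^ i) w)) = Nat.card Y • w := by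
    intro j _
    rw [Finset.sum_eq_single 0]
    · have h0 : Subgroup.zpowers t ≤ stab w := by
        rw [Subgroup.zpowers_le]; exact htw
      have h1 : (t ^ j) w = w := h0 (Subgroup.pow_mem _ (Subgroup.mem_zpowers t) j)
      rw [pow_zero, one_app, h1, trY_of_fix Y w hw]
    · intro i hi hi0
      have hcop : Nat.Coprime q i := (Nat.Prime.coprime_iff_not_dvd hcfg.hq).2
        (Nat.not_dvd_of_pos_of_lt (Nat.pos_of_ne_zero hi0) (Finset.mem_range.1 hi))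
      have hg : t ^ j * a ^ i ∉ nzr Y := by
        intro hmem
        have h2 : a ^ i ∈ nzr Y := by
          have : a ^ i = (t ^ j)⁻¹ * (t ^ j * a ^ i) := by group
          rw [this]
          exact Subgroup.mul_mem _ (Subgroup.inv_mem _ (Subgroup.pow_mem _ ht j)) hmem
        exact ha (root_mem _ a q i hcfg.aq hcop h2)
      exact proj0 zd.ab hY (t ^ j * a ^ i)
        (nz_conj (Subgroup.mul_mem _ (Subgroup.pow_mem _ htZ j) (Subgroup.pow_mem _ haZ i)))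
        hg w hw
    · intro h0
      exact absurd (Finset.mem_range.2 hcfg.hq.pos) h0
  rw [Finset.sum_congr rfl hinner, Finset.sum_const, Finset.card_range] at hsum
  have h3 := eq_zero_of_nsmul p hcfg.pW _ hsum
  exact eq_zero_of_nsmul _ (hcfg.RW Y (hY.1.trans zd.le)) w h3

theorem Min.T2 (h : Min p q r s ℓ a t R S) (zd : ZD r a t R S Z) {Y : Subgroup (LAut W)}
    (hY : MaxFix Z Y) (ht : t ∉ nzr Y) : ∀ w ∈ FixSp Y, a w = w → w = 0 := by
  intro w hw haw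
  have hcfg := h.cfg
  have hsum := hcfg.tsum Y w
  have htZ : t ∈ nzr Z := mem_nz Z t zd.zt
  have h0 : Subgroup.zpowers a ≤ stab w := by
    rw [Subgroup.zpowers_le]; exact haw
  have hai : ∀ i : ℕ, (a ^ i) w = w := fun i =>
    h0 (Subgroup.pow_mem _ (Subgroup.mem_zpowers a) i)
  have hinner : ∀ j ∈ Finset.range p,
      ∑ i ∈ Finset.range q, trY Y ((t ^ j) ((a ^ i) w)) = q • trY Y ((t ^ j) w) := by
    intro j _
    rw [Finset.sum_congr rfl (fun i _ => by rw [hai i]), Finset.sum_const, Finset.card_range]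
  rw [Finset.sum_congr rfl hinner, Finset.sum_eq_single 0] at hsum
  · rw [pow_zero, one_app, trY_of_fix Y w hw] at hsum
    have h3 := eq_zero_of_nsmul q hcfg.qW _ hsum
    exact eq_zero_of_nsmul _ (hcfg.RW Y (hY.1.trans zd.le)) w h3
  · intro j hj hj0
    have hcop : Nat.Coprime p j := (Nat.Prime.coprime_iff_not_dvd hcfg.hp).2
      (Nat.not_dvd_of_pos_of_lt (Nat.pos_of_ne_zero hj0) (Finset.mem_range.1 hj))
    have hg : t ^ j ∉ nzr Y := fun hmem => ht (root_mem _ t p j hcfg.tp hcop hmem)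
    rw [proj0 zd.ab hY (t ^ j) (nz_conj (Subgroup.pow_mem _ htZ j)) hg w hw, smul_zero]
  · intro h0
    exact absurd (Finset.mem_range.2 hcfg.hp.pos) h0

/-- an element `t ^ j d` with `d` a power of `a` and `j` prime to `p` is conjugate to `t ^ j` -/
theorem Cfg.E4 (h : Cfg p q r s ℓ a t R S) (j : ℕ) (hj : Nat.Coprime p j) (d : LAut W)
    (hd : d ∈ Subgroup.zpowers a) : ∃ c ∈ Subgroup.zpowers a, t ^ j * d = c * t ^ j * c⁻¹ := by
  have htn : t ∈ nzr (Subgroup.zpowers a) := mem_nz _ t h.zp_nrm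
  have htjn : (t ^ j)⁻¹ ∈ nzr (Subgroup.zpowers a) :=
    Subgroup.inv_mem _ (Subgroup.pow_mem _ htn j)
  have hM : ∀ k ∈ Subgroup.zpowers a, (MulAut.conj (t ^ j)⁻¹).toMonoidHom k ∈ Subgroup.zpowers a :=
    fun k hk => nz_conj htjn k hk
  have hfp : ∀ k ∈ Subgroup.zpowers a, (MulAut.conj (t ^ j)⁻¹).toMonoidHom k = k → k = 1 := by
    intro k hk hfix
    have h1 : (t ^ j)⁻¹ * k * (t ^ j)⁻¹⁻¹ = k := hfix
    have h2 : t ^ j ∈ Subgroup.centralizer ({k} : Set (LAut W)) := by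
      rw [Subgroup.mem_centralizer_iff]
      intro y hy
      rw [Set.mem_singleton_iff] at hy
      rw [hy]
      calc k * t ^ j = ((t ^ j)⁻¹ * k * (t ^ j)⁻¹⁻¹) * t ^ j := by rw [h1]
        _ = (t ^ j)⁻¹ * k * (t ^ j * t ^ j) := by group
        _ = t ^ j * ((t ^ j)⁻¹ * ((t ^ j)⁻¹ * k * (t ^ j)⁻¹⁻¹) * t ^ j) := by group
        _ = t ^ j * ((t ^ j)⁻¹ * k * t ^ j) := by rw [h1]
        _ = t ^ j * k := by
            have e : (t ^ j)⁻¹ * k * t ^ j = (t ^ j)⁻¹ * k * (t ^ j)⁻¹⁻¹ := by group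
            rw [e, h1]
    have h3 := root_mem _ t p j h.tp hj h2
    rw [Subgroup.mem_centralizer_iff] at h3
    have h4 := h3 k rfl
    apply h.E1 hk
    rw [← h4]; group
  obtain ⟨y, hy, hyd⟩ := lamSurj (MulAut.conj (t ^ j)⁻¹).toMonoidHom (Subgroup.zpowers a) hM hfp
    d⁻¹ (Subgroup.inv_mem _ hd)
  have h1 : y⁻¹ * ((t ^ j)⁻¹ * y * (t ^ j)⁻¹⁻¹) = d⁻¹ := hyd
  refine ⟨y⁻¹, Subgroup.inv_mem _ hy, ?_⟩
  have h2 : d = ((t ^ j)⁻¹ * y * (t ^ j)⁻¹⁻¹)⁻¹ * y := by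
    have := congrArg (fun z => z⁻¹) h1
    simp only [inv_inv] at this
    rw [← this]; group
  rw [h2]; group

theorem Min.T1 (h : Min p q r s ℓ a t R S) (zd : ZD r a t R S Z) {Y : Subgroup (LAut W)}
    (hY : MaxFix Z Y) (ha : a ∉ nzr Y) : ∃ c ∈ Subgroup.zpowers a, c * t * c⁻¹ ∈ nzr Y := by
  by_contra hno
  push Not at hno
  have hcfg := h.cfg
  obtain ⟨⟨w, hw⟩, hw0⟩ := (AddSubgroup.ne_bot_iff_exists_ne_zero).1 hY.2.1
  have hw0' : w ≠ 0 := fun h0 => hw0 (Subtype.ext h0)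
  have hsum := hcfg.tsum Y w
  have haZ : a ∈ nzr Z := mem_nz Z a zd.za
  have htZ : t ∈ nzr Z := mem_nz Z t zd.zt
  have hai : ∀ i ∈ Finset.range q, i ≠ 0 → a ^ i ∉ nzr Y := by
    intro i hi hi0 hmem
    have hcop : Nat.Coprime q i := (Nat.Prime.coprime_iff_not_dvd hcfg.hq).2
      (Nat.not_dvd_of_pos_of_lt (Nat.pos_of_ne_zero hi0) (Finset.mem_range.1 hi))
    exact ha (root_mem _ a q i hcfg.aq hcop hmem)
  have hzero : ∀ j ∈ Finset.range p, j ≠ 0 → ∀ i : ℕ, trY Y ((t ^ j) ((a ^ i) w)) = 0 := by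
    intro j hj hj0 i
    have hcop : Nat.Coprime p j := (Nat.Prime.coprime_iff_not_dvd hcfg.hp).2
      (Nat.not_dvd_of_pos_of_lt (Nat.pos_of_ne_zero hj0) (Finset.mem_range.1 hj))
    have hg : t ^ j * a ^ i ∉ nzr Y := by
      intro hmem
      obtain ⟨c, hc, hce⟩ := hcfg.E4 j hcop (a ^ i) (Subgroup.pow_mem _ (Subgroup.mem_zpowers a) i)
      rw [hce] at hmem
      have h2 : (c * t * c⁻¹) ^ j ∈ nzr Y := by rw [conj_pow]; exact hmem
      have h3 : (c * t * c⁻¹) ^ p = 1 := by rw [conj_pow, hcfg.tp]; group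
      exact hno c hc (root_mem _ _ p j h3 hcop h2)
    exact proj0 zd.ab hY (t ^ j * a ^ i)
      (nz_conj (Subgroup.mul_mem _ (Subgroup.pow_mem _ htZ j) (Subgroup.pow_mem _ haZ i)))
      hg w hw
  rw [Finset.sum_eq_single 0] at hsum
  · rw [Finset.sum_eq_single 0] at hsum
    · rw [pow_zero, pow_zero, one_app, one_app, trY_of_fix Y w hw] at hsum
      exact hw0' (eq_zero_of_nsmul _ (hcfg.RW Y (hY.1.trans zd.le)) w hsum)
    · intro i hi hi0
      rw [pow_zero, one_app]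
      exact proj0 zd.ab hY (a ^ i) (nz_conj (Subgroup.pow_mem _ haZ i)) (hai i hi hi0) w hw
    · intro h0
      exact absurd (Finset.mem_range.2 hcfg.hq.pos) h0
  · intro j hj hj0
    exact Finset.sum_eq_zero (fun i _ => hzero j hj hj0 i)
  · intro h0
    exact absurd (Finset.mem_range.2 hcfg.hp.pos) h0

end

end Cfsg.Agent.Lib.Helper63.Fpq
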