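import Mathlib
import Cfsg.Agent.Lib.Helper63.FpqTypes

set_option autoImplicit false

namespace Cfsg.Agent.Lib.Helper63.Fpq

open Cfsg.Agent.Lib.Helper63.S3A

universe u

section

variable {W : Type u} [AddCommGroup W] [Finite W]
variable {p q r s ℓ : ℕ} {a t : LAut W} {R S Z : Subgroup (LAut W)}

/-- a component normalized by `a`: the element `a` has no fixed points on it -/
theorem Min.typeK (h : Min p q r s ℓ a t R S) (hnc : ¬ ∀ x ∈ R, ∀ u ∈ S, x * u = u * x)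
    (zd : ZD r a t R S Z) {Y : Subgroup (LAut W)} (hY : MaxFix Z Y) (ha : a ∈ nzr Y) :
    ∀ w ∈ FixSp Y, a w = w → w = 0 := by
  have hcfg := h.cfg
  by_cases ht : t ∈ nzr Y
  swap
  · exact h.T2 zd hY ht
  intro w hw haw
  by_contra hw0
  obtain ⟨x, hxZ, hxY⟩ := h.Y_ne_Z hnc zd hY
  have hcyc : ∀ x' ∈ Z, ∃ n : ℕ, x' * (x ^ n)⁻¹ ∈ Y :=
    fun x' hx' => semi zd.ab hY r hcfg.hr zd.exp hcfg.rW x hxZ hxY x' hx'
  have haZ : a ∈ nzr Z := mem_nz Z a zd.za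
  have htZ : t ∈ nzr Z := mem_nz Z t zd.zt
  have hc := ab_aut zd.ab x hxZ hcyc a t⁻¹ haZ ha (Subgroup.inv_mem _ htZ) (Subgroup.inv_mem _ ht)
  have hcomm : (t * a * t⁻¹) * a⁻¹ = a⁻¹ * (t * a * t⁻¹) :=
    hcfg.zp_comm hcfg.nrm (by group)
  have e : (t⁻¹ * a)⁻¹ * (a * t⁻¹) = t * a * t⁻¹ * a⁻¹ := by
    rw [hcomm]; group
  rw [e] at hc
  have haC : a ∈ czq Z Y := (Subgroup.zpowers_le.2 hc) hcfg.gen
  let U : AddSubgroup W := FixSp Y ⊓ FixSp (Subgroup.zpowers a)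
  have hUmem : ∀ v, v ∈ U ↔ v ∈ FixSp Y ∧ a v = v := by
    intro v
    constructor
    · rintro ⟨h1, h2⟩
      exact ⟨h1, h2 a (Subgroup.mem_zpowers a)⟩
    · rintro ⟨h1, h2⟩
      exact ⟨h1, fun c hc => hcfg.zp_fix hc h2⟩
  have hwU : w ∈ U := (hUmem w).2 ⟨hw, haw⟩
  have htU : t ∈ stabU U := by
    apply stabU_of_maps
    intro v hv
    obtain ⟨h1, h2⟩ := (hUmem v).1 hv
    exact (hUmem _).2 ⟨((stabU_of_nz ht) v).2 h1, hcfg.fixW_t h2⟩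
  let D : Subgroup (LAut W) := fixg a Z
  have hDU : D ≤ stabU U := by
    intro d hd
    apply stabU_of_maps
    intro v hv
    obtain ⟨h1, h2⟩ := (hUmem v).1 hv
    refine (hUmem _).2 ⟨FixSp_comm (fun y hy => zd.ab d hd.1 y (hY.1 hy)) h1, ?_⟩
    have e1 : a * d = d * a := by
      calc a * d = (a * d * a⁻¹) * a := by group
        _ = d * a := by rw [hd.2]
    calc a (d v) = (a * d) v := rfl
      _ = (d * a) v := by rw [e1]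
      _ = d (a v) := rfl
      _ = d v := by rw [h2]
  have hDle : D ≤ R := (fixg_le a Z).trans zd.le
  have key := hh_fix hcfg.hℓ hcfg.hr hcfg.hp hcfg.hrℓ.symm hcfg.hℓp hcfg.hrp hcfg.exp U t hcfg.tp
    htU (fun v hv htv => hcfg.fp v ((hUmem v).1 hv).2 htv) D (hcfg.Rp.to_le hDle) hDU
    (fun d hd => ⟨zd.zt d hd.1, hcfg.fix_t hd.2⟩)
    (fun _ _ g hg g' hg' v _ => by
      have := zd.ab g hg.1 g' hg'.1
      calc g (g' v) = (g * g') v := rfl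
        _ = (g' * g) v := by rw [this]
        _ = g' (g v) := rfl)
  have hDY : ∀ d ∈ D, t * d * t⁻¹ * d⁻¹ ∈ Y := by
    intro d hd
    have h1 := comm_fixer U t d htU (hDU hd) (key d hd)
    have h2 : t * d * t⁻¹ * d⁻¹ ∈ Z := Z.mul_mem (zd.zt d hd.1) (Z.inv_mem hd.1)
    by_contra hnot
    exact hw0 (hY.fpf h2 hnot w hw (h1 w hwU))
  have e1 : x⁻¹ * (a * x * a⁻¹) ∈ Y := by
    have h1 := haC.2.2 x hxZ
    rw [zd.ab _ (Z.inv_mem hxZ) _ (zd.za x hxZ)]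
    exact h1
  obtain ⟨k, hk, hkfix⟩ := lift1 a q hcfg.hq hcfg.aq Y (hcfg.Rq Y (hY.1.trans zd.le))
    (nz_conj ha) x e1
  obtain ⟨d, hd⟩ : ∃ d, d = x * k := ⟨_, rfl⟩
  have hdD : d ∈ D := by rw [hd]; exact ⟨Z.mul_mem hxZ (hY.1 hk), hkfix⟩
  have hxd : x = d * k⁻¹ := by rw [hd]; group
  have hy' : t * k⁻¹ * t⁻¹ * k ∈ Y := Y.mul_mem (nz_conj ht _ (Y.inv_mem hk)) hk
  have hcomm2 : d * (t * k⁻¹ * t⁻¹ * k) = (t * k⁻¹ * t⁻¹ * k) * d :=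
    zd.ab d hdD.1 _ (hY.1 hy')
  have e2' : t * x * t⁻¹ * x⁻¹ ∈ Y := by
    have : t * x * t⁻¹ * x⁻¹ = (t * d * t⁻¹ * d⁻¹) * (t * k⁻¹ * t⁻¹ * k) := by
      calc t * x * t⁻¹ * x⁻¹
          = (t * d * t⁻¹ * d⁻¹) * (d * (t * k⁻¹ * t⁻¹ * k)) * d⁻¹ := by rw [hxd]; group
        _ = (t * d * t⁻¹ * d⁻¹) * ((t * k⁻¹ * t⁻¹ * k) * d) * d⁻¹ := by rw [hcomm2]
        _ = (t * d * t⁻¹ * d⁻¹) * (t * k⁻¹ * t⁻¹ * k) := by group
    rw [this]; exact Y.mul_mem (hDY d hdD) hy'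
  have e2 : x⁻¹ * (t * x * t⁻¹) ∈ Y := by
    rw [zd.ab _ (Z.inv_mem hxZ) _ (zd.zt x hxZ)]; exact e2'
  exact hxY (hcfg.Rtriv Y (hY.1.trans zd.le) (nz_conj ha) (nz_conj ht) x (zd.le hxZ) e1 e2)

/-- a component not normalized by `a`: a conjugate of `t` normalizes it, without fixed points -/
theorem Min.typeB (h : Min p q r s ℓ a t R S) (zd : ZD r a t R S Z) {Y : Subgroup (LAut W)}
    (hY : MaxFix Z Y) (ha : a ∉ nzr Y) :
    ∃ c ∈ Subgroup.zpowers a, c * t * c⁻¹ ∈ nzr Y ∧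
      ∀ w ∈ FixSp Y, (c * t * c⁻¹) w = w → w = 0 := by
  obtain ⟨c, hc, hct⟩ := h.T1 zd hY ha
  exact ⟨c, hc, hct, (h.conj hc).T3 (zd.conj h.cfg hc) hY hct ha⟩

theorem Min.hhK (h : Min p q r s ℓ a t R S) (hnc : ¬ ∀ x ∈ R, ∀ u ∈ S, x * u = u * x)
    (zd : ZD r a t R S Z) {Y : Subgroup (LAut W)} (hY : MaxFix Z Y) (ha : a ∈ nzr Y) :
    ∀ x ∈ R, a * x * a⁻¹ * x⁻¹ ∈ fixer (FixSp Y) := by
  have hcfg := h.cfg
  have haU := stabU_of_nz ha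
  have hRU : R ≤ stabU (FixSp Y) := fun x hx => stabU_of_nz (zd.R_nz hY.1 hx)
  have key := hh_fix hcfg.hℓ hcfg.hr hcfg.hq hcfg.hrℓ.symm hcfg.hℓq hcfg.hrq hcfg.exp (FixSp Y) a
    hcfg.aq haU (h.typeK hnc zd hY ha) R hcfg.Rp hRU hcfg.Ra
    (by
      rintro h2 ⟨n, hn⟩
      exfalso
      have hd : p ∣ 2 ^ n := by
        have := hcfg.hpq
        rw [hn] at this
        simpa using this
      have hp2 : p = 2 :=
        (Nat.prime_dvd_prime_iff_eq hcfg.hp Nat.prime_two).1 (hcfg.hp.dvd_of_dvd_pow hd)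
      exact hcfg.hrp (h2.trans hp2.symm))
  intro x hx
  exact comm_fixer _ a x haU (hRU hx) (key x hx)

theorem Min.hhB (h : Min p q r s ℓ a t R S) (zd : ZD r a t R S Z) {Y : Subgroup (LAut W)}
    (hY : MaxFix Z Y) (ht : t ∈ nzr Y) (hfp : ∀ w ∈ FixSp Y, t w = w → w = 0)
    (P : Subgroup (LAut W)) (hPR : P ≤ R) (hPt : ∀ g ∈ P, t * g * t⁻¹ ∈ P)
    (hexc : r = 2 → (∃ n : ℕ, p = 2 ^ n + 1) → ∀ g ∈ P, ∀ g' ∈ P, ∀ w ∈ FixSp Y,
      g (g' w) = g' (g w)) :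
    ∀ x ∈ P, t * x * t⁻¹ * x⁻¹ ∈ fixer (FixSp Y) := by
  have hcfg := h.cfg
  have htU := stabU_of_nz ht
  have hPU : P ≤ stabU (FixSp Y) := fun x hx => stabU_of_nz (zd.R_nz hY.1 (hPR hx))
  have key := hh_fix hcfg.hℓ hcfg.hr hcfg.hp hcfg.hrℓ.symm hcfg.hℓp hcfg.hrp hcfg.exp (FixSp Y) t
    hcfg.tp htU hfp P (hcfg.Rp.to_le hPR) hPU hPt hexc
  intro x hx
  exact comm_fixer _ t x htU (hPU hx) (key x hx)

/-- if all components of a conjugation-closed family are normalized by `a`, we are done -/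
theorem Min.allK (h : Min p q r s ℓ a t R S) (hnc : ¬ ∀ x ∈ R, ∀ u ∈ S, x * u = u * x)
    (zd : ZD r a t R S Z) (P : Subgroup (LAut W) → Prop) (hPmax : ∀ Y, P Y → MaxFix Z Y)
    (hPne : ∃ Y, P Y) (hPa : ∀ Y, P Y → P (cjS a Y)) (hPt : ∀ Y, P Y → P (cjS t Y))
    (hPR : ∀ x ∈ R, ∀ Y, P Y → P (cjS x Y)) (hPS : ∀ u ∈ S, ∀ Y, P Y → P (cjS u Y))
    (hK : ∀ Y, P Y → a ∈ nzr Y) : False := by
  apply hnc
  apply h.cfg.comm_of_a
  intro x hx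
  have h1 : a * x * a⁻¹ * x⁻¹ = 1 := by
    apply h.dec hnc Z zd.le zd.ab P hPmax hPne hPa hPt hPR hPS
    intro Y hY w hw
    exact h.hhK hnc zd (hPmax Y hY) (hK Y hY) x hx w hw
  calc a * x * a⁻¹ = (a * x * a⁻¹ * x⁻¹) * x := by group
    _ = x := by rw [h1, one_mul]

/-- a nontrivial power of `a` generates the powers of `a` -/
theorem Cfg.gen_of_ne (h : Cfg p q r s ℓ a t R S) {c : LAut W} (hc : c ∈ Subgroup.zpowers a)
    (hc1 : c ≠ 1) : a ∈ Subgroup.zpowers c := by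
  haveI : Fact q.Prime := ⟨h.hq⟩
  have ha1 : a ≠ 1 := by
    intro ha
    apply hc1
    rw [ha, Subgroup.zpowers_one_eq_bot, Subgroup.mem_bot] at hc
    exact hc
  have hord : orderOf a = q := orderOf_eq_prime h.aq ha1
  have hcard : Nat.card (Subgroup.zpowers a) = q := by rw [Nat.card_zpowers, hord]
  have hne : (⟨c, hc⟩ : Subgroup.zpowers a) ≠ 1 := fun h1 => hc1 (congrArg Subtype.val h1)
  have htop := zpowers_eq_top_of_prime_card hcard hne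
  have hmem : (⟨a, Subgroup.mem_zpowers a⟩ : Subgroup.zpowers a) ∈
      Subgroup.zpowers (⟨c, hc⟩ : Subgroup.zpowers a) := by rw [htop]; trivial
  obtain ⟨n, hn⟩ := Subgroup.mem_zpowers_iff.1 hmem
  rw [Subgroup.mem_zpowers_iff]
  refine ⟨n, ?_⟩
  have := congrArg Subtype.val hn
  simpa using this

theorem czq_conj {Z Y : Subgroup (LAut W)} {g k : LAut W} (hg : g ∈ czq Z Y) (hk : k ∈ nzr Z) :
    k * g * k⁻¹ ∈ czq Z (cjS k Y) := by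
  obtain ⟨hg1, hg2, hg3⟩ := hg
  refine ⟨Subgroup.mul_mem _ (Subgroup.mul_mem _ hk hg1) (Subgroup.inv_mem _ hk), ?_, ?_⟩
  · apply mem_nz
    rintro _ ⟨y, hy, rfl⟩
    have e : k * g * k⁻¹ * cj k y * (k * g * k⁻¹)⁻¹ = k * (g * y * g⁻¹) * k⁻¹ := by
      rw [cj_apply]; group
    rw [e]
    exact conj_mem_cjS (nz_conj hg2 y hy)
  · intro z hz
    have e : k * g * k⁻¹ * z * (k * g * k⁻¹)⁻¹ * z⁻¹ =
        k * (g * (k⁻¹ * z * k) * g⁻¹ * (k⁻¹ * z * k)⁻¹) * k⁻¹ := by group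
    rw [e]
    exact conj_mem_cjS (hg3 _ (nz_conj' hk z hz))

end

end Cfsg.Agent.Lib.Helper63.Fpq
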