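import Mathlib
import Cfsg.Agent.Lib.Helper63.FpqTypes2

set_option autoImplicit false

namespace Cfsg.Agent.Lib.Helper63.Fpq

open Cfsg.Agent.Lib.Helper63.S3A

universe u

section

variable {W : Type u} [AddCommGroup W] [Finite W]
variable {p q r s ℓ : ℕ} {a t : LAut W} {R S Z : Subgroup (LAut W)}

theorem mem_nz_cjS {g k : LAut W} {Y : Subgroup (LAut W)} :
    k ∈ nzr (cjS g Y) ↔ g⁻¹ * k * g ∈ nzr Y := by
  constructor
  · intro hk
    apply nz_of_cjS_eq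
    have h1 := cjS_eq_of_nz hk
    calc cjS (g⁻¹ * k * g) Y = cjS g⁻¹ (cjS k (cjS g Y)) := by
          rw [← cjS_mul, ← cjS_mul, mul_assoc]
      _ = cjS g⁻¹ (cjS g Y) := by rw [h1]
      _ = Y := cjS_inv_cjS g Y
  · intro hk
    apply nz_of_cjS_eq
    have h1 := cjS_eq_of_nz hk
    calc cjS k (cjS g Y) = cjS (g * (g⁻¹ * k * g)) Y := by
          rw [← cjS_mul]; congr 1; group
      _ = cjS g (cjS (g⁻¹ * k * g) Y) := cjS_mul _ _ _
      _ = cjS g Y := by rw [h1]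

/-- in a minimal counterexample with `R` abelian, `R` has exponent `r` -/
theorem Min.expR (h : Min p q r s ℓ a t R S) (hnc : ¬ ∀ x ∈ R, ∀ u ∈ S, x * u = u * x)
    (hab : ∀ x ∈ R, ∀ y ∈ R, x * y = y * x) : ∀ x ∈ R, x ^ r = 1 := by
  have hcfg := h.cfg
  let N : Subgroup (LAut W) :=
    { carrier := {y | ∃ x ∈ R, y = x ^ r}
      mul_mem' := by
        rintro _ _ ⟨x, hx, rfl⟩ ⟨x', hx', rfl⟩
        refine ⟨x * x', R.mul_mem hx hx', ?_⟩
        have hc : Commute x x' := hab x hx x' hx'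
        rw [hc.mul_pow]
      one_mem' := ⟨1, R.one_mem, by simp⟩
      inv_mem' := by
        rintro _ ⟨x, hx, rfl⟩
        exact ⟨x⁻¹, R.inv_mem hx, by rw [inv_pow]⟩ }
  have hNle : N ≤ R := by
    rintro _ ⟨x, hx, rfl⟩
    exact R.pow_mem hx r
  have hNne : N ≠ R := by
    intro hN
    apply hnc
    have hsurj : Function.Surjective (fun x : R => (⟨(x : LAut W) ^ r, R.pow_mem x.2 r⟩ : R)) := by
      rintro ⟨y, hy⟩
      rw [← hN] at hy
      obtain ⟨x, hx, rfl⟩ := hy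
      exact ⟨⟨x, hx⟩, rfl⟩
    have hinj := Finite.injective_iff_surjective.2 hsurj
    have htriv : ∀ k : ℕ, ∀ x ∈ R, x ^ r ^ k = 1 → x = 1 := by
      intro k
      induction k with
      | zero => intro x _ hx; simpa using hx
      | succ k ih =>
        intro x hx hxk
        apply ih x hx
        have h1 : (⟨(x ^ r ^ k) ^ r, R.pow_mem (R.pow_mem hx _) r⟩ : R) =
            ⟨(1 : LAut W) ^ r, R.pow_mem R.one_mem r⟩ := by
          apply Subtype.ext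
          show (x ^ r ^ k) ^ r = 1 ^ r
          rw [← pow_mul, ← pow_succ, hxk, one_pow]
        have h2 := @hinj ⟨x ^ r ^ k, R.pow_mem hx _⟩ ⟨1, R.one_mem⟩ h1
        exact congrArg Subtype.val h2
    have hR1 : ∀ x ∈ R, x = 1 := by
      intro x hx
      obtain ⟨k, hk⟩ := hcfg.Rp ⟨x, hx⟩
      exact htriv k x hx (congrArg Subtype.val hk)
    intro x hx u _
    rw [hR1 x hx]; simp
  have hconj : ∀ g : LAut W, (∀ x ∈ R, g * x * g⁻¹ ∈ R) → ∀ y ∈ N, g * y * g⁻¹ ∈ N := by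
    rintro g hg _ ⟨x, hx, rfl⟩
    exact ⟨g * x * g⁻¹, hg x hx, by rw [conj_pow]⟩
  have hsub := h.subR N hNle hNne (hconj a hcfg.Ra) (hconj t hcfg.Rt)
    (fun u hu => hconj u (hcfg.RS u hu))
  let H : Subgroup (LAut W) :=
    { carrier := {y | y ∈ R ∧ y ^ r = 1}
      mul_mem' := by
        rintro x x' ⟨hx, hx1⟩ ⟨hx', hx1'⟩
        refine ⟨R.mul_mem hx hx', ?_⟩
        have hc : Commute x x' := hab x hx x' hx'
        rw [hc.mul_pow, hx1, hx1', one_mul]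
      one_mem' := ⟨R.one_mem, one_pow r⟩
      inv_mem' := by
        rintro x ⟨hx, hx1⟩
        exact ⟨R.inv_mem hx, by rw [inv_pow, hx1, inv_one]⟩ }
  have hle : Subgroup.closure (comms R S) ≤ H := by
    rw [Subgroup.closure_le]
    rintro _ ⟨x, hx, u, hu, rfl⟩
    have hux : u * x * u⁻¹ ∈ R := hcfg.RS u hu x hx
    refine ⟨R.mul_mem (R.inv_mem hx) hux, ?_⟩
    have hc : Commute x⁻¹ (u * x * u⁻¹) := hab _ (R.inv_mem hx) _ hux
    have h1 : x ^ r * u = u * x ^ r := hsub _ ⟨x, hx, rfl⟩ u hu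
    rw [hc.mul_pow, conj_pow, inv_pow]
    calc (x ^ r)⁻¹ * (u * x ^ r * u⁻¹) = (x ^ r)⁻¹ * (x ^ r * u) * u⁻¹ := by rw [h1]; group
      _ = 1 := by group
  rw [h.genA hnc] at hle
  exact fun x hx => (hle hx).2

theorem Min.zdR (h : Min p q r s ℓ a t R S) (hnc : ¬ ∀ x ∈ R, ∀ u ∈ S, x * u = u * x)
    (hab : ∀ x ∈ R, ∀ y ∈ R, x * y = y * x) : ZD r a t R S R := by
  refine ⟨le_rfl, hab, h.expR hnc hab, h.cfg.Ra, h.cfg.Rt, hab, h.cfg.RS, ?_⟩
  by_contra hno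
  push Not at hno
  apply hnc
  intro x hx u _
  rw [hno x hx]; simp

/-- the abelian case, when `a` does not centralize `S` -/
theorem Min.ab_caseB (h : Min p q r s ℓ a t R S) (hnc : ¬ ∀ x ∈ R, ∀ u ∈ S, x * u = u * x)
    (hab : ∀ x ∈ R, ∀ y ∈ R, x * y = y * x) (hSa : ¬ ∀ u ∈ S, a * u * a⁻¹ = u) : False := by
  have hcfg := h.cfg
  have zd := h.zdR hnc hab
  have hfix_ne : fixg a S ≠ S := by
    intro he
    apply hSa
    intro u hu
    rw [← he] at hu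
    exact hu.2
  have hCS := h.subS (fixg a S) (fixg_le a S) hfix_ne
    (fun u hu => by rw [hu.2]; exact hu) (fun u hu => ⟨hcfg.St u hu.1, hcfg.fix_t hu.2⟩)
  have hB1 : ∀ u ∈ S, ∀ Y, MaxFix R Y → a ∈ nzr Y → a ∈ nzr (cjS u Y) := by
    intro u hu Y hY ha
    by_contra ha'
    have hY' : MaxFix R (cjS u Y) := hY.conj u (hcfg.RS u hu)
    obtain ⟨c, hc, hct, hfp⟩ := h.typeB zd hY' ha'
    obtain ⟨t', ht'⟩ : ∃ t' : LAut W, t' = c * t * c⁻¹ := ⟨_, rfl⟩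
    rw [← ht'] at hct hfp
    have h' : Min p q r s ℓ a t' R S := by rw [ht']; exact h.conj hc
    have zd' : ZD r a t' R S R := by rw [ht']; exact zd.conj hcfg hc
    have hcfg' := h'.cfg
    have hzpN : Subgroup.zpowers a ≤ nzr Y := Subgroup.zpowers_le.2 ha
    have hu₁S : t' * u⁻¹ * t'⁻¹ * u ∈ S := S.mul_mem (hcfg'.St _ (S.inv_mem hu)) hu
    have e_cj : cjS t' Y = cjS (t' * u⁻¹ * t'⁻¹ * u) Y := by
      have h1 : cjS t' (cjS u Y) = cjS u Y := cjS_eq_of_nz hct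
      calc cjS t' Y = cjS t' (cjS u⁻¹ (cjS u Y)) := by rw [cjS_inv_cjS]
        _ = cjS (t' * u⁻¹ * t'⁻¹) (cjS t' (cjS u Y)) := by
            have e1 : cjS t' (cjS u⁻¹ (cjS u Y)) = cjS (t' * u⁻¹) (cjS u Y) :=
              (cjS_mul _ _ _).symm
            have e2 : cjS (t' * u⁻¹ * t'⁻¹) (cjS t' (cjS u Y)) =
                cjS (t' * u⁻¹ * t'⁻¹ * t') (cjS u Y) := (cjS_mul _ _ _).symm
            have e3 : t' * u⁻¹ * t'⁻¹ * t' = t' * u⁻¹ := by group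
            rw [e1, e2, e3]
        _ = cjS (t' * u⁻¹ * t'⁻¹) (cjS u Y) := by rw [h1]
        _ = cjS (t' * u⁻¹ * t'⁻¹ * u) Y := (cjS_mul _ _ _).symm
    have ha_cj : a ∈ nzr (cjS t' Y) :=
      mem_nz_cjS.2 (hzpN (hcfg'.zp_nrm' a (Subgroup.mem_zpowers a)))
    rw [e_cj] at ha_cj
    have ha_u₁ := mem_nz_cjS.1 ha_cj
    obtain ⟨u₁, hu₁⟩ : ∃ u₁ : LAut W, u₁ = t' * u⁻¹ * t'⁻¹ * u := ⟨_, rfl⟩
    rw [← hu₁] at hu₁S e_cj ha_u₁
    have hNa : ∀ k ∈ S ⊓ nzr Y, a * k * a⁻¹ ∈ S ⊓ nzr Y := by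
      intro k hk
      exact ⟨hcfg.Sa k hk.1, Subgroup.mul_mem _ (Subgroup.mul_mem _ ha hk.2)
        (Subgroup.inv_mem _ ha)⟩
    have hu₁N : u₁⁻¹ * (a * u₁ * a⁻¹) ∈ S ⊓ nzr Y := by
      refine ⟨S.mul_mem (S.inv_mem hu₁S) (hcfg.Sa u₁ hu₁S), ?_⟩
      have e : u₁⁻¹ * (a * u₁ * a⁻¹) = (u₁⁻¹ * a * u₁) * a⁻¹ := by group
      rw [e]
      exact Subgroup.mul_mem _ ha_u₁ (Subgroup.inv_mem _ ha)
    obtain ⟨k, hk, hkfix⟩ := lift1 a q hcfg.hq hcfg.aq (S ⊓ nzr Y) (hcfg.Sq _ inf_le_left) hNa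
      u₁ hu₁N
    have hvfix : u₁ * k ∈ fixg a S := ⟨S.mul_mem hu₁S hk.1, hkfix⟩
    have hvN : u₁ * k ∈ nzr Y := by
      apply mem_nz
      intro y hy
      rw [← hCS y (hY.1 hy) _ hvfix]
      have e : y * (u₁ * k) * (u₁ * k)⁻¹ = y := by group
      rw [e]; exact hy
    have hu₁N' : u₁ ∈ nzr Y := by
      have e : u₁ = (u₁ * k) * k⁻¹ := by group
      rw [e]
      exact Subgroup.mul_mem _ hvN (Subgroup.inv_mem _ hk.2)
    have ht'Y : t' ∈ nzr Y := by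
      apply nz_of_cjS_eq
      rw [e_cj]
      exact cjS_eq_of_nz hu₁N'
    have hNt' : ∀ k ∈ S ⊓ nzr Y, t' * k * t'⁻¹ ∈ S ⊓ nzr Y := by
      intro k hk
      exact ⟨hcfg'.St k hk.1, Subgroup.mul_mem _ (Subgroup.mul_mem _ ht'Y hk.2)
        (Subgroup.inv_mem _ ht'Y)⟩
    have hSY_ne : S ⊓ nzr Y ≠ S := by
      intro he
      have huN : u ∈ nzr Y := by
        have : u ∈ S ⊓ nzr Y := by rw [he]; exact hu
        exact this.2
      apply ha'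
      rw [cjS_eq_of_nz huN]; exact ha
    have hSYc := h'.subS (S ⊓ nzr Y) inf_le_left hSY_ne hNa hNt'
    obtain ⟨d, hd⟩ : ∃ d : LAut W, d = u⁻¹ * t' * u * t'⁻¹ := ⟨_, rfl⟩
    have hdN : d ∈ S ⊓ nzr Y := by
      refine ⟨?_, ?_⟩
      · have e : d = u⁻¹ * (t' * u * t'⁻¹) := by rw [hd]; group
        rw [e]; exact S.mul_mem (S.inv_mem hu) (hcfg'.St u hu)
      · have e : d = (u⁻¹ * t' * u) * t'⁻¹ := by rw [hd]
        rw [e]
        exact Subgroup.mul_mem _ (mem_nz_cjS.1 hct) (Subgroup.inv_mem _ ht'Y)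
    have key := h'.hhB zd' hY' hct hfp R le_rfl hcfg'.Rt
      (fun _ _ g hg g' hg' w _ => by
        have := hab g hg g' hg'
        calc g (g' w) = (g * g') w := rfl
          _ = (g' * g) w := by rw [this]
          _ = g' (g w) := rfl)
    have he2 : ∀ x ∈ R, x⁻¹ * (t' * x * t'⁻¹) ∈ Y := by
      intro x hx
      have hx₁ : u * x * u⁻¹ ∈ R := hcfg.RS u hu x hx
      have h1 := key _ hx₁
      have h2 : t' * (u * x * u⁻¹) * t'⁻¹ * (u * x * u⁻¹)⁻¹ ∈ cjS u Y :=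
        hY'.kernel (R.mul_mem (hcfg'.Rt _ hx₁) (R.inv_mem hx₁)) h1
      rw [mem_cjS] at h2
      have hdc : d * (t' * x * t'⁻¹) = (t' * x * t'⁻¹) * d :=
        (hSYc _ (hcfg'.Rt x hx) d hdN).symm
      have e : u⁻¹ * (t' * (u * x * u⁻¹) * t'⁻¹ * (u * x * u⁻¹)⁻¹) * u =
          (d * (t' * x * t'⁻¹)) * d⁻¹ * x⁻¹ := by rw [hd]; group
      rw [e, hdc] at h2
      have e3 : t' * x * t'⁻¹ * d * d⁻¹ * x⁻¹ = (t' * x * t'⁻¹) * x⁻¹ := by group
      rw [e3, hab _ (hcfg'.Rt x hx) _ (R.inv_mem hx)] at h2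
      exact h2
    have he1 : ∀ x ∈ R, x⁻¹ * (a * x * a⁻¹) ∈ Y := by
      intro x hx
      have h1 := h.hhK hnc zd hY ha x hx
      have h2 := hY.kernel (R.mul_mem (hcfg.Ra x hx) (R.inv_mem hx)) h1
      rw [hab _ (R.inv_mem hx) _ (hcfg.Ra x hx)]; exact h2
    obtain ⟨x, hxR, hxY⟩ := h.Y_ne_Z hnc zd hY
    exact hxY (hcfg'.Rtriv Y hY.1 (nz_conj ha) (nz_conj ht'Y) x hxR (he1 x hxR) (he2 x hxR))
  by_cases hex : ∃ Y, MaxFix R Y ∧ a ∈ nzr Y
  · refine h.allK hnc zd (fun Y => MaxFix R Y ∧ a ∈ nzr Y) (fun Y hY => hY.1) hex ?_ ?_ ?_ ?_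
      (fun Y hY => hY.2)
    · intro Y hY
      refine ⟨hY.1.conj a zd.za, mem_nz_cjS.2 ?_⟩
      have e : a⁻¹ * a * a = a := by group
      rw [e]; exact hY.2
    · intro Y hY
      refine ⟨hY.1.conj t zd.zt, mem_nz_cjS.2 ?_⟩
      exact (Subgroup.zpowers_le.2 hY.2) (hcfg.zp_nrm' a (Subgroup.mem_zpowers a))
    · intro x hx Y hY
      have hxN : x ∈ nzr Y := zd.R_nz hY.1.1 hx
      rw [cjS_eq_of_nz hxN]; exact hY
    · intro u hu Y hY
      exact ⟨hY.1.conj u (zd.zS u hu), hB1 u hu Y hY.1 hY.2⟩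
  · push Not at hex
    have hD1 : ∀ x ∈ R, a * x * a⁻¹ = x → x = 1 := by
      intro x hx hxa
      apply h.decZ hnc zd
      intro Y hY
      obtain ⟨c, hc, hct, hfp⟩ := h.typeB zd hY (hex Y hY)
      have h' := h.conj hc
      have zd' := zd.conj hcfg hc
      have hcfg' := h'.cfg
      have key := h'.hhB zd' hY hct hfp R le_rfl hcfg'.Rt
        (fun _ _ g hg g' hg' w _ => by
          have := hab g hg g' hg'
          calc g (g' w) = (g * g') w := rfl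
            _ = (g' * g) w := by rw [this]
            _ = g' (g w) := rfl)
      obtain ⟨y, hy, hyx⟩ := lamSurj (MulAut.conj (c * t * c⁻¹)).toMonoidHom (fixg a R)
        (fun k hk => ⟨hcfg'.Rt k hk.1, hcfg'.fix_t hk.2⟩)
        (fun k hk hkt => hcfg'.Rfp k hk.1 hk.2 hkt) x ⟨hx, hxa⟩
      have hyx' : y⁻¹ * ((c * t * c⁻¹) * y * (c * t * c⁻¹)⁻¹) = x := hyx
      have h1 := key y hy.1
      rw [← hyx', hab _ (R.inv_mem hy.1) _ (hcfg'.Rt y hy.1)]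
      exact h1
    apply hnc
    exact thompson_comm R S hcfg.hr hcfg.hs hcfg.hq hcfg.hrs hcfg.hsq hcfg.Rp hcfg.Sp hcfg.RS a
      hcfg.aq hcfg.Ra hcfg.Sa hD1 (fun u hu hua x hx => (hCS x hx u ⟨hu, hua⟩).symm)

end

end Cfsg.Agent.Lib.Helper63.Fpq
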