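import Mathlib
import Cfsg.Agent.Lib.Helper63.FpqAb

set_option autoImplicit false

namespace Cfsg.Agent.Lib.Helper63.Fpq

open Cfsg.Agent.Lib.Helper63.S3A

universe u

section

variable {W : Type u} [AddCommGroup W] [Finite W]
variable {p q r s ℓ : ℕ} {a t : LAut W} {R S Z : Subgroup (LAut W)}

/-- the abelian case, when `a` centralizes `S` -/
theorem Min.ab_caseA (h : Min p q r s ℓ a t R S) (hnc : ¬ ∀ x ∈ R, ∀ u ∈ S, x * u = u * x)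
    (hab : ∀ x ∈ R, ∀ y ∈ R, x * y = y * x) (hSa : ∀ u ∈ S, a * u * a⁻¹ = u)
    (Y₁ : Subgroup (LAut W)) (hY₁ : MaxFix R Y₁) (ha₁ : a ∉ nzr Y₁) : False := by
  have hcfg := h.cfg
  have zd := h.zdR hnc hab
  obtain ⟨c, hc, hct, hfp⟩ := h.typeB zd hY₁ ha₁
  obtain ⟨t', ht'⟩ : ∃ t' : LAut W, t' = c * t * c⁻¹ := ⟨_, rfl⟩
  rw [← ht'] at hct hfp
  have h' : Min p q r s ℓ a t' R S := by rw [ht']; exact h.conj hc
  have zd' : ZD r a t' R S R := by rw [ht']; exact zd.conj hcfg hc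
  have hcfg' := h'.cfg
  have hSa' : ∀ u ∈ S, a * u = u * a := by
    intro u hu
    calc a * u = (a * u * a⁻¹) * a := by group
      _ = u * a := by rw [hSa u hu]
  have hzS : ∀ d ∈ Subgroup.zpowers a, ∀ u ∈ S, d * u = u * d :=
    fun d hd u hu => hcfg.zp_comm hd (hSa' u hu)
  have hexcR : ∀ Y : Subgroup (LAut W), r = 2 → (∃ n : ℕ, p = 2 ^ n + 1) → ∀ g ∈ R, ∀ g' ∈ R,
      ∀ w ∈ FixSp Y, g (g' w) = g' (g w) := by
    intro Y _ _ g hg g' hg' w _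
    have := hab g hg g' hg'
    calc g (g' w) = (g * g') w := rfl
      _ = (g' * g) w := by rw [this]
      _ = g' (g w) := rfl
  have hA1 : ∀ u ∈ S, a ∉ nzr (cjS u Y₁) := by
    intro u hu hmem
    apply ha₁
    have h1 := mem_nz_cjS.1 hmem
    have e : u⁻¹ * a * u = a := by rw [mul_assoc, hSa' u hu]; group
    rwa [e] at h1
  have hA2 : ∀ u ∈ S, t' ∈ nzr (cjS u Y₁) := by
    intro u hu
    have hY' : MaxFix R (cjS u Y₁) := hY₁.conj u (hcfg.RS u hu)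
    obtain ⟨c₂, hc₂, hct₂, -⟩ := h.typeB zd hY' (hA1 u hu)
    by_contra hne
    have hcfg₂ := (h.conj hc₂).cfg
    obtain ⟨t₂, ht₂⟩ : ∃ t₂ : LAut W, t₂ = c₂ * t * c₂⁻¹ := ⟨_, rfl⟩
    rw [← ht₂] at hct₂ hcfg₂
    have hc'' : t'⁻¹ * t₂ ∈ Subgroup.zpowers a := by
      have e : t'⁻¹ * t₂ = c * (t⁻¹ * (c⁻¹ * c₂) * t) * c₂⁻¹ := by rw [ht', ht₂]; group
      rw [e]
      exact Subgroup.mul_mem _ (Subgroup.mul_mem _ hc
        (hcfg.zp_nrm' _ (Subgroup.mul_mem _ (Subgroup.inv_mem _ hc) hc₂)))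
        (Subgroup.inv_mem _ hc₂)
    have hv : t₂⁻¹ * u⁻¹ * t₂ * u ∈ S :=
      S.mul_mem (norm_inv S t₂ hcfg₂.St _ (S.inv_mem hu)) hu
    have hg : (t'⁻¹ * t₂) * (t₂⁻¹ * u⁻¹ * t₂ * u) ∈ nzr Y₁ := by
      have e : (t'⁻¹ * t₂) * (t₂⁻¹ * u⁻¹ * t₂ * u) = t'⁻¹ * (u⁻¹ * t₂ * u) := by group
      rw [e]
      exact Subgroup.mul_mem _ (Subgroup.inv_mem _ hct) (mem_nz_cjS.1 hct₂)
    have hc1 : t'⁻¹ * t₂ ≠ 1 := by
      intro h1
      have e : t₂ = t' := by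
        have := congrArg (fun z => t' * z) h1
        simpa using this
      rw [e] at hct₂
      exact hne hct₂
    obtain ⟨kk, hkk⟩ := hcfg.Sp ⟨_, hv⟩
    have hvk : (t₂⁻¹ * u⁻¹ * t₂ * u) ^ s ^ kk = 1 := congrArg Subtype.val hkk
    have hcomm : Commute (t'⁻¹ * t₂) (t₂⁻¹ * u⁻¹ * t₂ * u) := hzS _ hc'' _ hv
    have h2 : (t'⁻¹ * t₂) ^ s ^ kk ∈ nzr Y₁ := by
      have := Subgroup.pow_mem _ hg (s ^ kk)
      rwa [hcomm.mul_pow, hvk, mul_one] at this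
    have hcq : (t'⁻¹ * t₂) ^ q = 1 := by
      obtain ⟨i, hi⟩ := Subgroup.mem_zpowers_iff.1 hc''
      rw [← hi, ← zpow_natCast, ← zpow_mul, mul_comm, zpow_mul, zpow_natCast, hcfg.aq, one_zpow]
    have hcop : Nat.Coprime q (s ^ kk) :=
      Nat.Coprime.pow_right _ ((Nat.coprime_primes hcfg.hq hcfg.hs).2 hcfg.hsq.symm)
    have h3 : t'⁻¹ * t₂ ∈ nzr Y₁ := root_mem _ _ q (s ^ kk) hcq hcop h2
    have h4 : a ∈ Subgroup.zpowers (t'⁻¹ * t₂) := hcfg.gen_of_ne hc'' hc1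
    exact ha₁ ((Subgroup.zpowers_le.2 h3) h4)
  have hA34 : ∀ u ∈ S, t' ∈ czq R (cjS u Y₁) := by
    intro u hu
    have hY' : MaxFix R (cjS u Y₁) := hY₁.conj u (hcfg.RS u hu)
    have hfp' := h'.T3 zd' hY' (hA2 u hu) (hA1 u hu)
    have key := h'.hhB zd' hY' (hA2 u hu) hfp' R le_rfl hcfg'.Rt (hexcR _)
    exact ⟨mem_nz R t' hcfg'.Rt, hA2 u hu, fun x hx =>
      hY'.kernel (R.mul_mem (hcfg'.Rt x hx) (R.inv_mem hx)) (key x hx)⟩
  have hA5 : ∀ v ∈ S, ∀ u' ∈ S, v ∈ czq R (cjS u' Y₁) := by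
    intro v hv u' hu'
    obtain ⟨u, hu, huv⟩ := lamSurj (MulAut.conj t').toMonoidHom S hcfg'.St
      (fun k hk hkt => hcfg'.Sfp k hk (hSa k hk) hkt) v hv
    have huv' : u⁻¹ * (t' * u * t'⁻¹) = v := huv
    have h1 : t' ∈ czq R (cjS (u * u') Y₁) := hA34 (u * u') (S.mul_mem hu hu')
    have h2 := czq_conj h1 (k := u⁻¹) (mem_nz R u⁻¹ (hcfg.RS u⁻¹ (S.inv_mem hu)))
    rw [← cjS_mul, inv_mul_cancel_left, inv_inv] at h2
    have h3 : t'⁻¹ ∈ czq R (cjS u' Y₁) := Subgroup.inv_mem _ (hA34 u' hu')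
    have h4 := Subgroup.mul_mem _ h2 h3
    have e : u⁻¹ * t' * u * t'⁻¹ = v := by rw [← huv']; group
    rw [e] at h4
    exact h4
  have hA6 : ∀ v ∈ S, ∀ Y : Subgroup (LAut W),
      (∃ d ∈ Subgroup.zpowers a, ∃ u ∈ S, Y = cjS (d * u) Y₁) → v ∈ czq R Y := by
    rintro v hv Y ⟨d, hd, u', hu', rfl⟩
    have h1 := czq_conj (hA5 v hv u' hu') (k := d) (hcfg.zp_le_nz R hcfg.Ra hd)
    rw [← cjS_mul] at h1
    have e : d * v * d⁻¹ = v := by rw [hzS d hd v hv]; group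
    rw [e] at h1
    exact h1
  apply hnc
  intro x hx v hv
  have h1 : v * x * v⁻¹ * x⁻¹ = 1 := by
    apply h.dec hnc R le_rfl hab
      (fun Y => ∃ d ∈ Subgroup.zpowers a, ∃ u ∈ S, Y = cjS (d * u) Y₁)
    · rintro Y ⟨d, hd, u, hu, rfl⟩
      exact hY₁.conj (d * u) (nz_conj (Subgroup.mul_mem _ (hcfg.zp_le_nz R hcfg.Ra hd)
        (mem_nz R u (hcfg.RS u hu))))
    · exact ⟨Y₁, 1, Subgroup.one_mem _, 1, S.one_mem, by rw [mul_one, cjS_one]⟩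
    · rintro Y ⟨d, hd, u, hu, rfl⟩
      exact ⟨a * d, Subgroup.mul_mem _ (Subgroup.mem_zpowers a) hd, u, hu, by
        rw [← cjS_mul, mul_assoc]⟩
    · rintro Y ⟨d, hd, u, hu, rfl⟩
      refine ⟨c⁻¹ * (t' * (c * d) * t'⁻¹), Subgroup.mul_mem _ (Subgroup.inv_mem _ hc)
        (hcfg'.zp_nrm _ (Subgroup.mul_mem _ hc hd)), t' * u * t'⁻¹, hcfg'.St u hu, ?_⟩
      rw [← cjS_mul]
      have e : t * (d * u) = (c⁻¹ * (t' * (c * d) * t'⁻¹) * (t' * u * t'⁻¹)) * t' := by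
        rw [ht']; group
      rw [e, cjS_mul, cjS_eq_of_nz hct]
    · intro x' hx' Y hY
      obtain ⟨d, hd, u, hu, rfl⟩ := hY
      have hM : MaxFix R (cjS (d * u) Y₁) :=
        hY₁.conj (d * u) (nz_conj (Subgroup.mul_mem _ (hcfg.zp_le_nz R hcfg.Ra hd)
          (mem_nz R u (hcfg.RS u hu))))
      have hxN : x' ∈ nzr (cjS (d * u) Y₁) := zd.R_nz hM.1 hx'
      rw [cjS_eq_of_nz hxN]
      exact ⟨d, hd, u, hu, rfl⟩
    · rintro u₀ hu₀ Y ⟨d, hd, u, hu, rfl⟩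
      refine ⟨d, hd, u₀ * u, S.mul_mem hu₀ hu, ?_⟩
      rw [← cjS_mul]
      congr 1
      rw [← mul_assoc, ← hzS d hd u₀ hu₀, mul_assoc]
    · intro Y hY w hw
      have h2 := (hA6 v hv Y hY).2.2 x hx
      exact hw _ h2
  calc x * v = (v * x * v⁻¹ * x⁻¹)⁻¹ * (v * x) := by group
    _ = v * x := by rw [h1]; group

/-- the abelian case -/
theorem Min.abelian_false (h : Min p q r s ℓ a t R S)
    (hnc : ¬ ∀ x ∈ R, ∀ u ∈ S, x * u = u * x) (hab : ∀ x ∈ R, ∀ y ∈ R, x * y = y * x) :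
    False := by
  have zd := h.zdR hnc hab
  by_cases hall : ∀ Y, MaxFix R Y → a ∈ nzr Y
  · exact h.allK hnc zd (MaxFix R) (fun Y hY => hY) (MaxFix.exists R (W_ne hnc))
      (fun Y hY => hY.conj a zd.za) (fun Y hY => hY.conj t zd.zt)
      (fun x hx Y hY => hY.conj x (zd.zR' x hx)) (fun u hu Y hY => hY.conj u (zd.zS u hu)) hall
  · push Not at hall
    obtain ⟨Y₁, hY₁, ha₁⟩ := hall
    by_cases hSa : ∀ u ∈ S, a * u * a⁻¹ = u
    · exact h.ab_caseA hnc hab hSa Y₁ hY₁ ha₁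
    · exact h.ab_caseB hnc hab hSa

end

end Cfsg.Agent.Lib.Helper63.Fpq
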