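import Mathlib
import Cfsg.Agent.Lib.Helper63.FpqMin

set_option autoImplicit false

namespace Cfsg.Agent.Lib.Helper63.Fpq

open Cfsg.Agent.Lib.Helper63.S3A

universe u

section

variable {Γ : Type*} [Group Γ]

/-- conjugation by a normalizing element, as an endomorphism of the subgroup -/
def cjR (R : Subgroup Γ) (g : Γ) (hg : g ∈ nzr R) : ↥R →* ↥R where
  toFun x := ⟨g * x * g⁻¹, nz_conj hg x x.2⟩
  map_one' := Subtype.ext (by
    show g * ((1 : ↥R) : Γ) * g⁻¹ = 1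
    simp)
  map_mul' x y := Subtype.ext (by
    show g * ((x : Γ) * (y : Γ)) * g⁻¹ = (g * x * g⁻¹) * (g * y * g⁻¹)
    group)

theorem cjR_coe (R : Subgroup Γ) (g : Γ) (hg : g ∈ nzr R) (x : ↥R) :
    ((cjR R g hg x : ↥R) : Γ) = g * x * g⁻¹ := rfl

/-- the product of a subgroup with the powers of a normalizing element -/
def prodSub (R : Subgroup Γ) (g : Γ) (hg : g ∈ nzr R) : Subgroup Γ where
  carrier := {k | ∃ x ∈ R, ∃ γ ∈ Subgroup.zpowers g, k = x * γ}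
  mul_mem' := by
    rintro _ _ ⟨x, hx, γ, hγ, rfl⟩ ⟨x', hx', γ', hγ', rfl⟩
    have hγn : γ ∈ nzr R := (Subgroup.zpowers_le.2 hg) hγ
    refine ⟨x * (γ * x' * γ⁻¹), R.mul_mem hx (nz_conj hγn x' hx'), γ * γ',
      Subgroup.mul_mem _ hγ hγ', ?_⟩
    group
  one_mem' := ⟨1, R.one_mem, 1, Subgroup.one_mem _, by simp⟩
  inv_mem' := by
    rintro _ ⟨x, hx, γ, hγ, rfl⟩
    have hγn : γ ∈ nzr R := (Subgroup.zpowers_le.2 hg) hγ
    refine ⟨γ⁻¹ * x⁻¹ * γ, nz_conj' hγn _ (R.inv_mem hx), γ⁻¹, Subgroup.inv_mem _ hγ, ?_⟩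
    group

theorem le_prodSub (R : Subgroup Γ) (g : Γ) (hg : g ∈ nzr R) : R ≤ prodSub R g hg :=
  fun x hx => ⟨x, hx, 1, Subgroup.one_mem _, by simp⟩

theorem mem_prodSub_self (R : Subgroup Γ) (g : Γ) (hg : g ∈ nzr R) : g ∈ prodSub R g hg :=
  ⟨1, R.one_mem, g, Subgroup.mem_zpowers g, by simp⟩

theorem zpowers_le_prodSub (R : Subgroup Γ) (g : Γ) (hg : g ∈ nzr R) :
    Subgroup.zpowers g ≤ prodSub R g hg :=
  Subgroup.zpowers_le.2 (mem_prodSub_self R g hg)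

theorem prodSub_le_nz (R : Subgroup Γ) (g : Γ) (hg : g ∈ nzr R) : prodSub R g hg ≤ nzr R := by
  rintro _ ⟨x, hx, γ, hγ, rfl⟩
  exact Subgroup.mul_mem _ (Subgroup.le_normalizer hx) ((Subgroup.zpowers_le.2 hg) hγ)

theorem prodSub_le_of (R : Subgroup Γ) (g : Γ) (hg : g ∈ nzr R) (N : Subgroup Γ) (hR : R ≤ N)
    (hgN : g ∈ N) : prodSub R g hg ≤ N := by
  rintro _ ⟨x, hx, γ, hγ, rfl⟩
  exact N.mul_mem (hR hx) ((Subgroup.zpowers_le.2 hgN) hγ)

theorem pow_mem_of_prodSub (R : Subgroup Γ) (g : Γ) (hg : g ∈ nzr R) (m : ℕ) (hgm : g ^ m = 1) :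
    ∀ k ∈ prodSub R g hg, k ^ m ∈ R := by
  rintro _ ⟨x, hx, γ, hγ, rfl⟩
  have hγn : γ ∈ nzr R := (Subgroup.zpowers_le.2 hg) hγ
  have key : ∀ n : ℕ, (x * γ) ^ n * (γ ^ n)⁻¹ ∈ R := by
    intro n
    induction n with
    | zero => simp
    | succ n ih =>
      have e : (x * γ) ^ (n + 1) * (γ ^ (n + 1))⁻¹ =
          ((x * γ) ^ n * (γ ^ n)⁻¹) * (γ ^ n * x * (γ ^ n)⁻¹) := by
        rw [pow_succ, pow_succ]; group
      rw [e]
      exact R.mul_mem ih (nz_conj (Subgroup.pow_mem _ hγn n) x hx)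
  have h1 := key m
  have h2 : γ ^ m = 1 := by
    obtain ⟨j, rfl⟩ := Subgroup.mem_zpowers_iff.1 hγ
    rw [← zpow_natCast, ← zpow_mul, mul_comm, zpow_mul, zpow_natCast, hgm, one_zpow]
  rw [h2, inv_one, mul_one] at h1
  exact h1

theorem not_dvd_card_prodSub {r m ℓ' : ℕ} (hr : r.Prime) (hm : m.Prime) (hℓ : ℓ'.Prime)
    (h1 : ℓ' ≠ r) (h2 : ℓ' ≠ m) (R : Subgroup Γ) (hR : IsPGroup r R) (g : Γ) (hg : g ∈ nzr R)
    (hgm : g ^ m = 1) (K : Subgroup Γ) [Finite K] (hK : K ≤ prodSub R g hg) :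
    ¬ ℓ' ∣ Nat.card K := by
  intro hd
  haveI : Fact ℓ'.Prime := ⟨hℓ⟩
  obtain ⟨k, hk⟩ := exists_prime_orderOf_dvd_card' ℓ' hd
  have h3 : (k : Γ) ^ m ∈ R := pow_mem_of_prodSub R g hg m hgm _ (hK k.2)
  obtain ⟨i, hi⟩ := hR ⟨_, h3⟩
  have h4 : ((k : Γ) ^ m) ^ r ^ i = 1 := congrArg Subtype.val hi
  have h5 : orderOf (k : Γ) = ℓ' := by rw [Subgroup.orderOf_coe]; exact hk
  have h6 : ℓ' ∣ m * r ^ i := by
    rw [← h5]; apply orderOf_dvd_of_pow_eq_one; rw [pow_mul]; exact h4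
  rcases (Nat.Prime.dvd_mul hℓ).1 h6 with h7 | h7
  · exact h2 ((Nat.prime_dvd_prime_iff_eq hℓ hm).1 h7)
  · exact h1 ((Nat.prime_dvd_prime_iff_eq hℓ hr).1 (hℓ.dvd_of_dvd_pow h7))

/-- the generators of `[R, t]` -/
def tcomm (R : Subgroup Γ) (t : Γ) : Set Γ := {g | ∃ x ∈ R, g = x⁻¹ * (t * x * t⁻¹)}

/-- the norm argument: fixed points of `t` in `[R, t]` have `p`-th power in `N₀` when `R` is
abelian modulo `N₀` -/
theorem norm_arg (R N₀ : Subgroup Γ) (hN : ∀ x ∈ R, ∀ n ∈ N₀, x * n * x⁻¹ ∈ N₀)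
    (hcom : ∀ x ∈ R, ∀ y ∈ R, x * y * x⁻¹ * y⁻¹ ∈ N₀) (t : Γ) (p : ℕ) (htp : t ^ p = 1)
    (htR : t ∈ nzr R) :
    ∀ c ∈ Subgroup.closure (tcomm R t), c ∈ R → t * c * t⁻¹ = c → c ^ p ∈ N₀ := by
  classical
  have hNn : (N₀.subgroupOf R).Normal := ⟨by
    intro n hn g
    rw [Subgroup.mem_subgroupOf] at hn ⊢
    exact hN g g.2 n hn⟩
  letI : CommGroup (↥R ⧸ N₀.subgroupOf R) :=
    { (inferInstance : Group (↥R ⧸ N₀.subgroupOf R)) with
      mul_comm := by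
        intro x y
        induction x using QuotientGroup.induction_on with
        | _ x =>
          induction y using QuotientGroup.induction_on with
          | _ y =>
            rw [← QuotientGroup.mk_mul, ← QuotientGroup.mk_mul, QuotientGroup.eq,
              Subgroup.mem_subgroupOf]
            have h1 := hcom _ (R.inv_mem y.2) _ (R.inv_mem x.2)
            have e : (((x * y)⁻¹ * (y * x) : ↥R) : Γ) =
                (y : Γ)⁻¹ * (x : Γ)⁻¹ * (y : Γ)⁻¹⁻¹ * (x : Γ)⁻¹⁻¹ := by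
              simp only [Subgroup.coe_mul, Subgroup.coe_inv]; group
            rw [e]; exact h1 }
  let c0 : ℕ → (↥R →* ↥R) := fun j => cjR R (t ^ j) (Subgroup.pow_mem _ htR j)
  let ν : ↥R →* (↥R ⧸ N₀.subgroupOf R) :=
    ∏ j ∈ Finset.range p, (QuotientGroup.mk' (N₀.subgroupOf R)).comp (c0 j)
  have hν : ∀ x : ↥R, ν x = ∏ j ∈ Finset.range p,
      (QuotientGroup.mk (c0 j x) : ↥R ⧸ N₀.subgroupOf R) := by
    intro x
    show (∏ j ∈ Finset.range p, (QuotientGroup.mk' (N₀.subgroupOf R)).comp (c0 j)) x = _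
    rw [MonoidHom.finset_prod_apply]
    rfl
  have hc01 : ∀ j : ℕ, ∀ x : ↥R, c0 j (c0 1 x) = c0 (j + 1) x := by
    intro j x
    apply Subtype.ext
    show t ^ j * (t ^ 1 * (x : Γ) * (t ^ 1)⁻¹) * (t ^ j)⁻¹ = t ^ (j + 1) * x * (t ^ (j + 1))⁻¹
    rw [pow_one, pow_succ]; group
  have hc0p : ∀ x : ↥R, c0 p x = c0 0 x := by
    intro x
    apply Subtype.ext
    show t ^ p * (x : Γ) * (t ^ p)⁻¹ = t ^ 0 * x * (t ^ 0)⁻¹
    rw [htp, pow_zero]
  have hνt : ∀ x : ↥R, ν (c0 1 x) = ν x := by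
    intro x
    rw [hν, hν]
    have e1 := Finset.prod_range_succ'
      (fun j => (QuotientGroup.mk (c0 j x) : ↥R ⧸ N₀.subgroupOf R)) p
    have e2 := Finset.prod_range_succ
      (fun j => (QuotientGroup.mk (c0 j x) : ↥R ⧸ N₀.subgroupOf R)) p
    rw [e1] at e2
    simp only [hc0p] at e2
    have e3 := mul_right_cancel e2
    rw [← e3]
    exact Finset.prod_congr rfl (fun j _ => by rw [hc01])
  have hgenK : Subgroup.closure (tcomm R t) ≤ (ν.ker).map R.subtype := by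
    rw [Subgroup.closure_le]
    rintro _ ⟨x, hx, rfl⟩
    refine ⟨(⟨x, hx⟩ : ↥R)⁻¹ * c0 1 ⟨x, hx⟩, ?_, ?_⟩
    · show ν ((⟨x, hx⟩ : ↥R)⁻¹ * c0 1 ⟨x, hx⟩) = 1
      rw [map_mul, map_inv, hνt, inv_mul_cancel]
    · show ((⟨x, hx⟩ : ↥R)⁻¹ * c0 1 ⟨x, hx⟩ : ↥R).1 = x⁻¹ * (t * x * t⁻¹)
      show x⁻¹ * (t ^ 1 * x * (t ^ 1)⁻¹) = x⁻¹ * (t * x * t⁻¹)
      rw [pow_one]
  intro c hc hcR hct
  obtain ⟨c', hc', hcc⟩ := hgenK hc
  have hc'1 : ν c' = 1 := hc'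
  have hc'c : (c' : Γ) = c := hcc
  have hfixj : ∀ j : ℕ, c0 j c' = c' := by
    intro j
    apply Subtype.ext
    show t ^ j * (c' : Γ) * (t ^ j)⁻¹ = c'
    rw [hc'c]
    have hcm : Commute t c := by
      show t * c = c * t
      calc t * c = (t * c * t⁻¹) * t := by group
        _ = c * t := by rw [hct]
    have := (hcm.pow_left j).eq
    rw [this]; group
  rw [hν] at hc'1
  simp only [hfixj, Finset.prod_const, Finset.card_range] at hc'1
  rw [← QuotientGroup.mk_pow, QuotientGroup.eq_one_iff, Subgroup.mem_subgroupOf] at hc'1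
  rw [← hc'c]
  simpa using hc'1

theorem closure_gen (Q : Subgroup Γ) (t : Γ) (HH : Subgroup Γ)
    (hHH : HH = Subgroup.closure ((Q : Set Γ) ∪ {t})) (hQH : Q ≤ HH) (htH : t ∈ HH) :
    Subgroup.closure (Set.range (Subgroup.inclusion hQH) ∪ {(⟨t, htH⟩ : ↥HH)}) = ⊤ := by
  subst hHH
  have h := Subgroup.closure_closure_coe_preimage (k := (Q : Set Γ) ∪ {t})
  have e : Set.range (Subgroup.inclusion hQH) ∪
      {(⟨t, htH⟩ : ↥(Subgroup.closure ((Q : Set Γ) ∪ {t})))} =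
      (Subtype.val ⁻¹' ((Q : Set Γ) ∪ {t})) := by
    ext y
    simp only [Set.mem_union, Set.mem_range, Set.mem_singleton_iff, Set.mem_preimage,
      SetLike.mem_coe]
    constructor
    · rintro (⟨g, rfl⟩ | rfl)
      · left; exact g.2
      · right; rfl
    · rintro (h1 | h1)
      · left; exact ⟨⟨y, h1⟩, Subtype.ext rfl⟩
      · right; exact Subtype.ext h1
  rw [e]; exact h

end

section

variable (U : Type*) [AddCommGroup U]

/-- negation as an automorphism -/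
def negL : LAut U := LinearEquiv.neg ℤ

theorem negL_apply (w : U) : negL U w = -w := rfl

theorem negL_comm (g : LAut U) : negL U * g = g * negL U := by
  refine LinearEquiv.ext (fun w => ?_)
  show -(g w) = g (-w)
  rw [map_neg]

theorem negL_mul_self : negL U * negL U = 1 := by
  refine LinearEquiv.ext (fun w => ?_)
  show - -w = w
  rw [neg_neg]

theorem mem_zpowers_negL (k : LAut U) (hk : k ∈ Subgroup.zpowers (negL U)) :
    k = 1 ∨ k = negL U := by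
  obtain ⟨i, rfl⟩ := Subgroup.mem_zpowers_iff.1 hk
  have h2 : negL U ^ (2 : ℤ) = 1 := by
    have : negL U ^ (2 : ℕ) = 1 := by rw [pow_two]; exact negL_mul_self U
    exact_mod_cast this
  rcases Int.even_or_odd' i with ⟨m, rfl | rfl⟩
  · left
    rw [zpow_mul, h2, one_zpow]
  · right
    rw [zpow_add, zpow_mul, h2, one_zpow, one_mul, zpow_one]

end

end Cfsg.Agent.Lib.Helper63.Fpq
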