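import Mathlib
import Cfsg.Agent.Lib.Helper97.FrobCountMod
import Cfsg.Agent.Lib.Helper63.FpqExc1

set_option autoImplicit false

namespace Cfsg.Agent.Lib.Helper63.Fpq

open Cfsg.Agent.Lib.Helper63.S3A

universe u

section

variable {Γ : Type*} [Group Γ]

/-- the commutator pairing with values in the units of the integers -/
noncomputable def bet (x y : Γ) : ℤˣ := by
  classical exact if x * y * x⁻¹ * y⁻¹ = 1 then 1 else -1

theorem bet_eq_one_iff (x y : Γ) : bet x y = 1 ↔ x * y = y * x := by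
  classical
  unfold bet
  constructor
  · intro h
    by_contra hne
    have h1 : ¬ (x * y * x⁻¹ * y⁻¹ = 1) := by
      intro h2
      apply hne
      calc x * y = (x * y * x⁻¹ * y⁻¹) * (y * x) := by group
        _ = y * x := by rw [h2, one_mul]
    rw [if_neg h1] at h
    exact absurd h (by decide)
  · intro h
    have h1 : x * y * x⁻¹ * y⁻¹ = 1 := by rw [h]; group
    rw [if_pos h1]

theorem bet_conj (k x y : Γ) : bet (k * x * k⁻¹) (k * y * k⁻¹) = bet x y := by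
  classical
  unfold bet
  have e : k * x * k⁻¹ * (k * y * k⁻¹) * (k * x * k⁻¹)⁻¹ * (k * y * k⁻¹)⁻¹ =
      k * (x * y * x⁻¹ * y⁻¹) * k⁻¹ := by group
  rw [e]
  by_cases h : x * y * x⁻¹ * y⁻¹ = 1
  · have h' : k * (x * y * x⁻¹ * y⁻¹) * k⁻¹ = 1 := by rw [h]; group
    rw [if_pos h, if_pos h']
  · have h' : ¬ (k * (x * y * x⁻¹ * y⁻¹) * k⁻¹ = 1) := by
      intro h1
      apply h
      have e2 : x * y * x⁻¹ * y⁻¹ = k⁻¹ * (k * (x * y * x⁻¹ * y⁻¹) * k⁻¹) * k := by group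
      rw [e2, h1]; group
    rw [if_neg h, if_neg h']

theorem bet_symm (x y : Γ) : bet x y = bet y x := by
  classical
  unfold bet
  by_cases h : x * y * x⁻¹ * y⁻¹ = 1
  · have h' : y * x * y⁻¹ * x⁻¹ = 1 := by
      have e : y * x * y⁻¹ * x⁻¹ = (x * y * x⁻¹ * y⁻¹)⁻¹ := by group
      rw [e, h, inv_one]
    rw [if_pos h, if_pos h']
  · have h' : ¬ (y * x * y⁻¹ * x⁻¹ = 1) := by
      intro h1
      apply h
      have e : x * y * x⁻¹ * y⁻¹ = (y * x * y⁻¹ * x⁻¹)⁻¹ := by group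
      rw [e, h1, inv_one]
    rw [if_neg h, if_neg h']

theorem bet_one_right (x : Γ) : bet x 1 = 1 := by
  rw [bet_eq_one_iff]; simp

theorem bet_mul_right (z : Γ) (hz : ∀ g : Γ, z * g = g * z) (hzz : z * z = 1) (x y y' : Γ)
    (h1 : x * y * x⁻¹ * y⁻¹ = 1 ∨ x * y * x⁻¹ * y⁻¹ = z)
    (h2 : x * y' * x⁻¹ * y'⁻¹ = 1 ∨ x * y' * x⁻¹ * y'⁻¹ = z) :
    bet x (y * y') = bet x y * bet x y' := by
  classical
  have e : x * (y * y') * x⁻¹ * (y * y')⁻¹ =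
      (x * y * x⁻¹ * y⁻¹) * (y * (x * y' * x⁻¹ * y'⁻¹) * y⁻¹) := by group
  have ez : y * z * y⁻¹ = z := by rw [← hz y]; group
  unfold bet
  rw [e]
  rcases h1 with h1 | h1 <;> rcases h2 with h2 | h2
  · rw [h1, h2]; simp
  · rw [h1, h2, ez]; simp
  · rw [h1, h2]; simp
  · rw [h1, h2, ez, hzz]
    rw [if_pos rfl]
    exact (Int.units_mul_self _).symm

/-- commutators of `R` are trivial or the central involution `z` -/
structure CZ (R : Subgroup Γ) (z : Γ) : Prop where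
  cen : ∀ g : Γ, z * g = g * z
  sq : z * z = 1
  com : ∀ x ∈ R, ∀ y ∈ R, x * y * x⁻¹ * y⁻¹ = 1 ∨ x * y * x⁻¹ * y⁻¹ = z

/-- the commutator pairing as a homomorphism into the dual -/
noncomputable def lam (R : Subgroup Γ) (z : Γ) (h : CZ R z) : ↥R →* (↥R →* ℤˣ) where
  toFun x :=
    { toFun := fun y => bet (x : Γ) (y : Γ)
      map_one' := bet_one_right _
      map_mul' := fun y y' => bet_mul_right z h.cen h.sq x y y' (h.com x x.2 y y.2)
        (h.com x x.2 y' y'.2) }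
  map_one' := by
    refine MonoidHom.ext (fun y => ?_)
    show bet ((1 : ↥R) : Γ) (y : Γ) = 1
    rw [bet_symm]; exact bet_one_right _
  map_mul' x x' := by
    refine MonoidHom.ext (fun y => ?_)
    show bet ((x : Γ) * (x' : Γ)) (y : Γ) = bet (x : Γ) (y : Γ) * bet (x' : Γ) (y : Γ)
    rw [bet_symm, bet_mul_right z h.cen h.sq y x x' (h.com y y.2 x x.2) (h.com y y.2 x' x'.2),
      bet_symm (y : Γ) (x : Γ), bet_symm (y : Γ) (x' : Γ)]

theorem lam_apply (R : Subgroup Γ) (z : Γ) (h : CZ R z) (x y : ↥R) :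
    lam R z h x y = bet (x : Γ) (y : Γ) := rfl

theorem lam_eq_one_iff (R : Subgroup Γ) (z : Γ) (h : CZ R z) (x : ↥R) :
    lam R z h x = 1 ↔ ∀ y ∈ R, (x : Γ) * y = y * x := by
  constructor
  · intro h1 y hy
    have h2 := congrArg (fun f : ↥R →* ℤˣ => f ⟨y, hy⟩) h1
    exact (bet_eq_one_iff _ _).1 h2
  · intro h1
    refine MonoidHom.ext (fun y => ?_)
    exact (bet_eq_one_iff _ _).2 (h1 y y.2)

/-- the contragredient action on the dual -/
@[reducible] def dualAct (R K : Subgroup Γ) (hK : K ≤ nzr R) :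
    MulDistribMulAction ↥K (↥R →* ℤˣ) where
  smul k f := f.comp (cjR R (k : Γ)⁻¹ (Subgroup.inv_mem _ (hK k.2)))
  one_smul f := by
    refine MonoidHom.ext (fun y => ?_)
    show f (cjR R ((1 : ↥K) : Γ)⁻¹ _ y) = f y
    congr 1
    apply Subtype.ext
    show ((1 : ↥K) : Γ)⁻¹ * (y : Γ) * (((1 : ↥K) : Γ)⁻¹)⁻¹ = y
    simp
  mul_smul k k' f := by
    refine MonoidHom.ext (fun y => ?_)
    show f (cjR R ((k * k' : ↥K) : Γ)⁻¹ _ y) = f (cjR R (k' : Γ)⁻¹ _ (cjR R (k : Γ)⁻¹ _ y))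
    congr 1
    apply Subtype.ext
    show ((k * k' : ↥K) : Γ)⁻¹ * (y : Γ) * (((k * k' : ↥K) : Γ)⁻¹)⁻¹ =
      (k' : Γ)⁻¹ * ((k : Γ)⁻¹ * (y : Γ) * ((k : Γ)⁻¹)⁻¹) * ((k' : Γ)⁻¹)⁻¹
    simp only [Subgroup.coe_mul]; group
  smul_mul k f f' := rfl
  smul_one k := rfl

theorem dualAct_apply (R K : Subgroup Γ) (hK : K ≤ nzr R) (k : ↥K) (f : ↥R →* ℤˣ) (y : ↥R) :
    letI := dualAct R K hK
    (k • f) y = f (cjR R (k : Γ)⁻¹ (Subgroup.inv_mem _ (hK k.2)) y) := rfl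

theorem lam_smul (R K : Subgroup Γ) (hK : K ≤ nzr R) (z : Γ) (h : CZ R z) (k : ↥K) (x : ↥R) :
    letI := dualAct R K hK
    k • lam R z h x = lam R z h (cjR R (k : Γ) (hK k.2) x) := by
  refine MonoidHom.ext (fun y => ?_)
  show bet (x : Γ) ((k : Γ)⁻¹ * y * ((k : Γ)⁻¹)⁻¹) = bet ((k : Γ) * x * (k : Γ)⁻¹) (y : Γ)
  rw [← bet_conj (k : Γ) (x : Γ) _]
  congr 1
  group

theorem tcomm_le (R : Subgroup Γ) (t : Γ) (htR : t ∈ nzr R) :
    Subgroup.closure (tcomm R t) ≤ R := by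
  rw [Subgroup.closure_le]
  rintro _ ⟨x, hx, rfl⟩
  exact R.mul_mem (R.inv_mem hx) (nz_conj htR x hx)

theorem tcomm_conj (R : Subgroup Γ) (t : Γ) (htR : t ∈ nzr R) :
    ∀ y ∈ Subgroup.closure (tcomm R t), t * y * t⁻¹ ∈ Subgroup.closure (tcomm R t) := by
  apply closure_conj_mem
  rintro _ ⟨x, hx, rfl⟩
  apply Subgroup.subset_closure
  exact ⟨t * x * t⁻¹, nz_conj htR x hx, by group⟩

/-- the fixed points of `t` commute with `[R, t]` -/
theorem CQ_comm (R : Subgroup Γ) (z : Γ) (h : CZ R z) (t : Γ) (htR : t ∈ nzr R) :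
    ∀ c ∈ fixg t R, ∀ y ∈ Subgroup.closure (tcomm R t), c * y = y * c := by
  intro c hc
  have hle : Subgroup.closure (tcomm R t) ≤ Subgroup.centralizer {c} := by
    rw [Subgroup.closure_le]
    rintro _ ⟨x, hx, rfl⟩
    rw [SetLike.mem_coe, Subgroup.mem_centralizer_iff]
    intro c' hc'
    rw [Set.mem_singleton_iff] at hc'
    subst hc'
    have htx : t * x * t⁻¹ ∈ R := nz_conj htR x hx
    have h1 : lam R z h ⟨c', hc.1⟩ ((⟨x, hx⟩ : ↥R)⁻¹ * ⟨t * x * t⁻¹, htx⟩) = 1 := by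
      rw [map_mul, map_inv]
      have h2 : lam R z h ⟨c', hc.1⟩ ⟨t * x * t⁻¹, htx⟩ = lam R z h ⟨c', hc.1⟩ ⟨x, hx⟩ := by
        show bet c' (t * x * t⁻¹) = bet c' x
        have h3 := bet_conj t c' x
        rw [hc.2] at h3
        exact h3
      rw [h2, inv_mul_cancel]
    have h3 : bet c' (x⁻¹ * (t * x * t⁻¹)) = 1 := h1
    exact (bet_eq_one_iff _ _).1 h3
  intro y hy
  exact Subgroup.mem_centralizer_iff.1 (hle hy) c rfl

/-- `R` is the product of the fixed points of `t` and `[R, t]` -/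
theorem CQ_prod (R : Subgroup Γ) [Finite R] {p : ℕ} (hp : p.Prime) (hp2 : p ≠ 2)
    (hR : IsPGroup 2 R) (t : Γ) (htp : t ^ p = 1) (htR : t ∈ nzr R) :
    ∀ x ∈ R, ∃ k ∈ Subgroup.closure (tcomm R t), t * (x * k) * t⁻¹ = x * k := by
  have hQR : Subgroup.closure (tcomm R t) ≤ R := tcomm_le R t htR
  haveI : Finite (Subgroup.closure (tcomm R t)) := finite_of_le hQR
  intro x hx
  exact lift1 t p hp htp _ (not_dvd_pgroup Nat.prime_two hp (Ne.symm hp2) _ (hR.to_le hQR))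
    (tcomm_conj R t htR) x (Subgroup.subset_closure ⟨x, hx, rfl⟩)

end

section

variable {Γ : Type*} [Group Γ] [Finite Γ]

/-- the counting argument: `[R, t]` is large -/
theorem cnt {p s : ℕ} (hp : p.Prime) (hs : s.Prime) (hp2 : p ≠ 2) (hs2 : s ≠ 2) (hsp : s ≠ p)
    (t : Γ) (htp : t ^ p = 1) (ht1 : t ≠ 1) (R S : Subgroup Γ) (hR : IsPGroup 2 R)
    (hS : IsPGroup s S) (htR : t ∈ nzr R) (htS : t ∈ nzr S) (hSR : S ≤ nzr R)
    (hSfp : ∀ u ∈ S, t * u * t⁻¹ = u → u = 1) (z : Γ) (h : CZ R z)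
    (hgen : R ≤ Subgroup.closure {c | ∃ x ∈ R, ∃ u ∈ S, c = x⁻¹ * (u * x * u⁻¹)})
    (hnab : ¬ ∀ x ∈ R, ∀ y ∈ R, x * y = y * x)
    (hzQ : z ∈ Subgroup.closure (tcomm R t)) (hz1 : z ≠ 1) :
    2 * 4 ^ (p - 1) ≤ Nat.card (Subgroup.closure (tcomm R t)) := by
  classical
  have hQR : Subgroup.closure (tcomm R t) ≤ R := tcomm_le R t htR
  obtain ⟨K, hKdef⟩ : ∃ K : Subgroup Γ, K = prodSub S t htS := ⟨_, rfl⟩
  have hKR : K ≤ nzr R := by rw [hKdef]; exact prodSub_le_of S t htS (nzr R) hSR htR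
  have hKS : K ≤ nzr S := by rw [hKdef]; exact prodSub_le_nz S t htS
  have hSK : S ≤ K := by rw [hKdef]; exact le_prodSub S t htS
  have htK : t ∈ K := by rw [hKdef]; exact mem_prodSub_self S t htS
  letI := dualAct R K hKR
  have hexp : ∀ v : ↥R →* ℤˣ, v ^ 2 = 1 := by
    intro v
    refine MonoidHom.ext (fun y => ?_)
    rw [MonoidHom.pow_apply]
    exact Int.units_sq _
  have hcop : ¬ 2 ∣ Nat.card ↥K := by
    rw [hKdef]
    exact not_dvd_card_prodSub hs hp Nat.prime_two (Ne.symm hs2) (Ne.symm hp2) S hS t htS htp _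
      le_rfl
  obtain ⟨U_, hU_⟩ : ∃ U_ : Subgroup ↥K, U_ = S.subgroupOf K := ⟨_, rfl⟩
  have hUmem : ∀ u : ↥K, u ∈ U_ ↔ (u : Γ) ∈ S := by
    intro u; rw [hU_, Subgroup.mem_subgroupOf]
  haveI hUn : U_.Normal := ⟨by
    intro n hn g
    rw [hUmem] at hn ⊢
    exact nz_conj (hKS g.2) n hn⟩
  haveI : Fact s.Prime := ⟨hs⟩
  have hUnil : Group.IsNilpotent ↥U_ := by
    have h1 : IsPGroup s ↥U_ := by rw [hU_]; exact hS.comap_subtype
    exact h1.isNilpotent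
  obtain ⟨E_, hE_⟩ : ∃ E_ : Subgroup ↥K, E_ = (Subgroup.zpowers t).subgroupOf K := ⟨_, rfl⟩
  have hEmem : ∀ e : ↥K, e ∈ E_ ↔ (e : Γ) ∈ Subgroup.zpowers t := by
    intro e; rw [hE_, Subgroup.mem_subgroupOf]
  have hEfpf : ∀ e ∈ E_, e ≠ 1 → ∀ u ∈ U_, e * u = u * e → u = 1 := by
    intro e he he1 u hu heu
    have he' : (e : Γ) ∈ Subgroup.zpowers t := (hEmem e).1 he
    have hu' : (u : Γ) ∈ S := (hUmem u).1 hu
    rw [← mem_powers_iff_mem_zpowers, Submonoid.mem_powers_iff] at he'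
    obtain ⟨n, hn⟩ := he'
    have hcop' : Nat.Coprime p n := by
      rw [Nat.Prime.coprime_iff_not_dvd hp]
      rintro ⟨m, rfl⟩
      apply he1
      apply Subtype.ext
      rw [← hn, pow_mul, htp, one_pow]; rfl
    have h1 : t ^ n ∈ Subgroup.centralizer {(u : Γ)} := by
      rw [Subgroup.mem_centralizer_iff]
      intro y hy
      rw [Set.mem_singleton_iff] at hy
      rw [hy, hn]
      exact (congrArg Subtype.val heu).symm
    have h2 := root_mem _ t p n htp hcop' h1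
    rw [Subgroup.mem_centralizer_iff] at h2
    have h3 := h2 (u : Γ) rfl
    have h4 : t * (u : Γ) * t⁻¹ = u := by rw [← h3]; group
    exact Subtype.ext (hSfp _ hu' h4)
  obtain ⟨Wd, hWd⟩ : ∃ Wd : Subgroup (↥R →* ℤˣ), Wd = (lam R z h).range := ⟨_, rfl⟩
  have hWmem : ∀ w : ↥R →* ℤˣ, w ∈ Wd ↔ ∃ x : ↥R, lam R z h x = w := by
    intro w; rw [hWd]; exact MonoidHom.mem_range
  have hWinv : ∀ g : ↥K, ∀ w ∈ Wd, g • w ∈ Wd := by
    intro g w hw
    obtain ⟨x, rfl⟩ := (hWmem w).1 hw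
    exact (hWmem _).2 ⟨cjR R (g : Γ) (hKR g.2) x, (lam_smul R K hKR z h g x).symm⟩
  have hfixS : ∀ w : ↥R →* ℤˣ, (∀ u ∈ U_, u • w = w) → w = 1 := by
    intro w hw
    have hle : Subgroup.closure {c | ∃ x ∈ R, ∃ u ∈ S, c = x⁻¹ * (u * x * u⁻¹)} ≤
        (w.ker).map R.subtype := by
      rw [Subgroup.closure_le]
      rintro _ ⟨x, hx, u, hu, rfl⟩
      have hux : u * x * u⁻¹ ∈ R := nz_conj (hSR hu) x hx
      refine ⟨(⟨x, hx⟩ : ↥R)⁻¹ * ⟨u * x * u⁻¹, hux⟩, ?_, rfl⟩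
      show w ((⟨x, hx⟩ : ↥R)⁻¹ * ⟨u * x * u⁻¹, hux⟩) = 1
      rw [map_mul, map_inv]
      have huK : u⁻¹ ∈ K := hSK (S.inv_mem hu)
      have h1 := hw ⟨u⁻¹, huK⟩ ((hUmem _).2 (S.inv_mem hu))
      have h2 : w ⟨u * x * u⁻¹, hux⟩ = w ⟨x, hx⟩ := by
        have h3 := congrArg (fun f : ↥R →* ℤˣ => f ⟨x, hx⟩) h1
        have h4 : (⟨u * x * u⁻¹, hux⟩ : ↥R) =
            cjR R ((⟨u⁻¹, huK⟩ : ↥K) : Γ)⁻¹ (Subgroup.inv_mem _ (hKR huK)) ⟨x, hx⟩ := by
          apply Subtype.ext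
          show u * x * u⁻¹ = u⁻¹⁻¹ * x * u⁻¹⁻¹⁻¹
          group
        rw [h4]
        exact h3
      rw [h2, inv_mul_cancel]
    refine MonoidHom.ext (fun y => ?_)
    obtain ⟨y', hy', hyy⟩ := hle (hgen y.2)
    have e : y' = y := Subtype.ext hyy
    rw [← e]
    exact hy'
  have hcount := Cfsg.Agent.Lib.Helper97.FrobCount.count_of_fix_trivial (G := ↥K)
    (V := ↥R →* ℤˣ) U_ E_ hUnil hEfpf Nat.prime_two hexp hcop Wd hWinv
    (fun w _ hw => hfixS w hw)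
  have hEcard : Nat.card E_ = p := by
    have hle : Subgroup.zpowers t ≤ K := Subgroup.zpowers_le.2 htK
    rw [hE_, Nat.card_congr (Subgroup.subgroupOfEquivOfLe hle).toEquiv, Nat.card_zpowers]
    haveI : Fact p.Prime := ⟨hp⟩
    exact orderOf_eq_prime htp ht1
  rw [hEcard] at hcount
  obtain ⟨F, hF⟩ : ∃ F : Subgroup (↥R →* ℤˣ),
      F = Cfsg.Agent.Lib.Helper97.FrobCount.fixIn E_ Wd := ⟨_, rfl⟩
  rw [← hF] at hcount
  obtain ⟨tK, htK'⟩ : ∃ tK : ↥K, tK = ⟨t, htK⟩ := ⟨_, rfl⟩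
  have htKc : (tK : Γ) = t := by rw [htK']
  have hFmem : ∀ w : ↥R →* ℤˣ, w ∈ F ↔ w ∈ Wd ∧ tK • w = w := by
    intro w
    rw [hF]
    constructor
    · rintro ⟨hw, hfix⟩
      exact ⟨hw, hfix tK ((hEmem tK).2 (by rw [htKc]; exact Subgroup.mem_zpowers t))⟩
    · rintro ⟨hw, hfix⟩
      refine ⟨hw, fun e he => ?_⟩
      have he' : (e : Γ) ∈ Subgroup.zpowers t := (hEmem e).1 he
      obtain ⟨i, hi⟩ := Subgroup.mem_zpowers_iff.1 he'
      have hei : e = tK ^ i := by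
        apply Subtype.ext
        rw [← hi, Subgroup.coe_zpow, htKc]
      rw [hei]
      have hst : tK ∈ MulAction.stabilizer ↥K w := hfix
      exact Subgroup.zpow_mem _ hst i
  have hsm : ∀ x : ↥R, tK • lam R z h x = lam R z h (cjR R t htR x) := by
    intro x
    rw [lam_smul R K hKR z h tK x]
    congr 1
    apply Subtype.ext
    show (tK : Γ) * x * (tK : Γ)⁻¹ = t * x * t⁻¹
    rw [htKc]
  have hcen1 : ∀ k (hk : k ∈ cent R R), lam R z h ⟨k, hk.1⟩ = 1 := by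
    intro k hk
    exact (lam_eq_one_iff R z h _).2 (fun y hy => hk.2 y hy)
  have hFC : ∀ w ∈ F, ∃ c, ∃ hc : c ∈ fixg t R, w = lam R z h ⟨c, hc.1⟩ := by
    intro w hw
    obtain ⟨hwW, hfix⟩ := (hFmem w).1 hw
    obtain ⟨x, rfl⟩ := (hWmem w).1 hwW
    have h1 : lam R z h (cjR R t htR x) = lam R z h x := (hsm x).symm.trans hfix
    have h2 : lam R z h (x⁻¹ * cjR R t htR x) = 1 := by
      rw [map_mul, map_inv, h1, inv_mul_cancel]
    have h3 : (x : Γ)⁻¹ * (t * x * t⁻¹) ∈ cent R R :=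
      ⟨R.mul_mem (R.inv_mem x.2) (nz_conj htR x x.2),
        fun y hy => (lam_eq_one_iff R z h _).1 h2 y hy⟩
    obtain ⟨k, hk, hkfix⟩ := lift1 t p hp htp (cent R R)
      (not_dvd_pgroup Nat.prime_two hp (Ne.symm hp2) _ (hR.to_le (cent_le R R)))
      (cent_conj R R t (nz_conj htR) (nz_conj htR)) x h3
    refine ⟨x * k, ⟨R.mul_mem x.2 hk.1, hkfix⟩, ?_⟩
    have h5 : (⟨(x : Γ) * k, R.mul_mem x.2 hk.1⟩ : ↥R) = x * ⟨k, hk.1⟩ := rfl
    rw [h5, map_mul, hcen1 k hk, mul_one]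
  have hCF : ∀ c (hc : c ∈ fixg t R), lam R z h ⟨c, hc.1⟩ ∈ F := by
    intro c hc
    rw [hFmem]
    refine ⟨(hWmem _).2 ⟨_, rfl⟩, ?_⟩
    rw [hsm]
    congr 1
    apply Subtype.ext
    exact hc.2
  -- the commutator map on the image
  let μ : ↥Wd →* (↥R →* ℤˣ) :=
    { toFun := fun w => (w : ↥R →* ℤˣ)⁻¹ * tK • (w : ↥R →* ℤˣ)
      map_one' := by
        show ((1 : ↥Wd) : ↥R →* ℤˣ)⁻¹ * tK • ((1 : ↥Wd) : ↥R →* ℤˣ) = 1
        rw [Subgroup.coe_one, smul_one, inv_one, one_mul]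
      map_mul' := fun w w' => by
        show ((w * w' : ↥Wd) : ↥R →* ℤˣ)⁻¹ * tK • ((w * w' : ↥Wd) : ↥R →* ℤˣ) = _
        rw [Subgroup.coe_mul, smul_mul', mul_inv]
        exact mul_mul_mul_comm _ _ _ _ }
  have hμ : ∀ w : ↥Wd, μ w = (w : ↥R →* ℤˣ)⁻¹ * tK • (w : ↥R →* ℤˣ) := fun w => rfl
  have hcard1 : Nat.card ↥Wd = Nat.card μ.ker * Nat.card μ.range := by
    rw [← Subgroup.index_ker, Subgroup.card_mul_index]
  have hker : Nat.card μ.ker ≤ Nat.card F := by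
    have hmem : ∀ w : μ.ker, ((w : ↥Wd) : ↥R →* ℤˣ) ∈ F := by
      intro w
      rw [hFmem]
      refine ⟨(w : ↥Wd).2, ?_⟩
      have h1 : μ (w : ↥Wd) = 1 := w.2
      rw [hμ, inv_mul_eq_one] at h1
      exact h1.symm
    apply Nat.card_le_card_of_injective (fun w : μ.ker => (⟨_, hmem w⟩ : ↥F))
    intro w w' hww
    have h0 : (⟨_, hmem w⟩ : ↥F) = ⟨_, hmem w'⟩ := hww
    have h1 : ((w : ↥Wd) : ↥R →* ℤˣ) = ((w' : ↥Wd) : ↥R →* ℤˣ) :=
      congrArg (fun y : ↥F => (y : ↥R →* ℤˣ)) h0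
    exact Subtype.ext (Subtype.ext h1)
  obtain ⟨ΛQ, hΛQ⟩ : ∃ ΛQ : ↥((Subgroup.closure (tcomm R t)).subgroupOf R) →* (↥R →* ℤˣ),
      ΛQ = (lam R z h).comp ((Subgroup.closure (tcomm R t)).subgroupOf R).subtype := ⟨_, rfl⟩
  have hΛQ' : ∀ y, ΛQ y = lam R z h (y : ↥R) := by intro y; rw [hΛQ]; rfl
  have hrange : μ.range ≤ ΛQ.range := by
    rintro _ ⟨w, rfl⟩
    obtain ⟨x, hx⟩ := (hWmem _).1 w.2
    have hmemQ : x⁻¹ * cjR R t htR x ∈ (Subgroup.closure (tcomm R t)).subgroupOf R := by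
      rw [Subgroup.mem_subgroupOf]
      exact Subgroup.subset_closure ⟨x, x.2, rfl⟩
    refine ⟨⟨x⁻¹ * cjR R t htR x, hmemQ⟩, ?_⟩
    rw [hΛQ', hμ, ← hx, hsm]
    show lam R z h (x⁻¹ * cjR R t htR x) = _
    rw [map_mul, map_inv]
  have hcard2 : Nat.card μ.range ≤ Nat.card ΛQ.range := Subgroup.card_le_of_le hrange
  have hcard3 : Nat.card ΛQ.ker * Nat.card ΛQ.range = Nat.card (Subgroup.closure (tcomm R t)) := by
    rw [← Subgroup.index_ker, Subgroup.card_mul_index]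
    exact Nat.card_congr (Subgroup.subgroupOfEquivOfLe hQR).toEquiv
  have hker2 : 2 ≤ Nat.card ΛQ.ker := by
    have hzR : z ∈ R := hQR hzQ
    have hzc : z ∈ cent R R := ⟨hzR, fun y _ => h.cen y⟩
    have hzmem : (⟨z, hzR⟩ : ↥R) ∈ (Subgroup.closure (tcomm R t)).subgroupOf R := by
      rw [Subgroup.mem_subgroupOf]; exact hzQ
    have hzker : (⟨⟨z, hzR⟩, hzmem⟩ : ↥((Subgroup.closure (tcomm R t)).subgroupOf R)) ∈ ΛQ.ker := by
      show ΛQ _ = 1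
      rw [hΛQ']
      exact hcen1 z hzc
    haveI : Nontrivial ↥ΛQ.ker := ⟨⟨⟨_, hzker⟩, 1, by
      intro h1
      apply hz1
      have h2 := congrArg (fun y : ↥ΛQ.ker => (((y :
        ↥((Subgroup.closure (tcomm R t)).subgroupOf R)) : ↥R) : Γ)) h1
      exact h2⟩⟩
    exact Finite.one_lt_card_iff_nontrivial.2 inferInstance
  -- the order of `F`
  have hFp : IsPGroup 2 ↥F := by
    intro g
    refine ⟨1, Subtype.ext ?_⟩
    rw [pow_one]
    exact hexp g.1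
  obtain ⟨k, hk⟩ := hFp.exists_card_eq
  have hk0 : k ≠ 0 := by
    rintro rfl
    rw [pow_zero] at hk
    rw [hk, one_pow] at hcount
    have hbot : Wd = ⊥ := (Subgroup.eq_bot_iff_card Wd).2 hcount
    apply hnab
    intro x hx y hy
    have h1 : lam R z h ⟨x, hx⟩ ∈ Wd := (hWmem _).2 ⟨_, rfl⟩
    rw [hbot, Subgroup.mem_bot] at h1
    exact (lam_eq_one_iff R z h _).1 h1 y hy
  have hk1 : k ≠ 1 := by
    rintro rfl
    rw [pow_one] at hk
    obtain ⟨w₀, -, hw₀⟩ := (Nat.card_eq_two_iff' (1 : ↥F)).1 hk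
    have hCab : ∀ c ∈ fixg t R, ∀ c' ∈ fixg t R, c * c' = c' * c := by
      intro c hc c' hc'
      by_cases h1 : lam R z h ⟨c, hc.1⟩ = 1
      · exact (lam_eq_one_iff R z h _).1 h1 c' hc'.1
      by_cases h2 : lam R z h ⟨c', hc'.1⟩ = 1
      · exact ((lam_eq_one_iff R z h _).1 h2 c hc.1).symm
      have e1 : (⟨_, hCF c hc⟩ : ↥F) = w₀ := hw₀ _ (fun h3 => h1 (congrArg Subtype.val h3))
      have e2 : (⟨_, hCF c' hc'⟩ : ↥F) = w₀ := hw₀ _ (fun h3 => h2 (congrArg Subtype.val h3))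
      have e3 : lam R z h ⟨c, hc.1⟩ = lam R z h ⟨c', hc'.1⟩ :=
        congrArg Subtype.val (e1.trans e2.symm)
      have e4 : lam R z h ((⟨c, hc.1⟩ : ↥R) * (⟨c', hc'.1⟩ : ↥R)⁻¹) = 1 := by
        rw [map_mul, map_inv, e3, mul_inv_cancel]
      have e5 := (lam_eq_one_iff R z h _).1 e4 c' hc'.1
      have e6 : c * c'⁻¹ * c' = c' * (c * c'⁻¹) := e5
      calc c * c' = (c * c'⁻¹ * c') * c' := by group
        _ = c' * (c * c'⁻¹) * c' := by rw [e6]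
        _ = c' * c := by group
    have hCcen : ∀ c (hc : c ∈ fixg t R), lam R z h ⟨c, hc.1⟩ = 1 := by
      intro c hc
      rw [lam_eq_one_iff]
      intro x hx
      obtain ⟨k, hk, hkfix⟩ := CQ_prod R hp hp2 hR t htp htR x hx
      have hxk : x * k ∈ fixg t R := ⟨R.mul_mem hx (hQR hk), hkfix⟩
      have h1 := hCab c hc _ hxk
      have h2 := CQ_comm R z h t htR c hc k hk
      have h3 : c * k⁻¹ = k⁻¹ * c := by
        calc c * k⁻¹ = k⁻¹ * (k * c) * k⁻¹ := by group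
          _ = k⁻¹ * (c * k) * k⁻¹ := by rw [h2]
          _ = k⁻¹ * c := by group
      show c * x = x * c
      calc c * x = c * (x * k) * k⁻¹ := by group
        _ = (x * k) * c * k⁻¹ := by rw [h1]
        _ = (x * k) * (c * k⁻¹) := by group
        _ = (x * k) * (k⁻¹ * c) := by rw [h3]
        _ = x * c := by group
    have hw₀1 : w₀ ≠ 1 := by
      have := (Nat.card_eq_two_iff' (1 : ↥F)).1 hk
      obtain ⟨w₁, hw₁, -⟩ := this
      intro h1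
      exact hw₁ ((hw₀ w₁ hw₁).trans h1)
    obtain ⟨c, hc, hcw⟩ := hFC w₀.1 w₀.2
    apply hw₀1
    apply Subtype.ext
    rw [hcw, hCcen c hc]
    rfl
  have hk2 : 2 ≤ k := by omega
  have hf4 : 4 ≤ Nat.card ↥F := by
    rw [hk]
    calc 4 = 2 ^ 2 := by norm_num
      _ ≤ 2 ^ k := Nat.pow_le_pow_right (by norm_num) hk2
  have hfpos : 0 < Nat.card ↥F := by omega
  have hp1 : p = (p - 1) + 1 := by have := hp.pos; omega
  have h1 : Nat.card ↥F ^ (p - 1) * Nat.card ↥F ≤ Nat.card ↥F * Nat.card ΛQ.range := by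
    calc Nat.card ↥F ^ (p - 1) * Nat.card ↥F = Nat.card ↥F ^ p := by
          rw [← pow_succ, ← hp1]
      _ = Nat.card ↥Wd := hcount.symm
      _ = Nat.card μ.ker * Nat.card μ.range := hcard1
      _ ≤ Nat.card ↥F * Nat.card ΛQ.range := Nat.mul_le_mul hker hcard2
  have h2 : Nat.card ↥F ^ (p - 1) ≤ Nat.card ΛQ.range := by
    rw [mul_comm] at h1
    exact Nat.le_of_mul_le_mul_left h1 hfpos
  have h3 : 4 ^ (p - 1) ≤ Nat.card ΛQ.range :=
    (Nat.pow_le_pow_left hf4 (p - 1)).trans h2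
  calc 2 * 4 ^ (p - 1) ≤ Nat.card ΛQ.ker * Nat.card ΛQ.range := Nat.mul_le_mul hker2 h3
    _ = Nat.card (Subgroup.closure (tcomm R t)) := hcard3

end

end Cfsg.Agent.Lib.Helper63.Fpq
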