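import Mathlib
import Cfsg.Agent.Lib.Helper97.HHMul
import Cfsg.Agent.Lib.Helper63.FpqHH
import Cfsg.Agent.Lib.Helper63.FpqExc2

set_option autoImplicit false

namespace Cfsg.Agent.Lib.Helper63.Fpq

open Cfsg.Agent.Lib.Helper63.S3A

universe u

/-- the Hall–Higman bound for a group of extraspecial type with centre `{1, -1}` -/
theorem hh_mul_L {U : Type u} [AddCommGroup U] [Finite U] {ℓ p : ℕ} (hℓ : ℓ.Prime)
    (hp : p.Prime) (hℓp : ℓ ≠ p) (hℓ2 : ℓ ≠ 2) (hp2 : p ≠ 2) (hexp : ∀ w : U, ℓ • w = 0)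
    (t : LAut U) (htp : t ^ p = 1) (hfix : ∀ w : U, t w = w → w = 0) (Q : Subgroup (LAut U))
    (hQ : IsPGroup 2 Q) (htQ : t ∈ nzr Q) (hneg : negL U ∈ Q) (hneg1 : negL U ≠ 1)
    (hcen : ∀ c ∈ Q, (∀ y ∈ Q, c * y = y * c) → c = 1 ∨ c = negL U)
    (hcomm : ∀ x ∈ Q, ∀ y ∈ Q, x * y * x⁻¹ * y⁻¹ = 1 ∨ x * y * x⁻¹ * y⁻¹ = negL U)
    (hfpf : ∀ g ∈ Q, t * g * t⁻¹ = g → g = 1 ∨ g = negL U) :
    Nat.card Q ≤ 2 * (p - 1) ^ 2 := by
  classical
  obtain ⟨HH, hHH⟩ : ∃ HH : Subgroup (LAut U),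
      HH = Subgroup.closure ((Q : Set (LAut U)) ∪ {t}) := ⟨_, rfl⟩
  have hQH : Q ≤ HH := by
    rw [hHH]; exact fun x hx => Subgroup.subset_closure (Or.inl hx)
  have htH : t ∈ HH := by
    rw [hHH]; exact Subgroup.subset_closure (Or.inr rfl)
  letI : MulDistribMulAction ↥HH (Multiplicative U) :=
    MulDistribMulAction.compHom (Multiplicative U) ((toMulAut U).comp HH.subtype)
  have hsmul : ∀ (g : ↥HH) (v : Multiplicative U),
      g • v = Multiplicative.ofAdd ((g : LAut U) (Multiplicative.toAdd v)) := fun g v => rfl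
  let α : ↥Q ≃* ↥Q :=
    { toFun := fun g => ⟨t * g * t⁻¹, nz_conj htQ g g.2⟩
      invFun := fun g => ⟨t⁻¹ * g * t, nz_conj' htQ g g.2⟩
      left_inv := fun g => Subtype.ext (by
        show t⁻¹ * (t * (g : LAut U) * t⁻¹) * t = g
        group)
      right_inv := fun g => Subtype.ext (by
        show t * (t⁻¹ * (g : LAut U) * t) * t⁻¹ = g
        group)
      map_mul' := fun g g' => Subtype.ext (by
        show t * ((g : LAut U) * (g' : LAut U)) * t⁻¹ = (t * g * t⁻¹) * (t * g' * t⁻¹)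
        group) }
  have hα : ∀ g : ↥Q, ((α g : ↥Q) : LAut U) = t * g * t⁻¹ := fun g => rfl
  have hαpow : ∀ n : ℕ, ∀ g : ↥Q, (((α ^ n) g : ↥Q) : LAut U) = t ^ n * g * (t ^ n)⁻¹ := by
    intro n
    induction n with
    | zero => intro g; simp
    | succ n ih =>
      intro g
      rw [pow_succ', MulAut.mul_apply, hα, ih, pow_succ']
      group
  obtain ⟨negQ, hnegQ⟩ : ∃ negQ : ↥Q, negQ = ⟨negL U, hneg⟩ := ⟨_, rfl⟩
  have hnegQc : (negQ : LAut U) = negL U := by rw [hnegQ]
  have hcenter : ∀ z : ↥Q, z ∈ Subgroup.center ↥Q ↔ (z = 1 ∨ z = negQ) := by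
    intro z
    constructor
    · intro hz
      rcases hcen z z.2 (fun y hy => by
        have h1 := Subgroup.mem_center_iff.1 hz ⟨y, hy⟩
        exact (congrArg Subtype.val h1).symm) with h1 | h1
      · left; exact Subtype.ext h1
      · right; exact Subtype.ext (h1.trans hnegQc.symm)
    · rintro (h1 | h1)
      · rw [h1]; exact Subgroup.one_mem _
      · rw [h1, Subgroup.mem_center_iff]
        intro g
        apply Subtype.ext
        show (g : LAut U) * (negQ : LAut U) = (negQ : LAut U) * g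
        rw [hnegQc]
        exact (negL_comm U _).symm
  have hZeq : Subgroup.center ↥Q = Subgroup.zpowers negQ := by
    apply le_antisymm
    · intro z hz
      rcases (hcenter z).1 hz with h1 | h1
      · rw [h1]; exact Subgroup.one_mem _
      · rw [h1]; exact Subgroup.mem_zpowers _
    · rw [Subgroup.zpowers_le]
      exact (hcenter negQ).2 (Or.inr rfl)
  have hnegQ1 : negQ ≠ 1 := fun h => hneg1 (hnegQc.symm.trans (congrArg Subtype.val h))
  have hnegQ2 : negQ ^ 2 = 1 := by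
    apply Subtype.ext
    show (negQ : LAut U) ^ 2 = 1
    rw [hnegQc, pow_two]; exact negL_mul_self U
  have hZcard : Nat.card (Subgroup.center ↥Q) = 2 := by
    rw [hZeq, Nat.card_zpowers]
    exact orderOf_eq_prime hnegQ2 hnegQ1
  have hnegt : t * negL U * t⁻¹ = negL U := by
    rw [← negL_comm U t]; group
  have hp1 : negL U ^ p = negL U := by
    obtain ⟨m, hm⟩ := hp.odd_of_ne_two hp2
    rw [hm, pow_succ, pow_mul, pow_two, negL_mul_self, one_pow, one_mul]
  have key := Cfsg.Agent.Lib.Helper97.HH.hh_mul (H := ↥HH) (V := Multiplicative U) (Qg := ↥Q)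
    (Subgroup.inclusion hQH) ⟨t, htH⟩ α
    (fun g => Subtype.ext rfl)
    (closure_gen Q t HH hHH hQH htH)
    hℓ Nat.prime_two hp hℓp
    (by
      have hle : HH ≤ prodSub Q t htQ := by
        rw [hHH, Subgroup.closure_le]
        rintro y (hy | hy)
        · exact le_prodSub Q t htQ hy
        · rw [Set.mem_singleton_iff] at hy
          rw [hy]; exact mem_prodSub_self Q t htQ
      exact not_dvd_card_prodSub Nat.prime_two hp hℓ hℓ2 hℓp Q hQ t htQ htp HH hle)
    (not_dvd_pgroup Nat.prime_two hℓ (Ne.symm hℓ2) Q hQ)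
    hZcard
    (by
      intro g g'
      rw [hcenter, commutatorElement_def]
      rcases hcomm g g.2 g' g'.2 with h1 | h1
      · left; exact Subtype.ext h1
      · right; exact Subtype.ext (h1.trans hnegQc.symm))
    (by
      refine MulEquiv.ext (fun g => Subtype.ext ?_)
      rw [hαpow, htp]
      simp)
    (by
      intro g hg
      rw [hcenter] at hg ⊢
      rcases hg with h1 | h1
      · have h2 : t * (g : LAut U) * t⁻¹ = g := by
          have h3 := congrArg Subtype.val h1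
          have h4 : (g : LAut U)⁻¹ * (t * g * t⁻¹) = 1 := h3
          calc t * (g : LAut U) * t⁻¹ = g * ((g : LAut U)⁻¹ * (t * g * t⁻¹)) := by group
            _ = g := by rw [h4, mul_one]
        rcases hfpf g g.2 h2 with h5 | h5
        · left; exact Subtype.ext h5
        · right; exact Subtype.ext (h5.trans hnegQc.symm)
      · exfalso
        have h3 := congrArg Subtype.val h1
        have h4 : (g : LAut U)⁻¹ * (t * g * t⁻¹) = negL U := h3.trans hnegQc
        have hc : t * (g : LAut U) * t⁻¹ = g * negL U := by rw [← h4]; group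
        have hpow : ∀ j : ℕ, t ^ j * (g : LAut U) * (t ^ j)⁻¹ = g * negL U ^ j := by
          intro j
          induction j with
          | zero => simp
          | succ j ih =>
            have hnj : t * negL U ^ j * t⁻¹ = negL U ^ j := by
              rw [← conj_pow, hnegt]
            calc t ^ (j + 1) * (g : LAut U) * (t ^ (j + 1))⁻¹
                = t * (t ^ j * (g : LAut U) * (t ^ j)⁻¹) * t⁻¹ := by rw [pow_succ']; group
              _ = t * ((g : LAut U) * negL U ^ j) * t⁻¹ := by rw [ih]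
              _ = (t * (g : LAut U) * t⁻¹) * (t * negL U ^ j * t⁻¹) := by group
              _ = ((g : LAut U) * negL U) * negL U ^ j := by rw [hc, hnj]
              _ = (g : LAut U) * negL U ^ (j + 1) := by rw [pow_succ']; group
        have h5 := hpow p
        rw [htp, hp1] at h5
        apply hneg1
        have h6 : (g : LAut U) * negL U = g := by rw [← h5]; group
        calc negL U = (g : LAut U)⁻¹ * ((g : LAut U) * negL U) := by group
          _ = 1 := by rw [h6]; group)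
    (by
      intro z hz
      rw [hcenter] at hz
      rcases hz with h1 | h1
      · rw [h1]; exact map_one α
      · rw [h1]
        apply Subtype.ext
        rw [hα, hnegQc]
        exact hnegt)
    (by
      apply Subtype.ext
      show ((⟨t, htH⟩ : ↥HH) ^ p : ↥HH).1 = 1
      rw [Subgroup.coe_pow]
      exact htp)
    (fun v => congrArg Multiplicative.ofAdd (hexp (Multiplicative.toAdd v)))
    (by
      have hex : ∃ w : U, negL U w ≠ w := by
        by_contra hno
        push Not at hno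
        exact hneg1 (LinearEquiv.ext hno)
      obtain ⟨w, hw⟩ := hex
      refine ⟨negQ, (hcenter negQ).2 (Or.inr rfl), Multiplicative.ofAdd w, ?_⟩
      intro h1
      apply hw
      have h2 := congrArg Multiplicative.toAdd h1
      rw [hsmul] at h2
      have h3 : ((Subgroup.inclusion hQH negQ : ↥HH) : LAut U) = negL U := hnegQc
      rw [h3] at h2
      exact h2)
    (by
      intro v hv
      rw [hsmul] at hv
      have h1 : t (Multiplicative.toAdd v) = Multiplicative.toAdd v :=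
        congrArg Multiplicative.toAdd hv
      exact congrArg Multiplicative.ofAdd (hfix _ h1))
  have h1 := Subgroup.card_eq_card_quotient_mul_card_subgroup (Subgroup.center ↥Q)
  rw [hZcard] at h1
  rw [h1, mul_comm]
  exact Nat.mul_le_mul_left 2 key

/-- the exceptional case: a `2`-group with commutators `±1`, generated by commutators with an
`s`-group on which `t` acts without fixed points, is centralized by `t` -/
theorem exc {U : Type u} [AddCommGroup U] [Finite U] {ℓ p s : ℕ} (hℓ : ℓ.Prime) (hp : p.Prime)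
    (hs : s.Prime) (hℓ2 : ℓ ≠ 2) (hℓp : ℓ ≠ p) (hp2 : p ≠ 2) (hs2 : s ≠ 2) (hsp : s ≠ p)
    (hexp : ∀ w : U, ℓ • w = 0) (t : LAut U) (htp : t ^ p = 1) (hfix : ∀ w : U, t w = w → w = 0)
    (R S : Subgroup (LAut U)) (hR : IsPGroup 2 R) (hS : IsPGroup s S)
    (htR : t ∈ nzr R) (htS : t ∈ nzr S) (hSR : S ≤ nzr R)
    (hSfp : ∀ u ∈ S, t * u * t⁻¹ = u → u = 1)
    (hcom : ∀ x ∈ R, ∀ y ∈ R, x * y * x⁻¹ * y⁻¹ = 1 ∨ x * y * x⁻¹ * y⁻¹ = negL U)
    (hgen : R ≤ Subgroup.closure {c | ∃ x ∈ R, ∃ u ∈ S, c = x⁻¹ * (u * x * u⁻¹)}) :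
    ∀ x ∈ R, t * x * t⁻¹ = x := by
  classical
  have hHH : ∀ P : Subgroup (LAut U), P ≤ R → (∀ g ∈ P, t * g * t⁻¹ ∈ P) →
      (∀ g ∈ P, ∀ g' ∈ P, g * g' = g' * g) → ∀ g ∈ P, t * g * t⁻¹ = g := by
    intro P hPR hPt hPab
    exact hh_L hℓ Nat.prime_two hp hℓ2 hℓp (Ne.symm hp2) hexp t htp hfix P (hR.to_le hPR) hPt
      (fun _ _ => hPab)
  by_cases hab : ∀ x ∈ R, ∀ y ∈ R, x * y = y * x
  · exact hHH R le_rfl (nz_conj htR) hab
  have hcz : CZ R (negL U) := ⟨negL_comm U, negL_mul_self U, hcom⟩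
  have hneg1 : negL U ≠ 1 := by
    intro h1
    apply hab
    intro x hx y hy
    have h2 : x * y * x⁻¹ * y⁻¹ = 1 := by
      rcases hcom x hx y hy with h3 | h3
      · exact h3
      · rw [h3, h1]
    calc x * y = (x * y * x⁻¹ * y⁻¹) * (y * x) := by group
      _ = y * x := by rw [h2, one_mul]
  obtain ⟨Q, hQdef⟩ : ∃ Q : Subgroup (LAut U), Q = Subgroup.closure (tcomm R t) := ⟨_, rfl⟩
  have hQR : Q ≤ R := by rw [hQdef]; exact tcomm_le R t htR
  have hQt : ∀ y ∈ Q, t * y * t⁻¹ ∈ Q := by rw [hQdef]; exact tcomm_conj R t htR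
  have htQ : t ∈ nzr Q := mem_nz Q t hQt
  have hprod : ∀ x ∈ R, ∃ k ∈ Q, t * (x * k) * t⁻¹ = x * k := by
    rw [hQdef]; exact CQ_prod R hp hp2 hR t htp htR
  have hCQ : ∀ c ∈ fixg t R, ∀ y ∈ Q, c * y = y * c := by
    rw [hQdef]; exact CQ_comm R (negL U) hcz t htR
  by_cases hQab : ∀ x ∈ Q, ∀ y ∈ Q, x * y = y * x
  · have hQfix := hHH Q hQR hQt hQab
    intro x hx
    obtain ⟨k, hk, hkfix⟩ := hprod x hx
    have h1 := hQfix k hk
    calc t * x * t⁻¹ = (t * (x * k) * t⁻¹) * (t * k * t⁻¹)⁻¹ := by group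
      _ = (x * k) * k⁻¹ := by rw [hkfix, h1]
      _ = x := by group
  exfalso
  push Not at hQab
  obtain ⟨y₁, hy₁, y₂, hy₂, hne⟩ := hQab
  have hnegQ : negL U ∈ Q := by
    rcases hcom y₁ (hQR hy₁) y₂ (hQR hy₂) with h1 | h1
    · exfalso
      apply hne
      calc y₁ * y₂ = (y₁ * y₂ * y₁⁻¹ * y₂⁻¹) * (y₂ * y₁) := by group
        _ = y₂ * y₁ := by rw [h1, one_mul]
    · rw [← h1]
      exact Q.mul_mem (Q.mul_mem (Q.mul_mem hy₁ hy₂) (Q.inv_mem hy₁)) (Q.inv_mem hy₂)
  have hfpQ : ∀ g ∈ Q, t * g * t⁻¹ = g → g = 1 ∨ g = negL U := by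
    intro g hg hgt
    have h1 := norm_arg R (Subgroup.zpowers (negL U))
      (fun x _ n hn => by
        obtain ⟨i, rfl⟩ := Subgroup.mem_zpowers_iff.1 hn
        have e : x * negL U ^ i * x⁻¹ = negL U ^ i := by
          have hc : Commute (negL U) x := negL_comm U x
          have h2 := (hc.zpow_left i).eq
          rw [← h2]; group
        rw [e]; exact Subgroup.zpow_mem _ (Subgroup.mem_zpowers _) i)
      (fun x hx y hy => by
        rcases hcom x hx y hy with h3 | h3
        · rw [h3]; exact Subgroup.one_mem _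
        · rw [h3]; exact Subgroup.mem_zpowers _)
      t p htp htR g (by rw [← hQdef]; exact hg) (hQR hg) hgt
    obtain ⟨k, hk⟩ := hR ⟨g, hQR hg⟩
    have hgk : g ^ 2 ^ k = 1 := congrArg Subtype.val hk
    have hcop : Nat.Coprime (2 ^ k) p :=
      Nat.Coprime.pow_left _ ((Nat.coprime_primes Nat.prime_two hp).2 (Ne.symm hp2))
    have h2 := root_mem _ g (2 ^ k) p hgk hcop h1
    exact mem_zpowers_negL U g h2
  have hcenQ : ∀ c ∈ Q, (∀ y ∈ Q, c * y = y * c) → c = 1 ∨ c = negL U := by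
    intro c hc hcc
    apply hfpQ c hc
    have h1 := hHH (cent Q Q) ((cent_le Q Q).trans hQR) (cent_conj Q Q t hQt hQt)
      (fun g hg g' hg' => hg.2 g' hg'.1)
    exact h1 c ⟨hc, hcc⟩
  have hbound := hh_mul_L hℓ hp hℓp hℓ2 hp2 hexp t htp hfix Q (hR.to_le hQR) htQ hnegQ hneg1
    hcenQ (fun x hx y hy => hcom x (hQR hx) y (hQR hy)) hfpQ
  have ht1 : t ≠ 1 := by
    intro h1
    apply hneg1
    refine LinearEquiv.ext (fun w => ?_)
    have h2 : w = 0 := hfix w (by rw [h1]; rfl)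
    rw [h2, map_zero, map_zero]
  have hcnt := cnt hp hs hp2 hs2 hsp t htp ht1 R S hR hS htR htS hSR hSfp (negL U) hcz hgen hab
    (by rw [← hQdef]; exact hnegQ) hneg1
  rw [← hQdef] at hcnt
  have h1 : 4 ^ (p - 1) ≤ (p - 1) ^ 2 := by
    have h2 := hcnt.trans hbound
    omega
  have h2 : (p - 1) ^ 2 < 4 ^ (p - 1) := by
    have h3 : p - 1 < 2 ^ (p - 1) := Nat.lt_two_pow_self
    calc (p - 1) ^ 2 < (2 ^ (p - 1)) ^ 2 := Nat.pow_lt_pow_left h3 (by norm_num)
      _ = 4 ^ (p - 1) := by rw [← pow_mul, mul_comm, pow_mul]; norm_num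
  omega

end Cfsg.Agent.Lib.Helper63.Fpq
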