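import Mathlib
import Cfsg.Agent.Lib.Helper63.FpqAb2

set_option autoImplicit false

namespace Cfsg.Agent.Lib.Helper63.Fpq

open Cfsg.Agent.Lib.Helper63.S3A

universe u

section

variable {W : Type u} [AddCommGroup W] [Finite W]
variable {p q r s ℓ : ℕ} {a t : LAut W} {R S Z : Subgroup (LAut W)}

theorem fixer_conj {U : AddSubgroup W} {k e : LAut W} (hk : k ∈ stabU U) (he : e ∈ fixer U) :
    k * e * k⁻¹ ∈ fixer U := by
  intro w hw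
  show k (e (k⁻¹ w)) = w
  have h1 : k⁻¹ w ∈ U := ((stabU U).inv_mem hk w).2 hw
  rw [he _ h1, app_inv]

/-- automorphisms normalizing `R`, stabilizing `U` and centralizing `R` on `U` -/
def czw (R : Subgroup (LAut W)) (U : AddSubgroup W) : Subgroup (LAut W) where
  carrier := {g | g ∈ nzr R ∧ g ∈ stabU U ∧ ∀ x ∈ R, g * x * g⁻¹ * x⁻¹ ∈ fixer U}
  mul_mem' := by
    rintro g h ⟨hg1, hg2, hg3⟩ ⟨hh1, hh2, hh3⟩
    refine ⟨Subgroup.mul_mem _ hg1 hh1, Subgroup.mul_mem _ hg2 hh2, fun x hx => ?_⟩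
    have e : g * h * x * (g * h)⁻¹ * x⁻¹ =
        (g * (h * x * h⁻¹ * x⁻¹) * g⁻¹) * (g * x * g⁻¹ * x⁻¹) := by group
    rw [e]
    exact Subgroup.mul_mem _ (fixer_conj hg2 (hh3 x hx)) (hg3 x hx)
  one_mem' := ⟨Subgroup.one_mem _, Subgroup.one_mem _, fun x _ => by
    have e : (1 : LAut W) * x * 1⁻¹ * x⁻¹ = 1 := by group
    rw [e]; exact Subgroup.one_mem _⟩
  inv_mem' := by
    rintro g ⟨hg1, hg2, hg3⟩
    refine ⟨Subgroup.inv_mem _ hg1, Subgroup.inv_mem _ hg2, fun x hx => ?_⟩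
    have hx' : g⁻¹ * x * g ∈ R := nz_conj' hg1 x hx
    have e : g⁻¹ * x * g⁻¹⁻¹ * x⁻¹ = (g * (g⁻¹ * x * g) * g⁻¹ * (g⁻¹ * x * g)⁻¹)⁻¹ := by group
    rw [e]
    exact Subgroup.inv_mem _ (hg3 _ hx')

theorem czw_conj {U : AddSubgroup W} {g k : LAut W} (hkR : k ∈ nzr R) (hkU : k ∈ stabU U)
    (hg : g ∈ czw R U) : k * g * k⁻¹ ∈ czw R U := by
  obtain ⟨hg1, hg2, hg3⟩ := hg
  refine ⟨Subgroup.mul_mem _ (Subgroup.mul_mem _ hkR hg1) (Subgroup.inv_mem _ hkR),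
    Subgroup.mul_mem _ (Subgroup.mul_mem _ hkU hg2) (Subgroup.inv_mem _ hkU), fun x hx => ?_⟩
  have e : k * g * k⁻¹ * x * (k * g * k⁻¹)⁻¹ * x⁻¹ =
      k * (g * (k⁻¹ * x * k) * g⁻¹ * (k⁻¹ * x * k)⁻¹) * k⁻¹ := by group
  rw [e]
  exact fixer_conj hkU (hg3 _ (nz_conj' hkR x hx))

/-- for exponent two, every automorphism normalizing `Z` and `Y` centralizes `Z` modulo `Y` -/
theorem czq_two {Z Y : Subgroup (LAut W)} (hZab : ∀ x ∈ Z, ∀ y ∈ Z, x * y = y * x)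
    (hY : MaxFix Z Y) (hexp : ∀ z ∈ Z, z ^ 2 = 1) (hcop : (2 : ℕ).Coprime (Nat.card W))
    {g : LAut W} (hgZ : g ∈ nzr Z) (hgY : g ∈ nzr Y) : g ∈ czq Z Y := by
  refine ⟨hgZ, hgY, fun z hz => ?_⟩
  by_cases hzY : z ∈ Y
  · exact Y.mul_mem (nz_conj hgY z hzY) (Y.inv_mem hzY)
  · obtain ⟨n, hn⟩ := semi hZab hY 2 Nat.prime_two hexp hcop z hz hzY (g * z * g⁻¹)
      (nz_conj hgZ z hz)
    rcases Nat.even_or_odd n with he | ho
    · exfalso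
      obtain ⟨m, rfl⟩ := he
      have h1 : z ^ (m + m) = 1 := by rw [← two_mul, pow_mul, hexp z hz, one_pow]
      rw [h1, inv_one, mul_one] at hn
      apply hzY
      have h2 := nz_conj' hgY _ hn
      have e : g⁻¹ * (g * z * g⁻¹) * g = z := by group
      rwa [e] at h2
    · obtain ⟨m, rfl⟩ := ho
      have h1 : z ^ (2 * m + 1) = z := by rw [pow_succ, pow_mul, hexp z hz, one_pow, one_mul]
      rw [h1] at hn
      exact hn

/-- the nonabelian case with a component not normalized by `a` but normalized by `t` -/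
theorem Min.nonab_B (h : Min p q r s ℓ a t R S) (hnc : ¬ ∀ x ∈ R, ∀ u ∈ S, x * u = u * x)
    (zd : ZD r a t R S Z) (hZS : ∀ u ∈ S, ∀ z ∈ Z, u * z = z * u)
    (hcomZ : ∀ x ∈ R, ∀ y ∈ R, x * y * x⁻¹ * y⁻¹ ∈ Z)
    (Y₁ : Subgroup (LAut W)) (hY₁ : MaxFix Z Y₁) (ht : t ∈ nzr Y₁)
    (hfp : ∀ w ∈ FixSp Y₁, t w = w → w = 0)
    (hstar : r = 2 → (∀ u ∈ S, a * u * a⁻¹ = u) →
      ∀ x ∈ R, ∀ w ∈ FixSp Y₁, t (x w) = x (t w)) : False := by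
  have hcfg := h.cfg
  have haZ : a ∈ nzr Z := mem_nz Z a zd.za
  have htZ : t ∈ nzr Z := mem_nz Z t zd.zt
  have hzpZ : Subgroup.zpowers a ≤ nzr Z := Subgroup.zpowers_le.2 haZ
  have hzpR : Subgroup.zpowers a ≤ nzr R := hcfg.zp_le_nz R hcfg.Ra
  have hM : ∀ d ∈ Subgroup.zpowers a, MaxFix Z (cjS d Y₁) :=
    fun d hd => hY₁.conj d (nz_conj (hzpZ hd))
  have hRn : ∀ d ∈ Subgroup.zpowers a, R ≤ nzr (cjS d Y₁) := fun d hd => zd.R_nz (hM d hd).1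
  have hSnz : ∀ Y : Subgroup (LAut W), Y ≤ Z → S ≤ nzr Y := by
    intro Y hY u hu
    apply mem_nz
    intro y hy
    rw [hZS u hu y (hY hy)]
    have e : y * u * u⁻¹ = y := by group
    rw [e]; exact hy
  have hdec : ∀ e : LAut W,
      (∀ d ∈ Subgroup.zpowers a, ∀ w ∈ FixSp (cjS d Y₁), e w = w) → e = 1 := by
    intro e he
    apply h.dec hnc Z zd.le zd.ab (fun Y => ∃ d ∈ Subgroup.zpowers a, Y = cjS d Y₁)
    · rintro Y ⟨d, hd, rfl⟩; exact hM d hd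
    · exact ⟨Y₁, 1, Subgroup.one_mem _, (cjS_one Y₁).symm⟩
    · rintro Y ⟨d, hd, rfl⟩
      exact ⟨a * d, Subgroup.mul_mem _ (Subgroup.mem_zpowers a) hd, (cjS_mul _ _ _).symm⟩
    · rintro Y ⟨d, hd, rfl⟩
      refine ⟨t * d * t⁻¹, hcfg.zp_nrm d hd, ?_⟩
      calc cjS t (cjS d Y₁) = cjS (t * d) Y₁ := (cjS_mul _ _ _).symm
        _ = cjS ((t * d * t⁻¹) * t) Y₁ := by congr 1; group
        _ = cjS (t * d * t⁻¹) (cjS t Y₁) := cjS_mul _ _ _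
        _ = cjS (t * d * t⁻¹) Y₁ := by rw [cjS_eq_of_nz ht]
    · rintro x hx Y ⟨d, hd, rfl⟩
      rw [cjS_eq_of_nz (hRn d hd hx)]
      exact ⟨d, hd, rfl⟩
    · rintro u hu Y ⟨d, hd, rfl⟩
      rw [cjS_eq_of_nz (hSnz _ (hM d hd).1 hu)]
      exact ⟨d, hd, rfl⟩
    · rintro Y ⟨d, hd, rfl⟩ w hw
      exact he d hd w hw
  have hfixconj : ∀ e : LAut W,
      (∀ d ∈ Subgroup.zpowers a, d⁻¹ * e * d ∈ fixer (FixSp Y₁)) → e = 1 := by
    intro e he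
    apply hdec
    intro d hd w hw
    rw [FixSp_cjS] at hw
    have h1 := he d hd _ hw
    have h2 : (d⁻¹ * e * d) (d⁻¹ w) = d⁻¹ (e w) := by
      show d⁻¹ (e (d (d⁻¹ w))) = d⁻¹ (e w)
      rw [app_inv]
    rw [h2] at h1
    have h3 := congrArg (fun v => d v) h1
    simpa using h3
  have hRU : ∀ x ∈ R, x ∈ stabU (FixSp Y₁) := fun x hx => stabU_of_nz (zd.R_nz hY₁.1 hx)
  have htU : t ∈ stabU (FixSp Y₁) := stabU_of_nz ht
  have hfixZ : r = 2 → ∀ z ∈ fixg a Z, z ∈ Y₁ := by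
    intro h2 z hz
    have hexp2 : ∀ z ∈ Z, z ^ 2 = 1 := by rw [← h2]; exact zd.exp
    have hcop2 : (2 : ℕ).Coprime (Nat.card W) := by rw [← h2]; exact hcfg.rW
    have htc : t ∈ czq Z Y₁ := czq_two zd.ab hY₁ hexp2 hcop2 htZ ht
    obtain ⟨y, hy, hyz⟩ := lamSurj (MulAut.conj t).toMonoidHom (fixg a Z)
      (fun k hk => ⟨zd.zt k hk.1, hcfg.fix_t hk.2⟩)
      (fun k hk hkt => hcfg.Rfp k (zd.le hk.1) hk.2 hkt) z hz
    have hyz' : y⁻¹ * (t * y * t⁻¹) = z := hyz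
    rw [← hyz', zd.ab _ (Z.inv_mem hy.1) _ (zd.zt y hy.1)]
    exact htc.2.2 y hy.1
  have hexcD : r = 2 → (∃ n : ℕ, p = 2 ^ n + 1) → ∀ g ∈ fixg a R, ∀ g' ∈ fixg a R,
      ∀ w ∈ FixSp Y₁, g (g' w) = g' (g w) := by
    intro h2 _ g hg g' hg' w hw
    have hcZ : g * g' * g⁻¹ * g'⁻¹ ∈ Z := hcomZ g hg.1 g' hg'.1
    have hca : a * (g * g' * g⁻¹ * g'⁻¹) * a⁻¹ = g * g' * g⁻¹ * g'⁻¹ := by
      calc a * (g * g' * g⁻¹ * g'⁻¹) * a⁻¹
          = (a * g * a⁻¹) * (a * g' * a⁻¹) * (a * g * a⁻¹)⁻¹ * (a * g' * a⁻¹)⁻¹ := by group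
        _ = g * g' * g⁻¹ * g'⁻¹ := by rw [hg.2, hg'.2]
    have hcY : g * g' * g⁻¹ * g'⁻¹ ∈ Y₁ := hfixZ h2 _ ⟨hcZ, hca⟩
    have hw' : g' (g w) ∈ FixSp Y₁ := (hRU g' hg'.1 _).2 ((hRU g hg.1 w).2 hw)
    have h1 := hw' _ hcY
    have h3 : (g * g' * g⁻¹ * g'⁻¹) (g' (g w)) = g (g' w) := by
      show g (g' (g⁻¹ (g'⁻¹ (g' (g w))))) = g (g' w)
      rw [inv_app, inv_app]
    rw [h3] at h1
    exact h1
  have keyD := h.hhB zd hY₁ ht hfp (fixg a R) (fixg_le a R)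
    (fun g hg => ⟨hcfg.Rt g hg.1, hcfg.fix_t hg.2⟩) hexcD
  have hD1 : ∀ x ∈ R, a * x * a⁻¹ = x → x = 1 := by
    intro x hx hxa
    obtain ⟨y, hy, hyx⟩ := lamSurj (MulAut.conj t).toMonoidHom (fixg a R)
      (fun k hk => ⟨hcfg.Rt k hk.1, hcfg.fix_t hk.2⟩)
      (fun k hk hkt => hcfg.Rfp k hk.1 hk.2 hkt) x ⟨hx, hxa⟩
    have hyx' : y⁻¹ * (t * y * t⁻¹) = x := hyx
    have h1 := keyD y hy
    have hyU : y ∈ stabU (FixSp Y₁) := hRU y hy.1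
    have h2 : x ∈ fixer (FixSp Y₁) := by
      have e : x = y⁻¹ * (t * y * t⁻¹ * y⁻¹) * y⁻¹⁻¹ := by rw [← hyx']; group
      rw [e]
      exact fixer_conj (Subgroup.inv_mem _ hyU) h1
    apply hfixconj
    intro d hd
    have e : d⁻¹ * x * d = x := by
      have hxa' : a * x = x * a := by
        calc a * x = (a * x * a⁻¹) * a := by group
          _ = x * a := by rw [hxa]
      have h3 := hcfg.zp_comm hd hxa'
      rw [mul_assoc, ← h3]; group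
    rw [e]; exact h2
  by_cases hSa : ∀ u ∈ S, a * u * a⁻¹ = u
  swap
  · have hfix_ne : fixg a S ≠ S := by
      intro he
      apply hSa
      intro u hu
      rw [← he] at hu
      exact hu.2
    have hCS := h.subS (fixg a S) (fixg_le a S) hfix_ne
      (fun u hu => by rw [hu.2]; exact hu) (fun u hu => ⟨hcfg.St u hu.1, hcfg.fix_t hu.2⟩)
    apply hnc
    exact thompson_comm R S hcfg.hr hcfg.hs hcfg.hq hcfg.hrs hcfg.hsq hcfg.Rp hcfg.Sp hcfg.RS a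
      hcfg.aq hcfg.Ra hcfg.Sa hD1 (fun u hu hua x hx => (hCS x hx u ⟨hu, hua⟩).symm)
  have hSa' : ∀ u ∈ S, a * u = u * a := by
    intro u hu
    calc a * u = (a * u * a⁻¹) * a := by group
      _ = u * a := by rw [hSa u hu]
  have hzS : ∀ d ∈ Subgroup.zpowers a, ∀ u ∈ S, d * u = u * d :=
    fun d hd u hu => hcfg.zp_comm hd (hSa' u hu)
  have hstar' : ∀ x ∈ R, ∀ w ∈ FixSp Y₁, t (x w) = x (t w) := by
    by_cases hE : r = 2
    · exact hstar hE hSa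
    · have key := h.hhB zd hY₁ ht hfp R le_rfl hcfg.Rt (fun h2 _ => absurd h2 hE)
      intro x hx w hw
      have h1 : x (t w) ∈ FixSp Y₁ := (hRU x hx _).2 ((htU w).2 hw)
      have h2 := key x hx _ h1
      have h3 : (t * x * t⁻¹ * x⁻¹) (x (t w)) = t (x w) := by
        show t (x (t⁻¹ (x⁻¹ (x (t w))))) = t (x w)
        rw [inv_app, inv_app]
      rw [h3] at h2
      exact h2
  have htW : t ∈ czw R (FixSp Y₁) := ⟨mem_nz R t hcfg.Rt, htU, fun x hx =>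
    comm_fixer _ t x htU (hRU x hx) (hstar' x hx)⟩
  have hSW : ∀ v ∈ S, v ∈ czw R (FixSp Y₁) := by
    intro v hv
    obtain ⟨u, hu, huv⟩ := lamSurj (MulAut.conj t).toMonoidHom S hcfg.St
      (fun k hk hkt => hcfg.Sfp k hk (hSa k hk) hkt) v hv
    have huv' : u⁻¹ * (t * u * t⁻¹) = v := huv
    have huN : u⁻¹ ∈ nzr R := mem_nz R u⁻¹ (hcfg.RS u⁻¹ (S.inv_mem hu))
    have huU : u⁻¹ ∈ stabU (FixSp Y₁) := stabU_of_nz (hSnz Y₁ hY₁.1 (S.inv_mem hu))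
    have h1 := czw_conj huN huU htW
    have h2 := Subgroup.mul_mem _ h1 (Subgroup.inv_mem _ htW)
    have e : u⁻¹ * t * u⁻¹⁻¹ * t⁻¹ = v := by rw [← huv']; group
    rw [e] at h2
    exact h2
  apply hnc
  intro x hx v hv
  have h1 : v * x * v⁻¹ * x⁻¹ = 1 := by
    apply hfixconj
    intro d hd
    have hdx : d⁻¹ * x * d ∈ R := nz_conj' (hzpR hd) x hx
    have h2 := (hSW v hv).2.2 _ hdx
    have hdv : d⁻¹ * v * d = v := by rw [mul_assoc, ← hzS d hd v hv]; group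
    have e : d⁻¹ * (v * x * v⁻¹ * x⁻¹) * d = v * (d⁻¹ * x * d) * v⁻¹ * (d⁻¹ * x * d)⁻¹ := by
      calc d⁻¹ * (v * x * v⁻¹ * x⁻¹) * d
          = (d⁻¹ * v * d) * (d⁻¹ * x * d) * (d⁻¹ * v * d)⁻¹ * (d⁻¹ * x * d)⁻¹ := by group
        _ = v * (d⁻¹ * x * d) * v⁻¹ * (d⁻¹ * x * d)⁻¹ := by rw [hdv]
    rw [e]; exact h2
  calc x * v = (v * x * v⁻¹ * x⁻¹)⁻¹ * (v * x) := by group
    _ = v * x := by rw [h1]; group

end

end Cfsg.Agent.Lib.Helper63.Fpq
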