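import Mathlib
import Cfsg.Agent.Lib.Helper63.FpqNonab
import Cfsg.Agent.Lib.Helper63.FpqExc3

set_option autoImplicit false

namespace Cfsg.Agent.Lib.Helper63.Fpq

open Cfsg.Agent.Lib.Helper63.S3A

universe u

section

variable {W : Type u} [AddCommGroup W] [Finite W]
variable {p q r s ℓ : ℕ} {a t : LAut W} {R S Z : Subgroup (LAut W)}

/-- the exceptional case `r = 2` of the nonabelian case: `t` centralizes `R` on the component -/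
theorem Min.star_exc (h : Min p q r s ℓ a t R S) (hnc : ¬ ∀ x ∈ R, ∀ u ∈ S, x * u = u * x)
    (zd : ZD r a t R S Z) (hZS : ∀ u ∈ S, ∀ z ∈ Z, u * z = z * u)
    (hcomZ : ∀ x ∈ R, ∀ y ∈ R, x * y * x⁻¹ * y⁻¹ ∈ Z)
    (Y₁ : Subgroup (LAut W)) (hY₁ : MaxFix Z Y₁) (ht : t ∈ nzr Y₁)
    (hfp : ∀ w ∈ FixSp Y₁, t w = w → w = 0) (h2 : r = 2) (hSa : ∀ u ∈ S, a * u * a⁻¹ = u) :
    ∀ x ∈ R, ∀ w ∈ FixSp Y₁, t (x w) = x (t w) := by
  subst h2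
  have hcfg := h.cfg
  have hRU : R ≤ stabU (FixSp Y₁) := fun x hx => stabU_of_nz (zd.R_nz hY₁.1 hx)
  have htU : t ∈ stabU (FixSp Y₁) := stabU_of_nz ht
  have hSU : S ≤ stabU (FixSp Y₁) := by
    intro u hu
    apply stabU_of_nz
    apply mem_nz
    intro y hy
    rw [hZS u hu y (hY₁.1 hy)]
    have e : y * u * u⁻¹ = y := by group
    rw [e]; exact hy
  obtain ⟨R', hR'⟩ : ∃ R' : Subgroup (LAut (FixSp Y₁)),
      R' = (R.subgroupOf (stabU (FixSp Y₁))).map (resHom (FixSp Y₁)) := ⟨_, rfl⟩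
  obtain ⟨S', hS'⟩ : ∃ S' : Subgroup (LAut (FixSp Y₁)),
      S' = (S.subgroupOf (stabU (FixSp Y₁))).map (resHom (FixSp Y₁)) := ⟨_, rfl⟩
  have hmemR : ∀ y ∈ R', ∃ x, ∃ hx : x ∈ R, resHom (FixSp Y₁) ⟨x, hRU hx⟩ = y := by
    intro y hy
    rw [hR'] at hy
    obtain ⟨z, hz, rfl⟩ := Subgroup.mem_map.1 hy
    exact ⟨z, Subgroup.mem_subgroupOf.1 hz, rfl⟩
  have hmkR : ∀ x (hx : x ∈ R), resHom (FixSp Y₁) ⟨x, hRU hx⟩ ∈ R' := by
    intro x hx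
    rw [hR']
    exact Subgroup.mem_map.2 ⟨⟨x, hRU hx⟩, Subgroup.mem_subgroupOf.2 hx, rfl⟩
  have hmemS : ∀ y ∈ S', ∃ x, ∃ hx : x ∈ S, resHom (FixSp Y₁) ⟨x, hSU hx⟩ = y := by
    intro y hy
    rw [hS'] at hy
    obtain ⟨z, hz, rfl⟩ := Subgroup.mem_map.1 hy
    exact ⟨z, Subgroup.mem_subgroupOf.1 hz, rfl⟩
  have hmkS : ∀ x (hx : x ∈ S), resHom (FixSp Y₁) ⟨x, hSU hx⟩ ∈ S' := by
    intro x hx
    rw [hS']
    exact Subgroup.mem_map.2 ⟨⟨x, hSU hx⟩, Subgroup.mem_subgroupOf.2 hx, rfl⟩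
  obtain ⟨t', ht'⟩ : ∃ t' : LAut (FixSp Y₁), t' = resHom (FixSp Y₁) ⟨t, htU⟩ := ⟨_, rfl⟩
  have hres1 : ∀ (x : LAut W) (hx : x ∈ stabU (FixSp Y₁)), x ∈ fixer (FixSp Y₁) →
      resHom (FixSp Y₁) ⟨x, hx⟩ = 1 := by
    intro x hx hxf
    refine LinearEquiv.ext (fun w => Subtype.ext ?_)
    exact hxf w w.2
  have hconj : ∀ (g x : LAut W) (hg : g ∈ stabU (FixSp Y₁)) (hx : x ∈ stabU (FixSp Y₁)),
      resHom (FixSp Y₁) ⟨g, hg⟩ * resHom (FixSp Y₁) ⟨x, hx⟩ * (resHom (FixSp Y₁) ⟨g, hg⟩)⁻¹ =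
        resHom (FixSp Y₁) ⟨g * x * g⁻¹, Subgroup.mul_mem _ (Subgroup.mul_mem _ hg hx)
          (Subgroup.inv_mem _ hg)⟩ := by
    intro g x hg hx
    rw [← map_inv, ← map_mul, ← map_mul]
    rfl
  have hR'p : IsPGroup 2 R' := by rw [hR']; exact (hcfg.Rp.comap_subtype).map _
  have hS'p : IsPGroup s S' := by rw [hS']; exact (hcfg.Sp.comap_subtype).map _
  have htR' : t' ∈ nzr R' := by
    apply mem_nz
    intro y hy
    obtain ⟨x, hx, rfl⟩ := hmemR y hy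
    rw [ht', hconj]
    exact hmkR _ (hcfg.Rt x hx)
  have htS' : t' ∈ nzr S' := by
    apply mem_nz
    intro y hy
    obtain ⟨x, hx, rfl⟩ := hmemS y hy
    rw [ht', hconj]
    exact hmkS _ (hcfg.St x hx)
  have hSR' : S' ≤ nzr R' := by
    intro v hv
    obtain ⟨u, hu, rfl⟩ := hmemS v hv
    apply mem_nz
    intro y hy
    obtain ⟨x, hx, rfl⟩ := hmemR y hy
    rw [hconj]
    exact hmkR _ (hcfg.RS u hu x hx)
  have htp' : t' ^ p = 1 := by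
    rw [ht', ← map_pow]
    have e : (⟨t, htU⟩ : stabU (FixSp Y₁)) ^ p = 1 := Subtype.ext hcfg.tp
    rw [e, map_one]
  have hfix' : ∀ w : FixSp Y₁, t' w = w → w = 0 := by
    intro w hw
    rw [ht'] at hw
    have h1 : t (w : W) = w := congrArg Subtype.val hw
    exact Subtype.ext (hfp _ w.2 h1)
  have hSfp' : ∀ v ∈ S', t' * v * t'⁻¹ = v → v = 1 := by
    intro v hv hvt
    obtain ⟨u, hu, rfl⟩ := hmemS v hv
    rw [ht', hconj] at hvt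
    have h1 : u⁻¹ * (t * u * t⁻¹) ∈ S ⊓ fixer (FixSp Y₁) := by
      refine ⟨S.mul_mem (S.inv_mem hu) (hcfg.St u hu), ?_⟩
      intro w hw
      have h3 := congrArg (fun e : LAut (FixSp Y₁) => ((e ⟨w, hw⟩ : FixSp Y₁) : W)) hvt
      have h4 : (t * u * t⁻¹) w = u w := h3
      show u⁻¹ ((t * u * t⁻¹) w) = w
      rw [h4, inv_app]
    have hNt : ∀ k ∈ S ⊓ fixer (FixSp Y₁), t * k * t⁻¹ ∈ S ⊓ fixer (FixSp Y₁) :=
      fun k hk => ⟨hcfg.St k hk.1, fixer_conj htU hk.2⟩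
    obtain ⟨k, hk, hkfix⟩ := lift1 t p hcfg.hp hcfg.tp (S ⊓ fixer (FixSp Y₁))
      (hcfg.Spp _ inf_le_left) hNt u h1
    have huk : u * k = 1 :=
      hcfg.Sfp _ (S.mul_mem hu hk.1) (hSa _ (S.mul_mem hu hk.1)) hkfix
    have hu' : u = k⁻¹ := eq_inv_of_mul_eq_one_left huk
    apply hres1
    rw [hu']
    exact Subgroup.inv_mem _ hk.2
  have hcom' : ∀ x ∈ R', ∀ y ∈ R', x * y * x⁻¹ * y⁻¹ = 1 ∨
      x * y * x⁻¹ * y⁻¹ = negL (FixSp Y₁) := by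
    intro x' hx' y' hy'
    obtain ⟨x, hx, rfl⟩ := hmemR x' hx'
    obtain ⟨y, hy, rfl⟩ := hmemR y' hy'
    have hc := hcomZ x hx y hy
    have e : resHom (FixSp Y₁) ⟨x, hRU hx⟩ * resHom (FixSp Y₁) ⟨y, hRU hy⟩ *
        (resHom (FixSp Y₁) ⟨x, hRU hx⟩)⁻¹ * (resHom (FixSp Y₁) ⟨y, hRU hy⟩)⁻¹ =
        resHom (FixSp Y₁) ⟨x * y * x⁻¹ * y⁻¹, hRU (zd.le hc)⟩ := by
      rw [← map_inv, ← map_inv, ← map_mul, ← map_mul, ← map_mul]
      rfl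
    rw [e]
    by_cases hcY : x * y * x⁻¹ * y⁻¹ ∈ Y₁
    · left
      apply hres1
      intro w hw
      exact hw _ hcY
    · right
      refine LinearEquiv.ext (fun w => Subtype.ext ?_)
      show (x * y * x⁻¹ * y⁻¹) (w : W) = -(w : W)
      obtain ⟨c, hcdef⟩ : ∃ c : LAut W, c = x * y * x⁻¹ * y⁻¹ := ⟨_, rfl⟩
      rw [← hcdef] at hc hcY ⊢
      have hcw : c (w : W) ∈ FixSp Y₁ :=
        FixSp_comm (fun y' hy' => zd.ab c hc y' (hY₁.1 hy')) w.2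
      have hcc : c (c (w : W)) = w := by
        have h3 : c ^ 2 = 1 := zd.exp c hc
        have h4 : (c ^ 2) (w : W) = w := by rw [h3]; rfl
        rw [pow_two] at h4
        exact h4
      have h5 : (w : W) + c (w : W) = 0 := by
        apply hY₁.fpf hc hcY _ ((FixSp Y₁).add_mem w.2 hcw)
        rw [map_add, hcc, add_comm]
      exact eq_neg_of_add_eq_zero_right h5
  have hgen' : R' ≤ Subgroup.closure {c | ∃ x ∈ R', ∃ u ∈ S', c = x⁻¹ * (u * x * u⁻¹)} := by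
    have hle : Subgroup.closure (comms R S) ≤
        ((Subgroup.closure {c | ∃ x ∈ R', ∃ u ∈ S', c = x⁻¹ * (u * x * u⁻¹)}).comap
          (resHom (FixSp Y₁))).map (stabU (FixSp Y₁)).subtype := by
      rw [Subgroup.closure_le]
      rintro _ ⟨x, hx, u, hu, rfl⟩
      refine ⟨(⟨x, hRU hx⟩ : stabU (FixSp Y₁))⁻¹ * (⟨u, hSU hu⟩ * ⟨x, hRU hx⟩ *
        (⟨u, hSU hu⟩ : stabU (FixSp Y₁))⁻¹), ?_, rfl⟩
      show resHom (FixSp Y₁) _ ∈ Subgroup.closure _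
      rw [map_mul, map_inv, map_mul, map_mul, map_inv]
      exact Subgroup.subset_closure ⟨_, hmkR x hx, _, hmkS u hu, rfl⟩
    rw [h.genA hnc] at hle
    intro y hy
    obtain ⟨x, hx, rfl⟩ := hmemR y hy
    obtain ⟨x', hx', hxx⟩ := hle hx
    have e : x' = ⟨x, hRU hx⟩ := Subtype.ext hxx
    rw [← e]
    exact hx'
  have key := exc hcfg.hℓ hcfg.hp hcfg.hs (Ne.symm hcfg.hrℓ) hcfg.hℓp (Ne.symm hcfg.hrp)
    (Ne.symm hcfg.hrs) hcfg.hsp (fun w => Subtype.ext (hcfg.exp w)) t' htp' hfix' R' S' hR'p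
    hS'p htR' htS' hSR' hSfp' hcom' hgen'
  intro x hx w hw
  have h1 := key _ (hmkR x hx)
  rw [ht'] at h1
  have h3 : resHom (FixSp Y₁) ⟨t, htU⟩ * resHom (FixSp Y₁) ⟨x, hRU hx⟩ =
      resHom (FixSp Y₁) ⟨x, hRU hx⟩ * resHom (FixSp Y₁) ⟨t, htU⟩ := by
    calc resHom (FixSp Y₁) ⟨t, htU⟩ * resHom (FixSp Y₁) ⟨x, hRU hx⟩
        = (resHom (FixSp Y₁) ⟨t, htU⟩ * resHom (FixSp Y₁) ⟨x, hRU hx⟩ *
            (resHom (FixSp Y₁) ⟨t, htU⟩)⁻¹) * resHom (FixSp Y₁) ⟨t, htU⟩ := by group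
      _ = resHom (FixSp Y₁) ⟨x, hRU hx⟩ * resHom (FixSp Y₁) ⟨t, htU⟩ := by rw [h1]
  have h4 := congrArg (fun e : LAut (FixSp Y₁) => ((e ⟨w, hw⟩ : FixSp Y₁) : W)) h3
  exact h4

end

end Cfsg.Agent.Lib.Helper63.Fpq
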