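import Mathlib
import Cfsg.Agent.Lib.Helper1.BurnsideBasis
import Cfsg.Agent.Lib.Helper63.FpqExcB

set_option autoImplicit false

namespace Cfsg.Agent.Lib.Helper63.Fpq

open Cfsg.Agent.Lib.Helper63.S3A
open scoped commutatorElement

universe u

section

variable {W : Type u} [AddCommGroup W] [Finite W]
variable {p q r s ℓ : ℕ} {a t : LAut W} {R S : Subgroup (LAut W)}

/-- the nonabelian case -/
theorem Min.nonab_false (h : Min p q r s ℓ a t R S)
    (hnc : ¬ ∀ x ∈ R, ∀ u ∈ S, x * u = u * x) (hnab : ¬ ∀ x ∈ R, ∀ y ∈ R, x * y = y * x) :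
    False := by
  classical
  have hcfg := h.cfg
  haveI : Fact r.Prime := ⟨hcfg.hr⟩
  have hZRne : cent R R ≠ R := by
    intro he
    apply hnab
    intro x hx y hy
    have h1 : x ∈ cent R R := by rw [he]; exact hx
    exact h1.2 y hy
  have hZRa := cent_conj R R a hcfg.Ra hcfg.Ra
  have hZRt := cent_conj R R t hcfg.Rt hcfg.Rt
  have hZRS : ∀ u ∈ S, ∀ x ∈ cent R R, u * x * u⁻¹ ∈ cent R R :=
    fun u hu => cent_conj R R u (hcfg.RS u hu) (hcfg.RS u hu)
  have hZRR : ∀ x ∈ R, ∀ n ∈ cent R R, x * n * x⁻¹ ∈ cent R R := by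
    intro x hx n hn
    have e : x * n * x⁻¹ = n := by rw [← hn.2 x hx]; group
    rw [e]; exact hn
  obtain ⟨hZRS', -⟩ := h.centB hnc (cent R R) (cent_le R R) hZRne hZRa hZRt hZRS hZRR
  -- the elements of order dividing `r` in the centre
  let Z : Subgroup (LAut W) :=
    { carrier := {z | z ∈ cent R R ∧ z ^ r = 1}
      mul_mem' := by
        rintro x y ⟨hx, hx1⟩ ⟨hy, hy1⟩
        refine ⟨Subgroup.mul_mem _ hx hy, ?_⟩
        have hc : Commute x y := hx.2 y hy.1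
        rw [hc.mul_pow, hx1, hy1, one_mul]
      one_mem' := ⟨Subgroup.one_mem _, one_pow r⟩
      inv_mem' := by
        rintro x ⟨hx, hx1⟩
        exact ⟨Subgroup.inv_mem _ hx, by rw [inv_pow, hx1, inv_one]⟩ }
  have hZmem : ∀ z, z ∈ Z ↔ z ∈ cent R R ∧ z ^ r = 1 := fun z => Iff.rfl
  have hne : ∃ z ∈ Z, z ≠ 1 := by
    haveI : Nontrivial ↥R := by
      by_contra hnt
      rw [not_nontrivial_iff_subsingleton] at hnt
      apply hnab
      intro x hx y hy
      have h1 : (⟨x, hx⟩ : ↥R) = ⟨y, hy⟩ := Subsingleton.elim _ _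
      have h2 : x = y := congrArg Subtype.val h1
      rw [h2]
    have hRp : IsPGroup r ↥R := hcfg.Rp
    haveI := hRp.center_nontrivial
    have hCp : IsPGroup r ↥(Subgroup.center ↥R) := hRp.to_subgroup _
    obtain ⟨k, hk⟩ := hCp.exists_card_eq
    have hk0 : k ≠ 0 := by
      rintro rfl
      rw [pow_zero] at hk
      have h1 := Finite.one_lt_card (α := ↥(Subgroup.center ↥R))
      omega
    have hdvd : r ∣ Nat.card ↥(Subgroup.center ↥R) := by rw [hk]; exact dvd_pow_self r hk0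
    obtain ⟨z, hz⟩ := exists_prime_orderOf_dvd_card' r hdvd
    refine ⟨((z : ↥R) : LAut W), ⟨⟨(z : ↥R).2, fun x hx => ?_⟩, ?_⟩, ?_⟩
    · have h1 := Subgroup.mem_center_iff.1 z.2 ⟨x, hx⟩
      exact (congrArg Subtype.val h1).symm
    · have h1 : z ^ r = 1 := by rw [← hz]; exact pow_orderOf_eq_one z
      have h2 := congrArg (fun y : ↥(Subgroup.center ↥R) => ((y : ↥R) : LAut W)) h1
      simpa using h2
    · intro h1
      have h2 : z = 1 := Subtype.ext (Subtype.ext h1)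
      rw [h2, orderOf_one] at hz
      exact hcfg.hr.one_lt.ne hz
  have zd : ZD r a t R S Z := by
    refine ⟨fun z hz => hz.1.1, fun x hx y hy => hx.1.2 y hy.1.1, fun z hz => hz.2, ?_, ?_,
      fun x hx z hz => (hz.1.2 x hx).symm, ?_, hne⟩
    · intro z hz
      exact ⟨hZRa z hz.1, by rw [conj_pow, hz.2]; group⟩
    · intro z hz
      exact ⟨hZRt z hz.1, by rw [conj_pow, hz.2]; group⟩
    · intro u hu z hz
      exact ⟨hZRS u hu z hz.1, by rw [conj_pow, hz.2]; group⟩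
  have hZS : ∀ u ∈ S, ∀ z ∈ Z, u * z = z * u := fun u hu z hz => (hZRS' z hz.1 u hu).symm
  -- the subgroup generated by powers and commutators
  obtain ⟨D, hDdef⟩ : ∃ D : Subgroup (LAut W), D = Subgroup.closure
      ({y | ∃ x ∈ R, y = x ^ r} ∪ {c | ∃ x ∈ R, ∃ y ∈ R, c = x * y * x⁻¹ * y⁻¹}) := ⟨_, rfl⟩
  have hDR : D ≤ R := by
    rw [hDdef, Subgroup.closure_le]
    rintro _ (⟨x, hx, rfl⟩ | ⟨x, hx, y, hy, rfl⟩)
    · exact R.pow_mem hx r
    · exact R.mul_mem (R.mul_mem (R.mul_mem hx hy) (R.inv_mem hx)) (R.inv_mem hy)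
  have hDne : D ≠ R := by
    intro hD
    have hRp : IsPGroup r ↥R := hcfg.Rp
    have hle : D ≤ (frattini ↥R).map R.subtype := by
      rw [hDdef, Subgroup.closure_le]
      rintro _ (⟨x, hx, rfl⟩ | ⟨x, hx, y, hy, rfl⟩)
      · exact ⟨(⟨x, hx⟩ : ↥R) ^ r,
          Cfsg.Agent.Lib.Helper1.pow_mem_frattini_of_pGroup r hRp _, rfl⟩
      · refine ⟨⁅(⟨x, hx⟩ : ↥R), ⟨y, hy⟩⁆,
          Cfsg.Agent.Lib.Helper1.commutator_le_frattini_of_pGroup r hRp ?_, ?_⟩
        · exact Subgroup.commutator_mem_commutator (Subgroup.mem_top _) (Subgroup.mem_top _)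
        · rw [commutatorElement_def]; rfl
    have hnt : Nontrivial ↥R := by
      by_contra hnt
      rw [not_nontrivial_iff_subsingleton] at hnt
      apply hnab
      intro x hx y hy
      have h1 : (⟨x, hx⟩ : ↥R) = ⟨y, hy⟩ := Subsingleton.elim _ _
      have h2 : x = y := congrArg Subtype.val h1
      rw [h2]
    have hbt : (⊥ : Subgroup ↥R) ≠ ⊤ := bot_ne_top
    rcases eq_top_or_exists_le_coatom (⊥ : Subgroup ↥R) with h1 | ⟨M, hM, -⟩
    · exact hbt h1
    · have h2 : frattini ↥R ≤ M := frattini_le_coatom hM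
      apply hM.1
      rw [eq_top_iff]
      intro x _
      have h3 : (x : LAut W) ∈ D := by rw [hD]; exact x.2
      obtain ⟨x', hx', hxx⟩ := hle h3
      have e : x' = x := Subtype.ext hxx
      rw [← e]; exact h2 hx'
  have hDconj : ∀ g : LAut W, (∀ x ∈ R, g * x * g⁻¹ ∈ R) → ∀ y ∈ D, g * y * g⁻¹ ∈ D := by
    intro g hg
    rw [hDdef]
    apply closure_conj_mem
    rintro _ (⟨x, hx, rfl⟩ | ⟨x, hx, y, hy, rfl⟩)
    · apply Subgroup.subset_closure
      left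
      exact ⟨g * x * g⁻¹, hg x hx, by rw [conj_pow]⟩
    · apply Subgroup.subset_closure
      right
      exact ⟨g * x * g⁻¹, hg x hx, g * y * g⁻¹, hg y hy, by group⟩
  obtain ⟨-, hDc⟩ := h.centB hnc D hDR hDne (hDconj a hcfg.Ra) (hDconj t hcfg.Rt)
    (fun u hu => hDconj u (hcfg.RS u hu))
    (fun x hx => hDconj x (fun y hy => R.mul_mem (R.mul_mem hx hy) (R.inv_mem hx)))
  have hpowD : ∀ x ∈ R, x ^ r ∈ D := by
    intro x hx
    rw [hDdef]
    exact Subgroup.subset_closure (Or.inl ⟨x, hx, rfl⟩)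
  have hcomD : ∀ x ∈ R, ∀ y ∈ R, x * y * x⁻¹ * y⁻¹ ∈ D := by
    intro x hx y hy
    rw [hDdef]
    exact Subgroup.subset_closure (Or.inr ⟨x, hx, y, hy, rfl⟩)
  have hcomZ : ∀ x ∈ R, ∀ y ∈ R, x * y * x⁻¹ * y⁻¹ ∈ Z := by
    intro x hx y hy
    obtain ⟨c, hc⟩ : ∃ c : LAut W, c = x * y * x⁻¹ * y⁻¹ := ⟨_, rfl⟩
    rw [← hc]
    have hcD : c ∈ D := by rw [hc]; exact hcomD x hx y hy
    have hpow : ∀ n : ℕ, x ^ n * y * (x ^ n)⁻¹ * y⁻¹ = c ^ n := by
      intro n
      induction n with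
      | zero => simp
      | succ n ih =>
        have hcm : Commute c x := hDc c hcD x hx
        have hcx : c ^ n * x = x * c ^ n := (hcm.pow_left n).eq
        calc x ^ (n + 1) * y * (x ^ (n + 1))⁻¹ * y⁻¹
            = x * (x ^ n * y * (x ^ n)⁻¹ * y⁻¹) * (y * x⁻¹ * y⁻¹) := by rw [pow_succ']; group
          _ = x * c ^ n * (y * x⁻¹ * y⁻¹) := by rw [ih]
          _ = c ^ n * x * (y * x⁻¹ * y⁻¹) := by rw [hcx]
          _ = c ^ n * c := by rw [hc]; group
          _ = c ^ (n + 1) := (pow_succ c n).symm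
    refine ⟨⟨hDR hcD, fun x' hx' => hDc c hcD x' hx'⟩, ?_⟩
    rw [← hpow r]
    have h1 : x ^ r * y = y * x ^ r := hDc _ (hpowD x hx) y hy
    rw [h1]; group
  by_cases hall : ∀ Y, MaxFix Z Y → a ∈ nzr Y
  · exact h.allK hnc zd (MaxFix Z) (fun Y hY => hY) (MaxFix.exists Z (W_ne hnc))
      (fun Y hY => hY.conj a zd.za) (fun Y hY => hY.conj t zd.zt)
      (fun x hx Y hY => hY.conj x (zd.zR' x hx)) (fun u hu Y hY => hY.conj u (zd.zS u hu)) hall
  · push Not at hall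
    obtain ⟨Y₁, hY₁, ha₁⟩ := hall
    obtain ⟨c, hc, hct, hfp⟩ := h.typeB zd hY₁ ha₁
    have h' := h.conj hc
    have zd' := zd.conj hcfg hc
    exact h'.nonab_B hnc zd' hZS hcomZ Y₁ hY₁ hct hfp
      (fun h2 hSa => h'.star_exc hnc zd' hZS hcomZ Y₁ hY₁ hct hfp h2 hSa)

end

end Cfsg.Agent.Lib.Helper63.Fpq
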