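import Mathlib
import Cfsg.Agent.Lib.Helper63.FpqNonab2

set_option autoImplicit false

namespace Cfsg.Agent.Lib.Helper63.Fpq

open Cfsg.Agent.Lib.Helper63.S3A

universe u

section

variable {W : Type u} [AddCommGroup W]

/-- the image of a subgroup under restriction -/
def img (U : AddSubgroup W) (P : Subgroup (LAut W)) : Subgroup (LAut U) :=
  (P.subgroupOf (stabU U)).map (resHom U)

theorem mem_img {U : AddSubgroup W} {P : Subgroup (LAut W)} {y : LAut U} :
    y ∈ img U P ↔ ∃ x : stabU U, (x : LAut W) ∈ P ∧ resHom U x = y := by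
  constructor
  · intro hy
    obtain ⟨x, hx, rfl⟩ := Subgroup.mem_map.1 hy
    exact ⟨x, Subgroup.mem_subgroupOf.1 hx, rfl⟩
  · rintro ⟨x, hx, rfl⟩
    exact Subgroup.mem_map.2 ⟨x, Subgroup.mem_subgroupOf.2 hx, rfl⟩

theorem card_img_le [Finite W] (U : AddSubgroup W) (P : Subgroup (LAut W)) (hP : P ≤ stabU U) :
    Nat.card (img U P) ≤ Nat.card P := by
  have h1 : Nat.card (img U P) ∣ Nat.card (P.subgroupOf (stabU U)) := Subgroup.card_map_dvd _ _
  have h2 : Nat.card (P.subgroupOf (stabU U)) = Nat.card P :=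
    Nat.card_congr (Subgroup.subgroupOfEquivOfLe hP).toEquiv
  rw [h2] at h1
  exact Nat.le_of_dvd Nat.card_pos h1

theorem res_eq_one {U : AddSubgroup W} (x : stabU U) (hx : (x : LAut W) ∈ fixer U) :
    resHom U x = 1 := by
  refine LinearEquiv.ext (fun w => Subtype.ext ?_)
  exact hx w w.2

theorem img_conj {U : AddSubgroup W} {P : Subgroup (LAut W)} (g : stabU U)
    (hg : ∀ x ∈ P, (g : LAut W) * x * (g : LAut W)⁻¹ ∈ P) :
    ∀ y ∈ img U P, resHom U g * y * (resHom U g)⁻¹ ∈ img U P := by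
  intro y hy
  obtain ⟨x, hx, rfl⟩ := mem_img.1 hy
  rw [← map_inv, ← map_mul, ← map_mul]
  exact mem_img.2 ⟨g * x * g⁻¹, hg x hx, rfl⟩

variable [Finite W] {p q r s ℓ : ℕ} {a t : LAut W} {R S : Subgroup (LAut W)}

theorem Cfg.img_fp (h : Cfg p q r s ℓ a t R S) (U : AddSubgroup W) (haU : a ∈ stabU U)
    (htU : t ∈ stabU U) (P : Subgroup (LAut W))
    (hPq : ¬ q ∣ Nat.card ↥(P ⊓ fixer U)) (hPp : ¬ p ∣ Nat.card ↥(P ⊓ fixer U))
    (hPa : ∀ x ∈ P, a * x * a⁻¹ ∈ P) (hPt : ∀ x ∈ P, t * x * t⁻¹ ∈ P)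
    (hPfp : ∀ x ∈ P, a * x * a⁻¹ = x → t * x * t⁻¹ = x → x = 1) :
    ∀ y ∈ img U P, resHom U ⟨a, haU⟩ * y * (resHom U ⟨a, haU⟩)⁻¹ = y →
      resHom U ⟨t, htU⟩ * y * (resHom U ⟨t, htU⟩)⁻¹ = y → y = 1 := by
  intro y hy hya hyt
  obtain ⟨x, hx, rfl⟩ := mem_img.1 hy
  rw [← map_inv, ← map_mul, ← map_mul] at hya hyt
  have key : ∀ g : stabU U, resHom U (g * x * g⁻¹) = resHom U x →
      (x : LAut W)⁻¹ * ((g : LAut W) * x * (g : LAut W)⁻¹) ∈ fixer U := by
    intro g hg w hw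
    have h3 := congrArg (fun e : LAut U => ((e ⟨w, hw⟩ : U) : W)) hg
    have h4 : ((g : LAut W) * x * (g : LAut W)⁻¹) w = (x : LAut W) w := h3
    show (x : LAut W)⁻¹ (((g : LAut W) * x * (g : LAut W)⁻¹) w) = w
    rw [h4, inv_app]
  have h1 : (x : LAut W)⁻¹ * (a * x * a⁻¹) ∈ P ⊓ fixer U :=
    ⟨P.mul_mem (P.inv_mem hx) (hPa _ hx), key ⟨a, haU⟩ hya⟩
  have h2 : (x : LAut W)⁻¹ * (t * x * t⁻¹) ∈ P ⊓ fixer U :=
    ⟨P.mul_mem (P.inv_mem hx) (hPt _ hx), key ⟨t, htU⟩ hyt⟩
  obtain ⟨k, hk, hk1, hk2⟩ := h.lift (P ⊓ fixer U) hPq hPp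
    (fun k hk => ⟨hPa k hk.1, fixer_conj haU hk.2⟩)
    (fun k hk => ⟨hPt k hk.1, fixer_conj htU hk.2⟩) x h1 h2
  have h3 : (x : LAut W) * k = 1 := hPfp _ (P.mul_mem hx hk.1) hk1 hk2
  have h4 : (x : LAut W) = k⁻¹ := eq_inv_of_mul_eq_one_left h3
  apply res_eq_one
  rw [h4]; exact Subgroup.inv_mem _ hk.2

/-- the restriction of a configuration to an invariant subgroup of the module -/
theorem Cfg.restrict (h : Cfg p q r s ℓ a t R S) (U : AddSubgroup W) (hinv : Inv a t R S U) :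
    ∃ (a' t' : LAut U) (R' S' : Subgroup (LAut U)), Cfg p q r s ℓ a' t' R' S' ∧
      Nat.card R' ≤ Nat.card R ∧ Nat.card S' ≤ Nat.card S ∧
      ((∀ x ∈ R', ∀ u ∈ S', x * u = u * x) → ∀ x ∈ R, ∀ u ∈ S, ∀ w ∈ U, x (u w) = u (x w)) := by
  have haU : a ∈ stabU U := stabU_of_maps U a hinv.1
  have htU : t ∈ stabU U := stabU_of_maps U t hinv.2.1
  have hRU : R ≤ stabU U := fun x hx => stabU_of_maps U x (hinv.2.2.1 x hx)
  have hSU : S ≤ stabU U := fun x hx => stabU_of_maps U x (hinv.2.2.2 x hx)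
  refine ⟨resHom U ⟨a, haU⟩, resHom U ⟨t, htU⟩, img U R, img U S, ?_, card_img_le U R hRU,
    card_img_le U S hSU, ?_⟩
  · exact
    { hp := h.hp, hq := h.hq, hr := h.hr, hs := h.hs, hℓ := h.hℓ, hrs := h.hrs, hrℓ := h.hrℓ
      hrp := h.hrp, hrq := h.hrq, hsp := h.hsp, hsq := h.hsq, hℓp := h.hℓp, hℓq := h.hℓq
      hpq := h.hpq
      aq := by
        rw [← map_pow]
        have e : (⟨a, haU⟩ : stabU U) ^ q = 1 := Subtype.ext h.aq
        rw [e, map_one]
      tp := by
        rw [← map_pow]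
        have e : (⟨t, htU⟩ : stabU U) ^ p = 1 := Subtype.ext h.tp
        rw [e, map_one]
      nrm := by
        obtain ⟨j, hj⟩ := Subgroup.mem_zpowers_iff.1 h.nrm
        rw [← map_inv, ← map_mul, ← map_mul]
        have e : (⟨t, htU⟩ : stabU U) * ⟨a, haU⟩ * (⟨t, htU⟩ : stabU U)⁻¹ =
            (⟨a, haU⟩ : stabU U) ^ j := by
          apply Subtype.ext
          rw [Subgroup.coe_zpow]
          exact hj.symm
        rw [e, map_zpow]
        exact Subgroup.zpow_mem _ (Subgroup.mem_zpowers _) j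
      gen := by
        obtain ⟨n, hn⟩ := Subgroup.mem_zpowers_iff.1 h.gen
        rw [← map_inv, ← map_inv, ← map_mul, ← map_mul, ← map_mul]
        have e : (⟨a, haU⟩ : stabU U) = ((⟨t, htU⟩ : stabU U) * ⟨a, haU⟩ *
            (⟨t, htU⟩ : stabU U)⁻¹ * (⟨a, haU⟩ : stabU U)⁻¹) ^ n := by
          apply Subtype.ext
          rw [Subgroup.coe_zpow]
          exact hn.symm
        rw [Subgroup.mem_zpowers_iff]
        refine ⟨n, ?_⟩
        rw [← map_zpow, ← e]
      exp := fun w => Subtype.ext (h.exp w)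
      fp := by
        intro w hw1 hw2
        have h1 : a (w : W) = w := congrArg Subtype.val hw1
        have h2 : t (w : W) = w := congrArg Subtype.val hw2
        exact Subtype.ext (h.fp _ h1 h2)
      Rp := (h.Rp.comap_subtype).map _
      Sp := (h.Sp.comap_subtype).map _
      Ra := img_conj ⟨a, haU⟩ h.Ra
      Rt := img_conj ⟨t, htU⟩ h.Rt
      Sa := img_conj ⟨a, haU⟩ h.Sa
      St := img_conj ⟨t, htU⟩ h.St
      RS := by
        intro v hv
        obtain ⟨u, hu, rfl⟩ := mem_img.1 hv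
        exact img_conj u (h.RS _ hu)
      Rfp := h.img_fp U haU htU R (h.Rq _ inf_le_left) (h.Rpp _ inf_le_left) h.Ra h.Rt h.Rfp
      Sfp := h.img_fp U haU htU S (h.Sq _ inf_le_left) (h.Spp _ inf_le_left) h.Sa h.St h.Sfp }
  · intro hcomm x hx u hu w hw
    have h1 := hcomm _ (mem_img.2 ⟨⟨x, hRU hx⟩, hx, rfl⟩) _ (mem_img.2 ⟨⟨u, hSU hu⟩, hu, rfl⟩)
    have h2 := congrArg (fun e : LAut U => ((e ⟨w, hw⟩ : U) : W)) h1
    exact h2

end

/-- the core theorem for configurations of bounded size -/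
def CTprop (n : ℕ) : Prop :=
  ∀ (W : Type u) [AddCommGroup W] [Finite W] (p q r s ℓ : ℕ) (a t : LAut W)
    (R S : Subgroup (LAut W)), Cfg p q r s ℓ a t R S →
    Nat.card W + Nat.card R + Nat.card S ≤ n → ∀ x ∈ R, ∀ u ∈ S, x * u = u * x

theorem CT_all : ∀ n : ℕ, CTprop.{u} n := by
  intro n
  induction n using Nat.strong_induction_on with
  | _ n ih =>
    intro W _ _ p q r s ℓ a t R S h hn
    have hmin : Min p q r s ℓ a t R S := by
      refine ⟨h, ?_, ?_, ?_⟩
      · intro U hU hinv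
        obtain ⟨a', t', R', S', h', hcR, hcS, hback⟩ := h.restrict U hinv
        apply hback
        have hcU : Nat.card U < Nat.card W := by
          rcases lt_or_eq_of_le (Nat.le_of_dvd Nat.card_pos
            (AddSubgroup.card_addSubgroup_dvd_card U)) with h1 | h1
          · exact h1
          · exact absurd (AddSubgroup.eq_top_of_card_eq U h1) hU
        exact ih (Nat.card U + Nat.card R' + Nat.card S') (by omega) U p q r s ℓ a' t' R' S' h'
          le_rfl
      · intro R₁ hle hne hR₁a hR₁t hR₁S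
        have h' : Cfg p q r s ℓ a t R₁ S :=
          { h with
            Rp := h.Rp.to_le hle, Ra := hR₁a, Rt := hR₁t, RS := hR₁S
            Rfp := fun x hx => h.Rfp x (hle hx) }
        have hc : Nat.card R₁ < Nat.card R := by
          by_contra hge
          push Not at hge
          exact hne (Subgroup.eq_of_le_of_card_ge hle hge)
        exact ih (Nat.card W + Nat.card R₁ + Nat.card S) (by omega) W p q r s ℓ a t R₁ S h'
          le_rfl
      · intro S₁ hle hne hS₁a hS₁t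
        have h' : Cfg p q r s ℓ a t R S₁ :=
          { h with
            Sp := h.Sp.to_le hle, Sa := hS₁a, St := hS₁t
            RS := fun u hu => h.RS u (hle hu)
            Sfp := fun x hx => h.Sfp x (hle hx) }
        have hc : Nat.card S₁ < Nat.card S := by
          by_contra hge
          push Not at hge
          exact hne (Subgroup.eq_of_le_of_card_ge hle hge)
        exact ih (Nat.card W + Nat.card R + Nat.card S₁) (by omega) W p q r s ℓ a t R S₁ h'
          le_rfl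
    by_contra hnc
    by_cases hab : ∀ x ∈ R, ∀ y ∈ R, x * y = y * x
    · exact hmin.abelian_false hnc hab
    · exact hmin.nonab_false hnc hab

/-- **Core theorem.** In the configuration `Cfg`, the group `S` centralizes `R`. -/
theorem Cfg.comm {W : Type u} [AddCommGroup W] [Finite W] {p q r s ℓ : ℕ} {a t : LAut W}
    {R S : Subgroup (LAut W)} (h : Cfg p q r s ℓ a t R S) : ∀ x ∈ R, ∀ u ∈ S, x * u = u * x :=
  CT_all _ W p q r s ℓ a t R S h le_rfl

end Cfsg.Agent.Lib.Helper63.Fpq
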