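import Mathlib
import Cfsg.Agent.Lib.Helper63.S3AbMod
import Cfsg.Agent.Lib.Helper63.S3Syl
import Cfsg.Agent.Lib.Helper63.FpqCT

set_option autoImplicit false
open scoped Pointwise

namespace Cfsg.Agent.Lib.Helper63.Fpq

open Cfsg.Agent.Lib.Helper63.S3A

universe u

/-- the relations of a nonabelian group of order `p q` generated by `a` of order `q` and `t` of
order `p` -/
structure Frob {A : Type*} [Group A] (p q : ℕ) (a t : A) : Prop where
  hp : p.Prime
  hq : q.Prime
  hpq : p ∣ q - 1
  aq : a ^ q = 1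
  tp : t ^ p = 1
  nrm : t * a * t⁻¹ ∈ Subgroup.zpowers a
  gen : a ∈ Subgroup.zpowers (t * a * t⁻¹ * a⁻¹)

section

variable {A : Type*} [Group A] [Finite A] {p q : ℕ} {a t : A}

theorem Frob.nrm' (hA : Frob p q a t) : t⁻¹ * a * t ∈ Subgroup.zpowers a :=
  norm_inv (Subgroup.zpowers a) t (by
    intro z hz
    obtain ⟨i, rfl⟩ := Subgroup.mem_zpowers_iff.1 hz
    rw [← conj_zpow]
    exact Subgroup.zpow_mem _ hA.nrm i) a (Subgroup.mem_zpowers a)

variable {G : Type*} [Group G] [MulDistribMulAction A G]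

/-- the fixed points of `a` are permuted by `t` -/
theorem Frob.fix_t (hA : Frob p q a t) {g : G} (hg : a • g = g) : a • t • g = t • g := by
  obtain ⟨i, hi⟩ := Subgroup.mem_zpowers_iff.1 hA.nrm'
  have h1 : (a ^ i) • g = g := by
    have h2 : a ∈ MulAction.stabilizer A g := hg
    exact Subgroup.zpow_mem _ h2 i
  have e : a * t = t * (t⁻¹ * a * t) := by group
  rw [← mul_smul, e, mul_smul, ← hi, h1]

/-- common fixed points in an invariant coset -/
theorem Frob.liftG (hA : Frob p q a t) (N : Subgroup G) [Finite N] (hNq : ¬ q ∣ Nat.card N)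
    (hNp : ¬ p ∣ Nat.card N) (hNa : ∀ k ∈ N, a • k ∈ N) (hNt : ∀ k ∈ N, t • k ∈ N) (y : G)
    (hya : y⁻¹ * a • y ∈ N) (hyt : y⁻¹ * t • y ∈ N) :
    ∃ k ∈ N, a • (y * k) = y * k ∧ t • (y * k) = y * k := by
  haveI : Fact q.Prime := ⟨hA.hq⟩
  haveI : Fact p.Prime := ⟨hA.hp⟩
  exact fp2 q p (MulDistribMulAction.toMonoidHom G a) (MulDistribMulAction.toMonoidHom G t)
    (fun x => by
      show (fun x : G => a • x)^[q] x = x
      rw [smul_iterate, hA.aq]
      exact one_smul _ _)
    (fun x => by
      show (fun x : G => t • x)^[p] x = x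
      rw [smul_iterate, hA.tp]
      exact one_smul _ _)
    (fun x hx => hA.fix_t hx) N hNq hNp hNa hNt y hya hyt

/-- an invariant Sylow subgroup -/
theorem Frob.invSyl [Finite G] (hA : Frob p q a t) (hqG : ¬ q ∣ Nat.card G)
    (hpG : ¬ p ∣ Nat.card G) (r : ℕ) [Fact r.Prime] :
    ∃ P : Sylow r G, (∀ x ∈ P, a • x ∈ P) ∧ (∀ x ∈ P, t • x ∈ P) := by
  classical
  haveI : Fact q.Prime := ⟨hA.hq⟩
  haveI : Fact p.Prime := ⟨hA.hp⟩
  obtain ⟨aM, haM⟩ : ∃ aM : MulAut G, aM = MulDistribMulAction.toMulAut A G a := ⟨_, rfl⟩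
  obtain ⟨tM, htM⟩ : ∃ tM : MulAut G, tM = MulDistribMulAction.toMulAut A G t := ⟨_, rfl⟩
  have haα : ∀ x, aM x = a • x := fun x => by rw [haM]; rfl
  have htτ : ∀ x, tM x = t • x := fun x => by rw [htM]; rfl
  have haq : aM ^ q = 1 := by rw [haM, ← map_pow, hA.aq, map_one]
  have htp : tM ^ p = 1 := by rw [htM, ← map_pow, hA.tp, map_one]
  have hnrm : tM⁻¹ * aM * tM ∈ Subgroup.zpowers aM := by
    obtain ⟨i, hi⟩ := Subgroup.mem_zpowers_iff.1 hA.nrm'
    rw [haM, htM, ← map_inv, ← map_mul, ← map_mul, ← hi, map_zpow]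
    exact Subgroup.zpow_mem _ (Subgroup.mem_zpowers _) i
  have hqΩ : ¬ q ∣ Nat.card (Sylow r G) := by
    intro h3
    apply hqG
    have P : Sylow r G := default
    exact h3.trans ((P.card_dvd_index).trans (Subgroup.index_dvd_card _))
  obtain ⟨P₀, hP₀⟩ := exists_fixed_of_iterate q (fun P : Sylow r G => aM • P)
    (by
      intro P
      rw [smul_iterate, haq]
      exact one_smul _ _) hqΩ
  have hP₀' : aM • P₀ = P₀ := hP₀
  have hcompat : ∀ (g : G) (P : Sylow r G), aM • (g • P) = (aM g) • (aM • P) := by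
    intro g P
    rw [Sylow.smul_def, Sylow.smul_def, ← mul_smul, ← mul_smul]
    congr 1
    ext x
    show aM (g * x * g⁻¹) = aM g * aM x * (aM g)⁻¹
    rw [map_mul, map_mul, map_inv]
  let X : Set (Sylow r G) := {P | aM • P = P}
  let C : Subgroup G :=
    { carrier := {g | aM g = g}
      mul_mem' := by
        intro x y hx hy
        show aM (x * y) = x * y
        rw [map_mul, show aM x = x from hx, show aM y = y from hy]
      one_mem' := map_one aM
      inv_mem' := by
        intro x hx
        show aM x⁻¹ = x⁻¹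
        rw [map_inv, show aM x = x from hx] }
  have hXorb : X = MulAction.orbit C P₀ := by
    ext P
    constructor
    · intro hP
      have hP' : aM • P = P := hP
      obtain ⟨g, hg⟩ := MulAction.exists_smul_eq G P₀ P
      set N : Subgroup G := MulAction.stabilizer G P₀ with hN
      have hNa : ∀ k ∈ N, aM.toMonoidHom k ∈ N := by
        intro k hk
        rw [hN, MulAction.mem_stabilizer_iff] at hk ⊢
        show (aM k) • P₀ = P₀
        have h1 := hcompat k P₀
        rw [hk, hP₀'] at h1
        exact h1.symm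
      have hgN : g⁻¹ * aM.toMonoidHom g ∈ N := by
        rw [hN, MulAction.mem_stabilizer_iff]
        show (g⁻¹ * aM g) • P₀ = P₀
        have h1 := hcompat g P₀
        rw [hg, hP', hP₀'] at h1
        rw [mul_smul, ← h1, ← hg, inv_smul_smul]
      have hqN : ¬ q ∣ Nat.card N := fun h3 => hqG (h3.trans (Subgroup.card_subgroup_dvd_card N))
      obtain ⟨k, hk, hk1⟩ := fp_coset q aM.toMonoidHom
        (by
          intro x
          have hit : ∀ n : ℕ, (aM.toMonoidHom)^[n] x = (aM ^ n) x := by
            intro n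
            induction n with
            | zero => rfl
            | succ n ih => rw [Function.iterate_succ_apply', ih, pow_succ']; rfl
          rw [hit, haq]; rfl) N hqN hNa g hgN
      rw [MulAction.mem_orbit_iff]
      refine ⟨⟨g * k, hk1⟩, ?_⟩
      show (g * k) • P₀ = P
      rw [mul_smul, (MulAction.mem_stabilizer_iff.1 hk), hg]
    · intro hP
      rw [MulAction.mem_orbit_iff] at hP
      obtain ⟨c, rfl⟩ := hP
      show aM • ((c : G) • P₀) = (c : G) • P₀
      rw [hcompat, hP₀', show aM (c : G) = c from c.2]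
  have hpX : ¬ p ∣ Nat.card X := by
    intro h2
    apply hpG
    have e1 : Nat.card X = (MulAction.stabilizer C P₀).index := by
      rw [MulAction.index_stabilizer, ← hXorb, Nat.card_coe_set_eq]
    rw [e1] at h2
    exact h2.trans ((Subgroup.index_dvd_card _).trans (Subgroup.card_subgroup_dvd_card C))
  have hXt : ∀ P : X, tM • (P : Sylow r G) ∈ X := by
    intro P
    have hP : aM • (P : Sylow r G) = P := P.2
    show aM • tM • (P : Sylow r G) = tM • (P : Sylow r G)
    obtain ⟨i, hi⟩ := Subgroup.mem_zpowers_iff.1 hnrm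
    have h1 : (aM ^ i) • (P : Sylow r G) = P := by
      have h2 : aM ∈ MulAction.stabilizer (MulAut G) (P : Sylow r G) := hP
      exact Subgroup.zpow_mem _ h2 i
    have e : aM * tM = tM * (tM⁻¹ * aM * tM) := by group
    rw [← mul_smul, e, mul_smul, ← hi, h1]
  have hXiter : ∀ n : ℕ, ∀ P : X,
      (((fun P : X => (⟨tM • (P : Sylow r G), hXt P⟩ : X))^[n] P : X) : Sylow r G) =
        tM ^ n • (P : Sylow r G) := by
    intro n
    induction n with
    | zero => intro P; simp
    | succ n ih =>
      intro P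
      rw [Function.iterate_succ_apply', pow_succ', mul_smul, ← ih]
  obtain ⟨P, hP⟩ := exists_fixed_of_iterate p
    (fun P : X => (⟨tM • (P : Sylow r G), hXt P⟩ : X))
    (by
      intro P
      apply Subtype.ext
      rw [hXiter, htp, one_smul]) hpX
  have hPt : tM • (P : Sylow r G) = P := congrArg Subtype.val hP
  have hPa : aM • (P : Sylow r G) = P := P.2
  refine ⟨P, ?_, ?_⟩
  · intro x hx
    have h1 : aM • x ∈ aM • ((P : Sylow r G) : Subgroup G) :=
      Subgroup.smul_mem_pointwise_smul x aM _ hx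
    rw [← Sylow.pointwise_smul_def, hPa] at h1
    rw [← haα]
    exact h1
  · intro x hx
    have h1 : tM • x ∈ tM • ((P : Sylow r G) : Subgroup G) :=
      Subgroup.smul_mem_pointwise_smul x tM _ hx
    rw [← Sylow.pointwise_smul_def, hPt] at h1
    rw [← htτ]
    exact h1

end

end Cfsg.Agent.Lib.Helper63.Fpq
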