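import Mathlib
import Cfsg.Agent.Lib.Helper63.FpqTop2

set_option autoImplicit false
open scoped Pointwise

namespace Cfsg.Agent.Lib.Helper63.Fpq

open Cfsg.Agent.Lib.Helper63.S3A

universe u

theorem val_nsmul {K : Type*} [Group K] {V : Subgroup K}
    {h : ∀ x ∈ V, ∀ y ∈ V, x * y = y * x} (n : ℕ) (x : AbMod V h) :
    (n • x).val = x.val ^ n := by
  induction n with
  | zero => rw [zero_smul, pow_zero]; rfl
  | succ n ih => rw [succ_nsmul, AbMod.val_add, ih, pow_succ]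

section

variable {A : Type*} [Group A] [Finite A] {p q : ℕ} {a t : A}
variable {G : Type u} [Group G] [Finite G] [MulDistribMulAction A G]

/-- the core theorem, for groups -/
theorem Frob.ctg (hA : Frob p q a t) (hcop : (Nat.card G).Coprime (p * q))
    (hfpf : ∀ g : G, a • g = g → t • g = g → g = 1)
    (F : Subgroup G) [hFn : F.Normal] (hFab : ∀ x ∈ F, ∀ y ∈ F, x * y = y * x)
    (hFA : ∀ x : A, ∀ g ∈ F, x • g ∈ F)
    {r s ℓ : ℕ} (hr : r.Prime) (hs : s.Prime) (hℓ : ℓ.Prime) (hrs : r ≠ s) (hrℓ : r ≠ ℓ)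
    (hrp : r ≠ p) (hrq : r ≠ q) (hsp : s ≠ p) (hsq : s ≠ q) (hℓp : ℓ ≠ p) (hℓq : ℓ ≠ q)
    (T : Subgroup G) [hTn : T.Normal] (hTa : ∀ x ∈ T, a • x ∈ T) (hTt : ∀ x ∈ T, t • x ∈ T)
    (hTr : ∀ y ∈ T, ∃ j : ℕ, y ^ r ^ j ∈ F)
    (S₁ : Subgroup G) (hS₁ : IsPGroup s S₁) (hSa : ∀ x ∈ S₁, a • x ∈ S₁)
    (hSt : ∀ x ∈ S₁, t • x ∈ S₁) :
    ∀ x ∈ T, ∀ u ∈ S₁, ∀ v ∈ F, v ^ ℓ = 1 →
      (x * u * x⁻¹ * u⁻¹) * v = v * (x * u * x⁻¹ * u⁻¹) := by
  classical
  have hqG : ¬ q ∣ Nat.card G := by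
    intro hd
    have h1 : q ∣ Nat.gcd (Nat.card G) (p * q) := Nat.dvd_gcd hd (dvd_mul_left q p)
    rw [Nat.Coprime.gcd_eq_one hcop] at h1
    exact hA.hq.one_lt.ne' (Nat.dvd_one.1 h1)
  have hpG : ¬ p ∣ Nat.card G := by
    intro hd
    have h1 : p ∣ Nat.gcd (Nat.card G) (p * q) := Nat.dvd_gcd hd (dvd_mul_right p q)
    rw [Nat.Coprime.gcd_eq_one hcop] at h1
    exact hA.hp.one_lt.ne' (Nat.dvd_one.1 h1)
  let V : Subgroup G :=
    { carrier := {v | v ∈ F ∧ v ^ ℓ = 1}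
      mul_mem' := by
        rintro x y ⟨hx, hx'⟩ ⟨hy, hy'⟩
        refine ⟨F.mul_mem hx hy, ?_⟩
        have hc : Commute x y := hFab x hx y hy
        rw [hc.mul_pow, hx', hy', one_mul]
      one_mem' := ⟨F.one_mem, one_pow ℓ⟩
      inv_mem' := by
        rintro x ⟨hx, hx'⟩
        exact ⟨F.inv_mem hx, by rw [inv_pow, hx', inv_one]⟩ }
  haveI hVn : V.Normal := ⟨by
    intro v hv g
    refine ⟨hFn.conj_mem v hv.1 g, ?_⟩
    rw [conj_pow, hv.2, mul_one, mul_inv_cancel]⟩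
  have hVA : ∀ x : A, ∀ v ∈ V, x • v ∈ V :=
    fun x v hv => ⟨hFA x v hv.1, by rw [← smul_pow', hv.2, smul_one]⟩
  have hVab : ∀ x ∈ V, ∀ y ∈ V, x * y = y * x := fun x hx y hy => hFab x hx.1 y hy.1
  obtain ⟨ρ, hρ⟩ : ∃ ρ : G →* LAut (AbMod V hVab), ρ = AbMod.conjHom := ⟨_, rfl⟩
  have hρval : ∀ (g : G) (w : AbMod V hVab), (ρ g w).val = g * w.val * g⁻¹ := by
    intro g w; rw [hρ]; rfl
  let ρA : A →* LAut (AbMod V hVab) := MonoidHom.mk'
    (fun x => AbMod.aut (fun g => x • g) (fun g => x⁻¹ • g) (hVA x) (hVA x⁻¹)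
      (fun v _ w _ => smul_mul' x v w) (fun v _ => inv_smul_smul x v)
      (fun v _ => smul_inv_smul x v))
    (by
      intro x y
      refine LinearEquiv.ext (fun w => AbMod.ext ?_)
      show (x * y) • w.val = x • y • w.val
      exact mul_smul x y _)
  have hρAval : ∀ (x : A) (w : AbMod V hVab), (ρA x w).val = x • w.val := fun x w => rfl
  have hρAinv : ∀ (x : A) (w : AbMod V hVab), ((ρA x)⁻¹ w).val = x⁻¹ • w.val := fun x w => rfl
  have hρAρ : ∀ (x : A) (g : G), ρA x * ρ g * (ρA x)⁻¹ = ρ (x • g) := by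
    intro x g
    refine LinearEquiv.ext (fun w => AbMod.ext ?_)
    have h1 : ((ρA x * ρ g * (ρA x)⁻¹) w).val = x • (g * (x⁻¹ • w.val) * g⁻¹) := by
      show (ρA x (ρ g ((ρA x)⁻¹ w))).val = _
      rw [hρAval, hρval, hρAinv]
    rw [h1, hρval, smul_mul', smul_mul', smul_inv', smul_inv_smul]
  have hker : ∀ g, ρ g = 1 ↔ ∀ v ∈ V, g * v = v * g := by
    intro g
    constructor
    · intro hg v hv
      have h0 := congrArg (fun e : LAut (AbMod V hVab) => (e (AbMod.mk v hv)).val) hg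
      have h1 : g * v * g⁻¹ = v := by
        have h2 := hρval g (AbMod.mk v hv)
        rw [AbMod.val_mk] at h2
        rw [← h2]; exact h0
      exact mul_inv_eq_iff_eq_mul.1 h1
    · intro hg
      refine LinearEquiv.ext (fun x => AbMod.ext ?_)
      rw [hρval]
      exact mul_inv_eq_iff_eq_mul.2 (hg _ x.val_mem)
  have hFker : ∀ f ∈ F, ρ f = 1 := fun f hf => (hker f).2 (fun v hv => hFab f hf v hv.1)
  have hfix : ∀ (H : Subgroup G), (∀ x ∈ H, a • x ∈ H) → (∀ x ∈ H, t • x ∈ H) →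
      ∀ x ∈ H.map ρ, ρA a * x * (ρA a)⁻¹ = x → ρA t * x * (ρA t)⁻¹ = x → x = 1 := by
    rintro H hHa hHt _ ⟨g, hg, rfl⟩ h1 h2
    rw [hρAρ] at h1 h2
    have hN₁a : ∀ k ∈ H ⊓ ρ.ker, a • k ∈ H ⊓ ρ.ker := by
      intro k hk
      refine ⟨hHa k hk.1, ?_⟩
      have hk2 : ρ k = 1 := hk.2
      show ρ (a • k) = 1
      rw [← hρAρ, hk2]; group
    have hN₁t : ∀ k ∈ H ⊓ ρ.ker, t • k ∈ H ⊓ ρ.ker := by
      intro k hk
      refine ⟨hHt k hk.1, ?_⟩
      have hk2 : ρ k = 1 := hk.2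
      show ρ (t • k) = 1
      rw [← hρAρ, hk2]; group
    have hga : g⁻¹ * a • g ∈ H ⊓ ρ.ker := by
      refine ⟨H.mul_mem (H.inv_mem hg) (hHa g hg), ?_⟩
      show ρ (g⁻¹ * a • g) = 1
      rw [map_mul, map_inv, h1]; group
    have hgt : g⁻¹ * t • g ∈ H ⊓ ρ.ker := by
      refine ⟨H.mul_mem (H.inv_mem hg) (hHt g hg), ?_⟩
      show ρ (g⁻¹ * t • g) = 1
      rw [map_mul, map_inv, h2]; group
    obtain ⟨k, hk, hk1, hk2⟩ := hA.liftG (H ⊓ ρ.ker)
      (fun hd => hqG (hd.trans (Subgroup.card_subgroup_dvd_card _)))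
      (fun hd => hpG (hd.trans (Subgroup.card_subgroup_dvd_card _))) hN₁a hN₁t g hga hgt
    have hgk : g * k = 1 := hfpf _ hk1 hk2
    have hk' : ρ k = 1 := hk.2
    have h3 : ρ (g * k) = 1 := by rw [hgk, map_one]
    rw [map_mul, hk', mul_one] at h3
    exact h3
  have hcfg : Cfg p q r s ℓ (ρA a) (ρA t) (T.map ρ) (S₁.map ρ) :=
    { hp := hA.hp, hq := hA.hq, hr := hr, hs := hs, hℓ := hℓ, hrs := hrs, hrℓ := hrℓ
      hrp := hrp, hrq := hrq, hsp := hsp, hsq := hsq, hℓp := hℓp, hℓq := hℓq, hpq := hA.hpq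
      aq := by rw [← map_pow, hA.aq, map_one]
      tp := by rw [← map_pow, hA.tp, map_one]
      nrm := by
        obtain ⟨j, hj⟩ := Subgroup.mem_zpowers_iff.1 hA.nrm
        rw [← map_inv, ← map_mul, ← map_mul, ← hj, map_zpow]
        exact Subgroup.zpow_mem _ (Subgroup.mem_zpowers _) j
      gen := by
        obtain ⟨n, hn⟩ := Subgroup.mem_zpowers_iff.1 hA.gen
        rw [Subgroup.mem_zpowers_iff]
        refine ⟨n, ?_⟩
        rw [← map_inv, ← map_inv, ← map_mul, ← map_mul, ← map_mul, ← map_zpow, hn]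
      exp := by
        intro w
        apply AbMod.ext
        rw [val_nsmul]
        exact w.val_mem.2
      fp := by
        intro w h1 h2
        apply AbMod.ext
        have e1 : a • w.val = w.val := congrArg AbMod.val h1
        have e2 : t • w.val = w.val := congrArg AbMod.val h2
        exact hfpf _ e1 e2
      Rp := by
        rintro ⟨_, y, hy, rfl⟩
        obtain ⟨j, hj⟩ := hTr y hy
        refine ⟨j, Subtype.ext ?_⟩
        show ρ y ^ r ^ j = 1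
        rw [← map_pow]; exact hFker _ hj
      Sp := hS₁.map ρ
      Ra := by
        rintro _ ⟨g, hg, rfl⟩
        rw [hρAρ]; exact ⟨a • g, hTa g hg, rfl⟩
      Rt := by
        rintro _ ⟨g, hg, rfl⟩
        rw [hρAρ]; exact ⟨t • g, hTt g hg, rfl⟩
      Sa := by
        rintro _ ⟨g, hg, rfl⟩
        rw [hρAρ]; exact ⟨a • g, hSa g hg, rfl⟩
      St := by
        rintro _ ⟨g, hg, rfl⟩
        rw [hρAρ]; exact ⟨t • g, hSt g hg, rfl⟩
      RS := by
        rintro _ ⟨u, hu, rfl⟩ _ ⟨x, hx, rfl⟩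
        exact ⟨u * x * u⁻¹, hTn.conj_mem x hx u, by rw [map_mul, map_mul, map_inv]⟩
      Rfp := hfix T hTa hTt
      Sfp := hfix S₁ hSa hSt }
  have hcomm := hcfg.comm
  intro x hx u hu v hv hvℓ
  have h1 := hcomm (ρ x) ⟨x, hx, rfl⟩ (ρ u) ⟨u, hu, rfl⟩
  have h2 : ρ (x * u * x⁻¹ * u⁻¹) = 1 := by
    rw [map_mul, map_mul, map_mul, map_inv, map_inv, h1]; group
  exact (hker _).1 h2 v ⟨hv, hvℓ⟩

end

end Cfsg.Agent.Lib.Helper63.Fpq
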