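import Mathlib
import Cfsg.Agent.S0070
import Cfsg.Agent.Lib.Helper63.FpqTop1
import Cfsg.Agent.Lib.Helper63.FpqTop3
import Cfsg.Agent.Lib.Helper90.ExtAction
import Cfsg.Agent.Lib.Helper90.Frattini
import Cfsg.Agent.Lib.Helper1.BurnsideBasis

set_option autoImplicit false
open Cfsg
open scoped Pointwise

namespace Cfsg.Agent.Lib.Helper63.Fpq

open Cfsg.Agent.Lib.Helper63.S3A

universe u

section

variable {A : Type*} [Group A] [Finite A] {p q : ℕ} {a t : A}
variable {G : Type u} [Group G] [Finite G] [MulDistribMulAction A G]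

theorem Frob.not_dvd (hA : Frob p q a t) (hcop : (Nat.card G).Coprime (p * q)) :
    ¬ q ∣ Nat.card G ∧ ¬ p ∣ Nat.card G := by
  constructor
  · intro hd
    have h1 : q ∣ Nat.gcd (Nat.card G) (p * q) := Nat.dvd_gcd hd (dvd_mul_left q p)
    rw [Nat.Coprime.gcd_eq_one hcop] at h1
    exact hA.hq.one_lt.ne' (Nat.dvd_one.1 h1)
  · intro hd
    have h1 : p ∣ Nat.gcd (Nat.card G) (p * q) := Nat.dvd_gcd hd (dvd_mul_right p q)
    rw [Nat.Coprime.gcd_eq_one hcop] at h1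
    exact hA.hp.one_lt.ne' (Nat.dvd_one.1 h1)

/-- the preimage of the `r`-core of `G/F` commutes with the `s`-elements modulo `F` -/
theorem Frob.coreI (hA : Frob p q a t) (hcop : (Nat.card G).Coprime (p * q))
    (hfpf : ∀ g : G, a • g = g → t • g = g → g = 1)
    (F : Subgroup G) [hFn : F.Normal] (hFab : ∀ x ∈ F, ∀ y ∈ F, x * y = y * x)
    (hFA : ∀ x : A, ∀ g ∈ F, x • g ∈ F)
    (hFmax : ∀ C : Subgroup G, C.Normal → Group.IsNilpotent C → C ≤ F)
    (hFel : ∀ d : ℕ, d.Prime → ∀ v ∈ F, ∀ j : ℕ, v ^ d ^ j = 1 → v ^ d = 1)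
    {r s : ℕ} (hr : r.Prime) (hs : s.Prime) (hrs : r ≠ s)
    (T : Subgroup G) [hTn : T.Normal] (hTa : ∀ x ∈ T, a • x ∈ T) (hTt : ∀ x ∈ T, t • x ∈ T)
    (hTr : ∀ y ∈ T, ∃ j : ℕ, y ^ r ^ j ∈ F) :
    ∀ x ∈ T, ∀ u : G, (∃ j : ℕ, u ^ s ^ j = 1) → x * u * x⁻¹ * u⁻¹ ∈ F := by
  classical
  obtain ⟨hqG, hpG⟩ := hA.not_dvd hcop
  intro x hx u ⟨j, hu⟩
  by_cases hrG : r ∣ Nat.card G
  swap
  · obtain ⟨i, hi⟩ := hTr x hx
    have hxF : x ∈ F := root_mem F x (Nat.card G) (r ^ i) pow_card_eq_one'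
      (Nat.Coprime.pow_right _ ((Nat.Prime.coprime_iff_not_dvd hr).2 hrG).symm) hi
    have h1 : u * x⁻¹ * u⁻¹ ∈ F := hFn.conj_mem _ (F.inv_mem hxF) u
    have e : x * u * x⁻¹ * u⁻¹ = x * (u * x⁻¹ * u⁻¹) := by group
    rw [e]; exact F.mul_mem hxF h1
  by_cases hsG : s ∣ Nat.card G
  swap
  · have hu1 : u ∈ (⊥ : Subgroup G) := root_mem ⊥ u (s ^ j) (Nat.card G) hu
      (Nat.Coprime.pow_left _ ((Nat.Prime.coprime_iff_not_dvd hs).2 hsG))
      (by rw [pow_card_eq_one']; exact Subgroup.one_mem _)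
    rw [Subgroup.mem_bot] at hu1
    rw [hu1]
    have e : x * 1 * x⁻¹ * (1 : G)⁻¹ = 1 := by group
    rw [e]; exact F.one_mem
  have hrp : r ≠ p := fun h => hpG (h ▸ hrG)
  have hrq : r ≠ q := fun h => hqG (h ▸ hrG)
  have hsp : s ≠ p := fun h => hpG (h ▸ hsG)
  have hsq : s ≠ q := fun h => hqG (h ▸ hsG)
  haveI : Fact s.Prime := ⟨hs⟩
  obtain ⟨P, hPa, hPt⟩ := hA.invSyl (G := G) hqG hpG s
  have key : ∀ x ∈ T, ∀ u ∈ P, x * u * x⁻¹ * u⁻¹ ∈ F := by
    intro x hx u hu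
    obtain ⟨K, hK⟩ : ∃ K : Subgroup G, K = T ⊓ Subgroup.centralizer
        {v | v ∈ F ∧ ∃ d : ℕ, d.Prime ∧ d ≠ r ∧ v ^ d = 1} := ⟨_, rfl⟩
    have hKmem : ∀ z, z ∈ K ↔ z ∈ T ∧
        ∀ v ∈ F, ∀ d : ℕ, d.Prime → d ≠ r → v ^ d = 1 → v * z = z * v := by
      intro z
      rw [hK, Subgroup.mem_inf, Subgroup.mem_centralizer_iff]
      constructor
      · rintro ⟨h1, h2⟩
        exact ⟨h1, fun v hv d hd hdr hvd => h2 v ⟨hv, d, hd, hdr, hvd⟩⟩
      · rintro ⟨h1, h2⟩
        exact ⟨h1, fun v ⟨hv, d, hd, hdr, hvd⟩ => h2 v hv d hd hdr hvd⟩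
    have hKn : K.Normal := ⟨by
      intro z hz g
      rw [hKmem] at hz ⊢
      refine ⟨hTn.conj_mem z hz.1 g, ?_⟩
      intro v hv d hd hdr hvd
      have e : g⁻¹ * v * g = g⁻¹ * v * g⁻¹⁻¹ := by rw [inv_inv]
      have h0 : g⁻¹ * v * g ∈ F := by rw [e]; exact hFn.conj_mem v hv g⁻¹
      have h0' : (g⁻¹ * v * g) ^ d = 1 := by
        rw [e, conj_pow, hvd, mul_one, mul_inv_cancel]
      have h1 := hz.2 (g⁻¹ * v * g) h0 d hd hdr h0'
      calc v * (g * z * g⁻¹) = g * (g⁻¹ * v * g * z) * g⁻¹ := by group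
        _ = g * (z * (g⁻¹ * v * g)) * g⁻¹ := by rw [h1]
        _ = g * z * g⁻¹ * v := by group⟩
    have hcK : x * u * x⁻¹ * u⁻¹ ∈ K := by
      rw [hKmem]
      refine ⟨?_, ?_⟩
      · have h1 : u * x⁻¹ * u⁻¹ ∈ T := hTn.conj_mem _ (T.inv_mem hx) u
        have e : x * u * x⁻¹ * u⁻¹ = x * (u * x⁻¹ * u⁻¹) := by group
        rw [e]; exact T.mul_mem hx h1
      · intro v hv d hd hdr hvd
        by_cases hdG : d ∣ Nat.card G
        · have hdp : d ≠ p := fun h => hpG (h ▸ hdG)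
          have hdq : d ≠ q := fun h => hqG (h ▸ hdG)
          exact (hA.ctg hcop hfpf F hFab hFA hr hs hd hrs (Ne.symm hdr) hrp hrq hsp hsq hdp hdq
            T hTa hTt hTr (P : Subgroup G) P.isPGroup' hPa hPt x hx u hu v hv hvd).symm
        · have hv1 : v ∈ (⊥ : Subgroup G) := root_mem ⊥ v d (Nat.card G) hvd
            ((Nat.Prime.coprime_iff_not_dvd hd).2 hdG)
            (by rw [pow_card_eq_one']; exact Subgroup.one_mem _)
          rw [Subgroup.mem_bot] at hv1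
          rw [hv1, one_mul, mul_one]
    have hKnil : Group.IsNilpotent K := by
      haveI : Fact r.Prime := ⟨hr⟩
      have hcard : ∃ e, Nat.card (↥K ⧸ Subgroup.center ↥K) = r ^ e := by
        refine ⟨_, Nat.eq_prime_pow_of_unique_prime_dvd Nat.card_pos.ne' ?_⟩
        intro d hd hdvd
        by_contra hdr
        haveI : Fact d.Prime := ⟨hd⟩
        obtain ⟨yb, hyb⟩ := exists_prime_orderOf_dvd_card' d hdvd
        obtain ⟨y, rfl⟩ := QuotientGroup.mk_surjective yb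
        obtain ⟨k, hk⟩ : ∃ k : ℕ, k = (Nat.card G).factorization d := ⟨_, rfl⟩
        obtain ⟨m, hm⟩ : ∃ m : ℕ, m = Nat.card G / d ^ k := ⟨_, rfl⟩
        have hnm : d ^ k * m = Nat.card G := by
          rw [hm, hk]; exact Nat.ordProj_mul_ordCompl_eq_self (Nat.card G) d
        have hdm : Nat.Coprime d m := by
          rw [hm, hk]; exact Nat.coprime_ordCompl hd Nat.card_pos.ne'
        have hy'd : ((y : G) ^ m) ^ d ^ k = 1 := by
          rw [← pow_mul, mul_comm, hnm]; exact pow_card_eq_one'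
        have hyK := (hKmem (y : G)).1 y.2
        obtain ⟨i, hi⟩ := hTr (y : G) hyK.1
        have hy'F : (y : G) ^ m ∈ F := by
          refine root_mem F _ (d ^ k) (r ^ i) hy'd
            (Nat.Coprime.pow _ _ ((Nat.coprime_primes hd hr).2 hdr)) ?_
          rw [← pow_mul, mul_comm, pow_mul]
          exact F.pow_mem hi m
        have hy'1 : ((y : G) ^ m) ^ d = 1 := hFel d hd _ hy'F k hy'd
        have hy'c : y ^ m ∈ Subgroup.center ↥K := by
          rw [Subgroup.mem_center_iff]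
          intro z
          apply Subtype.ext
          show (z : G) * (y : G) ^ m = (y : G) ^ m * z
          exact (((hKmem (z : G)).1 z.2).2 _ hy'F d hd hdr hy'1).symm
        have h3 : (QuotientGroup.mk y : ↥K ⧸ Subgroup.center ↥K) ^ m = 1 := by
          rw [← QuotientGroup.mk_pow]; exact (QuotientGroup.eq_one_iff _).2 hy'c
        have h4 : d ∣ m := by rw [← hyb]; exact orderOf_dvd_of_pow_eq_one h3
        exact (Nat.Prime.coprime_iff_not_dvd hd).1 hdm h4
      obtain ⟨e, he⟩ := hcard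
      haveI : Group.IsNilpotent (↥K ⧸ Subgroup.center ↥K) := (IsPGroup.of_card he).isNilpotent
      refine Subgroup.isNilpotent_of_ker_le_center (QuotientGroup.mk' (Subgroup.center ↥K)) ?_
      rw [QuotientGroup.ker_mk']
    exact hFmax K hKn hKnil hcK
  have hzp : IsPGroup s (Subgroup.zpowers u) := by
    rintro ⟨_, i, rfl⟩
    refine ⟨j, Subtype.ext ?_⟩
    show (u ^ i) ^ s ^ j = 1
    rw [← zpow_natCast, ← zpow_mul, mul_comm, zpow_mul, zpow_natCast, hu, one_zpow]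
  obtain ⟨Q, hQ⟩ := hzp.exists_le_sylow
  obtain ⟨g, hg⟩ := MulAction.exists_smul_eq G (P : Sylow s G) Q
  have huQ : u ∈ Q := hQ (Subgroup.mem_zpowers u)
  have hu' : g⁻¹ * u * g ∈ P := by
    rw [← hg] at huQ
    have h1 : u ∈ MulAut.conj g • (P : Subgroup G) := huQ
    rw [Subgroup.mem_pointwise_smul_iff_inv_smul_mem] at h1
    have h2 : (MulAut.conj g)⁻¹ • u = g⁻¹ * u * g := by simp
    rw [h2] at h1
    exact h1
  have hx' : g⁻¹ * x * g ∈ T := by
    have := hTn.conj_mem x hx g⁻¹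
    rwa [inv_inv] at this
  have h1 := key _ hx' _ hu'
  have h2 := hFn.conj_mem _ h1 g
  have e : g * (g⁻¹ * x * g * (g⁻¹ * u * g) * (g⁻¹ * x * g)⁻¹ * (g⁻¹ * u * g)⁻¹) * g⁻¹ =
      x * u * x⁻¹ * u⁻¹ := by group
  rw [e] at h2
  exact h2

/-- the Frattini-free case -/
theorem Frob.fratFree [Group.IsSolvable G] (hA : Frob p q a t)
    (hcop : (Nat.card G).Coprime (p * q))
    (hfpf : ∀ g : G, a • g = g → t • g = g → g = 1) (hΦ : frattini G = ⊥) :
    ∃ F : Subgroup G, ∃ hF : F.Normal, Group.IsNilpotent ↥F ∧ Group.IsNilpotent (G ⧸ F) := by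
  classical
  obtain ⟨F, hF⟩ : ∃ F : Subgroup G, F = fittingSubgroup G := ⟨_, rfl⟩
  haveI hFn : F.Normal := by
    rw [hF]; exact Cfsg.Agent.Lib.Helper71.fittingSubgroup_normal
  have hFnil : Group.IsNilpotent F := by
    rw [hF]; exact Cfsg.Agent.Lib.Helper71.fittingSubgroup_isNilpotent
  have hFab := Cfsg.Agent.Lib.Helper90.comm_of_nilpotent_normal_of_frattini_eq_bot hΦ F hFnil
  have hFmax : ∀ C : Subgroup G, C.Normal → Group.IsNilpotent C → C ≤ F := fun C hC hn => by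
    haveI := hC; rw [hF]; exact Cfsg.Agent.Lib.Helper71.le_fittingSubgroup C hn
  have hFe : ∀ e : G ≃* G, ∀ x ∈ F, e x ∈ F := by
    intro e x hx
    have hmapn : (F.map e.toMonoidHom).Normal := hFn.map e.toMonoidHom e.surjective
    have hmapnil : Group.IsNilpotent (F.map e.toMonoidHom) :=
      Group.nilpotent_of_mulEquiv (F.equivMapOfInjective e.toMonoidHom e.injective)
    exact hFmax _ hmapn hmapnil ⟨x, hx, rfl⟩
  have hFA : ∀ x : A, ∀ g ∈ F, x • g ∈ F :=
    fun x g hg => hFe (MulDistribMulAction.toMulAut A G x) g hg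
  have hFel : ∀ d : ℕ, d.Prime → ∀ v ∈ F, ∀ j : ℕ, v ^ d ^ j = 1 → v ^ d = 1 := by
    intro d hd v hv j hvj
    haveI : Fact d.Prime := ⟨hd⟩
    let Pd : Subgroup G :=
      { carrier := {v | v ∈ F ∧ ∃ j : ℕ, v ^ d ^ j = 1}
        mul_mem' := by
          rintro x y ⟨hx, i, hxi⟩ ⟨hy, k, hyk⟩
          refine ⟨F.mul_mem hx hy, i + k, ?_⟩
          have hc : Commute x y := hFab x hx y hy
          rw [hc.mul_pow, pow_add, pow_mul, hxi, one_pow, one_mul, mul_comm, pow_mul, hyk,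
            one_pow]
        one_mem' := ⟨F.one_mem, 0, one_pow _⟩
        inv_mem' := by
          rintro x ⟨hx, i, hxi⟩
          exact ⟨F.inv_mem hx, i, by rw [inv_pow, hxi, inv_one]⟩ }
    haveI hPdn : Pd.Normal := ⟨by
      rintro v ⟨hv, i, hvi⟩ g
      refine ⟨hFn.conj_mem v hv g, i, ?_⟩
      rw [conj_pow, hvi, mul_one, mul_inv_cancel]⟩
    have hPd : IsPGroup d Pd := by
      rintro ⟨v, hv, i, hvi⟩
      exact ⟨i, Subtype.ext hvi⟩
    have h1 := Cfsg.Agent.Lib.Helper90.frattini_map_subtype_le Pd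
    rw [hΦ, le_bot_iff, Subgroup.map_eq_bot_iff_of_injective _ Pd.subtype_injective] at h1
    have h2 := Cfsg.Agent.Lib.Helper1.pow_mem_frattini_of_pGroup d hPd ⟨v, hv, j, hvj⟩
    rw [h1, Subgroup.mem_bot] at h2
    exact congrArg Subtype.val h2
  letI qa : MulDistribMulAction A (G ⧸ F) := Cfsg.Agent.Lib.Helper90.quotientAction F hFA
  haveI : Group.IsSolvable (G ⧸ F) := inferInstance
  refine ⟨F, hFn, hFnil, ?_⟩
  apply nil_of_cores
  intro r s hr hs hrs xb hxb ub ⟨j, hub⟩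
  haveI hchar : (pCore r (G ⧸ F)).Characteristic :=
    Cfsg.Agent.Lib.Helper63.pCore_characteristic' _ _
  haveI hPn : (pCore r (G ⧸ F)).Normal := Subgroup.normal_of_characteristic _
  haveI : Fact r.Prime := ⟨hr⟩
  have hPr := Cfsg.Agent.Lib.Helper63.pCore_isPGroup' r (G ⧸ F)
  obtain ⟨T, hT⟩ : ∃ T : Subgroup G, T = (pCore r (G ⧸ F)).comap (QuotientGroup.mk' F) :=
    ⟨_, rfl⟩
  haveI hTn : T.Normal := by rw [hT]; exact hPn.comap _
  have hTe : ∀ e : G ⧸ F ≃* G ⧸ F, ∀ z ∈ pCore r (G ⧸ F), e z ∈ pCore r (G ⧸ F) := by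
    intro e z hz
    exact Subgroup.characteristic_iff_map_le.1 hchar e ⟨z, hz, rfl⟩
  have hTA : ∀ c : A, ∀ y ∈ T, c • y ∈ T := by
    intro c y hy
    rw [hT] at hy ⊢
    exact hTe (MulDistribMulAction.toMulAut A (G ⧸ F) c) _ hy
  have hTr : ∀ y ∈ T, ∃ j : ℕ, y ^ r ^ j ∈ F := by
    intro y hy
    rw [hT] at hy
    obtain ⟨j, hj⟩ := hPr ⟨QuotientGroup.mk' F y, hy⟩
    refine ⟨j, ?_⟩
    have h1 : (QuotientGroup.mk' F y) ^ (r ^ j) = 1 := congrArg Subtype.val hj
    rw [← map_pow] at h1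
    exact (QuotientGroup.eq_one_iff _).1 h1
  obtain ⟨x, rfl⟩ := QuotientGroup.mk_surjective xb
  obtain ⟨u₀, rfl⟩ := QuotientGroup.mk_surjective ub
  have hxT : x ∈ T := by rw [hT]; exact hxb
  obtain ⟨k, hk⟩ : ∃ k : ℕ, k = (Nat.card G).factorization s := ⟨_, rfl⟩
  obtain ⟨m, hm⟩ : ∃ m : ℕ, m = Nat.card G / s ^ k := ⟨_, rfl⟩
  have hnm : s ^ k * m = Nat.card G := by
    rw [hm, hk]; exact Nat.ordProj_mul_ordCompl_eq_self (Nat.card G) s
  have hsm : Nat.Coprime s m := by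
    rw [hm, hk]; exact Nat.coprime_ordCompl hs Nat.card_pos.ne'
  have hu1 : (u₀ ^ m) ^ s ^ k = 1 := by
    rw [← pow_mul, mul_comm, hnm]; exact pow_card_eq_one'
  have hc := hA.coreI hcop hfpf F hFab hFA hFmax hFel hr hs hrs T (hTA a) (hTA t) hTr x hxT
    (u₀ ^ m) ⟨k, hu1⟩
  have h1 : ((x * u₀ ^ m * x⁻¹ * (u₀ ^ m)⁻¹ : G) : G ⧸ F) = 1 :=
    (QuotientGroup.eq_one_iff _).2 hc
  rw [QuotientGroup.mk_mul, QuotientGroup.mk_mul, QuotientGroup.mk_mul, QuotientGroup.mk_inv,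
    QuotientGroup.mk_inv, QuotientGroup.mk_pow] at h1
  have h2 : (x : G ⧸ F) * (u₀ : G ⧸ F) ^ m = (u₀ : G ⧸ F) ^ m * (x : G ⧸ F) := by
    calc (x : G ⧸ F) * (u₀ : G ⧸ F) ^ m
        = ((x : G ⧸ F) * (u₀ : G ⧸ F) ^ m * (x : G ⧸ F)⁻¹ * ((u₀ : G ⧸ F) ^ m)⁻¹) *
            ((u₀ : G ⧸ F) ^ m * (x : G ⧸ F)) := by group
      _ = (u₀ : G ⧸ F) ^ m * (x : G ⧸ F) := by rw [h1, one_mul]
  have h3 : (u₀ : G ⧸ F) ∈ Subgroup.centralizer {(x : G ⧸ F)} := by
    refine root_mem _ _ (s ^ j) m hub (Nat.Coprime.pow_left _ hsm) ?_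
    rw [Subgroup.mem_centralizer_iff]
    intro z hz
    rw [Set.mem_singleton_iff] at hz
    rw [hz]; exact h2
  exact Subgroup.mem_centralizer_iff.1 h3 _ rfl

end

/-- the induction on the order -/
theorem Frob.mainF {A : Type*} [Group A] [Finite A] {p q : ℕ} {a t : A} (hA : Frob p q a t) :
    ∀ n : ℕ, ∀ (G : Type u) [Group G] [Finite G] [MulDistribMulAction A G],
    Nat.card G ≤ n → Group.IsSolvable G → (Nat.card G).Coprime (p * q) →
    (∀ g : G, a • g = g → t • g = g → g = 1) →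
    ∃ F : Subgroup G, ∃ hF : F.Normal, Group.IsNilpotent ↥F ∧ Group.IsNilpotent (G ⧸ F) := by
  intro n
  induction n with
  | zero =>
    intro G _ _ _ hc
    have := Nat.card_pos (α := G)
    omega
  | succ n ih =>
    intro G _ _ _ hcard hG hcop hfpf
    haveI := hG
    by_cases hΦ : frattini G = ⊥
    · exact hA.fratFree hcop hfpf hΦ
    · obtain ⟨hqG, hpG⟩ := hA.not_dvd hcop
      haveI hΦn : (frattini G).Normal := Subgroup.normal_of_characteristic _
      have hΦA : ∀ x : A, ∀ g ∈ frattini G, x • g ∈ frattini G :=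
        fun x g hg => Cfsg.Agent.Lib.Helper90.smul_mem_frattini x g hg
      letI qa : MulDistribMulAction A (G ⧸ frattini G) :=
        Cfsg.Agent.Lib.Helper90.quotientAction (frattini G) hΦA
      have hcardlt : Nat.card (G ⧸ frattini G) ≤ n := by
        have h1 := Subgroup.card_eq_card_quotient_mul_card_subgroup (frattini G)
        have h2 : 1 < Nat.card (frattini G) := (Subgroup.one_lt_card_iff_ne_bot _).2 hΦ
        have h3 : 0 < Nat.card (G ⧸ frattini G) := Nat.card_pos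
        nlinarith
      have hfpfb : ∀ y : G ⧸ frattini G, a • y = y → t • y = y → y = 1 := by
        intro y
        induction y using QuotientGroup.induction_on with
        | H x =>
          intro h1 h2
          have e1 : x⁻¹ * a • x ∈ frattini G := by
            rw [← QuotientGroup.eq]; exact h1.symm
          have e2 : x⁻¹ * t • x ∈ frattini G := by
            rw [← QuotientGroup.eq]; exact h2.symm
          obtain ⟨k, hk, hk1, hk2⟩ := hA.liftG (frattini G)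
            (fun hd => hqG (hd.trans (Subgroup.card_subgroup_dvd_card _)))
            (fun hd => hpG (hd.trans (Subgroup.card_subgroup_dvd_card _)))
            (hΦA a) (hΦA t) x e1 e2
          have hxk : x * k = 1 := hfpf _ hk1 hk2
          have : x = k⁻¹ := eq_inv_of_mul_eq_one_left hxk
          rw [this]
          exact (QuotientGroup.eq_one_iff _).2 ((frattini G).inv_mem hk)
      obtain ⟨Fb, hFbn, hFbnil, hQnil⟩ := ih (G ⧸ frattini G) hcardlt inferInstance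
        (Nat.Coprime.coprime_dvd_left (Subgroup.card_quotient_dvd_card (frattini G)) hcop) hfpfb
      obtain ⟨ψ, hψ⟩ : ∃ ψ : G →* (G ⧸ frattini G) ⧸ Fb,
          ψ = (QuotientGroup.mk' Fb).comp (QuotientGroup.mk' (frattini G)) := ⟨_, rfl⟩
      have hψs : Function.Surjective ψ := by
        rw [hψ]
        exact (QuotientGroup.mk'_surjective Fb).comp (QuotientGroup.mk'_surjective (frattini G))
      have hker : ψ.ker = Fb.comap (QuotientGroup.mk' (frattini G)) := by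
        rw [hψ, ← MonoidHom.comap_ker, QuotientGroup.ker_mk']
      have hΦle : frattini G ≤ ψ.ker := by
        rw [hker]
        intro x hx
        rw [Subgroup.mem_comap, QuotientGroup.mk'_apply, (QuotientGroup.eq_one_iff x).2 hx]
        exact Fb.one_mem
      have hmap : ψ.ker.map (QuotientGroup.mk' (frattini G)) = Fb := by
        rw [hker]
        exact Subgroup.map_comap_eq_self_of_surjective (QuotientGroup.mk'_surjective _) Fb
      have hNnil : Group.IsNilpotent ψ.ker := by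
        apply Cfsg.Agent.S0070.nilpotent_of_frattini_quotient ψ.ker hΦle
        rw [hmap]; exact hFbnil
      refine ⟨ψ.ker, MonoidHom.normal_ker ψ, hNnil, ?_⟩
      haveI := hQnil
      exact Group.nilpotent_of_mulEquiv (QuotientGroup.quotientKerEquivOfSurjective ψ hψs).symm

end Cfsg.Agent.Lib.Helper63.Fpq
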