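import Mathlib
import Cfsg.Agent.Lib.Helper63.FpqTop4

set_option autoImplicit false

namespace Cfsg.Agent.Lib.Helper63.Fpq

theorem minFac_mul_of_lt {p q : ℕ} (hp : p.Prime) (hq : q.Prime) (hlt : p < q) :
    (p * q).minFac = p := by
  have h1 : (p * q).minFac ≤ p := Nat.minFac_le_of_dvd hp.two_le (dvd_mul_right p q)
  have h2 : (p * q).minFac.Prime := Nat.minFac_prime (by
    have := hp.two_le; have := hq.two_le; nlinarith)
  have h3 : (p * q).minFac ∣ p * q := Nat.minFac_dvd _
  rcases (Nat.Prime.dvd_mul h2).1 h3 with h | h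
  · exact (Nat.prime_dvd_prime_iff_eq h2 hp).1 h
  · have := (Nat.prime_dvd_prime_iff_eq h2 hq).1 h
    omega

/-- a nonabelian group of order `p q` with `p < q` has generators satisfying the Frobenius
relations -/
theorem exists_frob {A : Type*} [Group A] [Finite A] (p q : ℕ) (hp : p.Prime) (hq : q.Prime)
    (hlt : p < q) (hA : Nat.card A = p * q) (hAna : ¬ IsMulCommutative A) :
    ∃ a t : A, Frob p q a t ∧ Subgroup.closure {a, t} = ⊤ := by
  classical
  haveI : Fact p.Prime := ⟨hp⟩
  haveI : Fact q.Prime := ⟨hq⟩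
  obtain ⟨a, ha⟩ := exists_prime_orderOf_dvd_card' (G := A) q (by rw [hA]; exact dvd_mul_left q p)
  obtain ⟨t, ht⟩ := exists_prime_orderOf_dvd_card' (G := A) p (by rw [hA]; exact dvd_mul_right p q)
  have haq : a ^ q = 1 := by rw [← ha]; exact pow_orderOf_eq_one a
  have htp : t ^ p = 1 := by rw [← ht]; exact pow_orderOf_eq_one t
  have hcardQ : Nat.card (Subgroup.zpowers a) = q := by rw [Nat.card_zpowers, ha]
  have hcardT : Nat.card (Subgroup.zpowers t) = p := by rw [Nat.card_zpowers, ht]
  have hidx : (Subgroup.zpowers a).index = p := by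
    have h1 := Subgroup.card_mul_index (Subgroup.zpowers a)
    rw [hcardQ, hA, mul_comm] at h1
    exact Nat.eq_of_mul_eq_mul_right hq.pos h1
  haveI hQn : (Subgroup.zpowers a).Normal := by
    apply Subgroup.normal_of_index_eq_minFac_card
    rw [hidx, hA, minFac_mul_of_lt hp hq hlt]
  have hnrm : t * a * t⁻¹ ∈ Subgroup.zpowers a := hQn.conj_mem a (Subgroup.mem_zpowers a) t
  have hcl : Subgroup.closure {a, t} = ⊤ := by
    apply Subgroup.eq_top_of_card_eq
    have h1 : q ∣ Nat.card (Subgroup.closure {a, t}) := by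
      rw [← hcardQ]
      apply Subgroup.card_dvd_of_le
      rw [Subgroup.zpowers_le]
      exact Subgroup.subset_closure (by simp)
    have h2 : p ∣ Nat.card (Subgroup.closure {a, t}) := by
      rw [← hcardT]
      apply Subgroup.card_dvd_of_le
      rw [Subgroup.zpowers_le]
      exact Subgroup.subset_closure (by simp)
    have h3 : p * q ∣ Nat.card (Subgroup.closure {a, t}) :=
      Nat.Coprime.mul_dvd_of_dvd_of_dvd ((Nat.coprime_primes hp hq).2 hlt.ne) h2 h1
    rw [← hA] at h3
    exact Nat.dvd_antisymm (Subgroup.card_subgroup_dvd_card _) h3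
  have hne : t * a * t⁻¹ ≠ a := by
    intro h
    apply hAna
    have hcomm : a * t = t * a := by
      calc a * t = (t * a * t⁻¹) * t := by rw [h]
        _ = t * a := by group
    have hca : Subgroup.closure {a, t} ≤ Subgroup.centralizer {a} := by
      rw [Subgroup.closure_le]
      intro x hx
      rw [SetLike.mem_coe, Subgroup.mem_centralizer_iff]
      intro y hy
      rw [Set.mem_singleton_iff] at hy
      rw [hy]
      rcases hx with rfl | rfl
      · rfl
      · exact hcomm
    have hct : Subgroup.closure {a, t} ≤ Subgroup.centralizer {t} := by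
      rw [Subgroup.closure_le]
      intro x hx
      rw [SetLike.mem_coe, Subgroup.mem_centralizer_iff]
      intro y hy
      rw [Set.mem_singleton_iff] at hy
      rw [hy]
      rcases hx with rfl | rfl
      · exact hcomm.symm
      · rfl
    rw [hcl] at hca hct
    have hcen : Subgroup.closure {a, t} ≤ Subgroup.center A := by
      rw [Subgroup.closure_le]
      intro x hx
      rw [SetLike.mem_coe, Subgroup.mem_center_iff]
      intro g
      rcases hx with rfl | rfl
      · exact (Subgroup.mem_centralizer_iff.1 (hca (Subgroup.mem_top g)) _ rfl).symm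
      · exact (Subgroup.mem_centralizer_iff.1 (hct (Subgroup.mem_top g)) _ rfl).symm
    rw [hcl] at hcen
    exact ⟨⟨fun x y => Subgroup.mem_center_iff.mp (hcen (Subgroup.mem_top y)) x⟩⟩
  have hc : t * a * t⁻¹ * a⁻¹ ∈ Subgroup.zpowers a :=
    Subgroup.mul_mem _ hnrm (Subgroup.inv_mem _ (Subgroup.mem_zpowers a))
  have hc1 : t * a * t⁻¹ * a⁻¹ ≠ 1 := fun h => hne (mul_inv_eq_one.1 h)
  have hgen : a ∈ Subgroup.zpowers (t * a * t⁻¹ * a⁻¹) := by
    have hne' : (⟨_, hc⟩ : Subgroup.zpowers a) ≠ 1 := fun h1 => hc1 (congrArg Subtype.val h1)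
    have htop := zpowers_eq_top_of_prime_card hcardQ hne'
    have hmem : (⟨a, Subgroup.mem_zpowers a⟩ : Subgroup.zpowers a) ∈
        Subgroup.zpowers (⟨_, hc⟩ : Subgroup.zpowers a) := by rw [htop]; trivial
    obtain ⟨n, hn⟩ := Subgroup.mem_zpowers_iff.1 hmem
    rw [Subgroup.mem_zpowers_iff]
    refine ⟨n, ?_⟩
    have := congrArg Subtype.val hn
    simpa using this
  have hdiv : p ∣ q - 1 := by
    obtain ⟨j, hj⟩ : ∃ j : ℕ, a ^ j = t * a * t⁻¹ := by
      have h1 : t * a * t⁻¹ ∈ Submonoid.powers a := (mem_powers_iff_mem_zpowers).2 hnrm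
      exact h1
    have hiter : ∀ k : ℕ, t ^ k * a * (t ^ k)⁻¹ = a ^ (j ^ k) := by
      intro k
      induction k with
      | zero => simp
      | succ k ih =>
        have e : t ^ (k + 1) * a * (t ^ (k + 1))⁻¹ = t * (t ^ k * a * (t ^ k)⁻¹) * t⁻¹ := by
          rw [pow_succ']; group
        rw [e, ih, ← conj_pow, ← hj, ← pow_mul, pow_succ']
    have h1 := hiter p
    rw [htp, one_mul, inv_one, mul_one] at h1
    have h2 : j ^ p ≡ 1 [MOD q] := by
      rw [← ha, ← pow_eq_pow_iff_modEq, ← h1, pow_one]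
    have h3 : ¬ j ≡ 1 [MOD q] := by
      rw [← ha, ← pow_eq_pow_iff_modEq, pow_one, hj]
      exact hne
    have h4 : ((j : ZMod q)) ^ p = 1 := by
      have := (ZMod.natCast_eq_natCast_iff _ _ _).2 h2
      simpa using this
    have h5 : (j : ZMod q) ≠ 1 := by
      intro h
      apply h3
      have h' : ((j : ℕ) : ZMod q) = ((1 : ℕ) : ZMod q) := by simpa using h
      exact (ZMod.natCast_eq_natCast_iff _ _ _).1 h'
    have h6 : (j : ZMod q) ≠ 0 := by
      intro h
      rw [h, zero_pow hp.ne_zero] at h4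
      exact zero_ne_one h4
    have h7 : orderOf (j : ZMod q) = p := by
      have hd : orderOf (j : ZMod q) ∣ p := orderOf_dvd_of_pow_eq_one h4
      rcases (Nat.dvd_prime hp).1 hd with h | h
      · exact absurd (orderOf_eq_one_iff.1 h) h5
      · exact h
    rw [← h7]
    exact orderOf_dvd_of_pow_eq_one (ZMod.pow_card_sub_one_eq_one h6)
  exact ⟨a, t, ⟨hp, hq, hdiv, haq, htp, hnrm, hgen⟩, hcl⟩

/-- the Fitting height of a finite solvable group with a fixed-point-free coprime action of a
nonabelian group of order `p q` is at most two -/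
theorem fpq_main {G A : Type*} [Group G] [Finite G] [Group.IsSolvable G] [Group A] [Finite A]
    [MulDistribMulAction A G] (p q : ℕ) (hp : p.Prime) (hq : q.Prime) (hlt : p < q)
    (hA : Nat.card A = p * q) (hAna : ¬ IsMulCommutative A)
    (hcop : (Nat.card G).Coprime (p * q))
    (hfpf : ∀ g : G, (∀ a : A, a • g = g) → g = 1) :
    ∃ F : Subgroup G, ∃ hF : F.Normal, Group.IsNilpotent ↥F ∧ Group.IsNilpotent (G ⧸ F) := by
  obtain ⟨a, t, hfr, hcl⟩ := exists_frob p q hp hq hlt hA hAna
  refine hfr.mainF (Nat.card G) G le_rfl inferInstance hcop ?_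
  intro g hag htg
  apply hfpf
  intro x
  have hle : Subgroup.closure {a, t} ≤ MulAction.stabilizer A g := by
    rw [Subgroup.closure_le]
    intro y hy
    rcases hy with rfl | rfl
    · exact hag
    · exact htg
  rw [hcl] at hle
  exact hle (Subgroup.mem_top x)

end Cfsg.Agent.Lib.Helper63.Fpq
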