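import Mathlib

/-!
# Irreducible modules for one operator over `ZMod q` (helper63)

* `card_eq_pow_of_irreducible`: if `T` is a linear operator on a finite nonzero `ZMod q`-space `V`
  with no proper nonzero invariant subspace and `T ^ (q ^ e) = T`, then `#V = q ^ d` with `d ∣ e`.
-/

set_option autoImplicit false

namespace Cfsg.Agent.Lib.Helper63

open Polynomial

theorem card_eq_pow_of_irreducible {q : ℕ} [Fact q.Prime] {V : Type*} [AddCommGroup V]
    [Module (ZMod q) V] [Finite V] [Nontrivial V] (T : V →ₗ[ZMod q] V)
    (hirr : ∀ W : Submodule (ZMod q) V, (∀ w ∈ W, T w ∈ W) → W = ⊥ ∨ W = ⊤)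
    (e : ℕ) (he : e ≠ 0) (hT : T ^ (q ^ e) = T) : ∃ d, d ∣ e ∧ Nat.card V = q ^ d := by
  classical
  have hq : q.Prime := Fact.out
  obtain ⟨v, hv⟩ := exists_ne (0 : V)
  let ev : (ZMod q)[X] →ₗ[ZMod q] V :=
    (LinearMap.applyₗ v).comp (Polynomial.aeval T).toLinearMap
  have hev : ∀ f, ev f = (Polynomial.aeval T f) v := fun f => rfl
  have hmul : ∀ g f, ev (g * f) = (Polynomial.aeval T g) (ev f) := by
    intro g f
    rw [hev, hev, map_mul, Module.End.mul_apply]
  have hsurj : LinearMap.range ev = ⊤ := by
    have hinv : ∀ w ∈ LinearMap.range ev, T w ∈ LinearMap.range ev := by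
      rintro _ ⟨f, rfl⟩
      exact ⟨X * f, by rw [hmul, Polynomial.aeval_X]⟩
    rcases hirr (LinearMap.range ev) hinv with h | h
    · exfalso
      have h1 : v ∈ LinearMap.range ev := ⟨1, by rw [hev, map_one, Module.End.one_apply]⟩
      rw [h, Submodule.mem_bot] at h1
      exact hv h1
    · exact h
  let I : Ideal (ZMod q)[X] :=
    { carrier := {f | ev f = 0}
      add_mem' := by
        intro a b ha hb
        show ev (a + b) = 0
        rw [map_add, ha, hb, add_zero]
      zero_mem' := map_zero ev
      smul_mem' := by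
        intro g f hf
        show ev (g • f) = 0
        rw [smul_eq_mul, hmul, hf, map_zero] }
  have hI : ∀ f, f ∈ I ↔ ev f = 0 := fun f => Iff.rfl
  set m := Submodule.IsPrincipal.generator I with hm
  have hmem : ∀ f, ev f = 0 ↔ m ∣ f := fun f =>
    (hI f).symm.trans (Submodule.IsPrincipal.mem_iff_generator_dvd I)
  have hfrob : ev (X ^ (q ^ e) - X) = 0 := by
    rw [hev, map_sub, map_pow, Polynomial.aeval_X, hT, sub_self, LinearMap.zero_apply]
  have hdvd : m ∣ X ^ (q ^ e) - X := (hmem _).1 hfrob
  have hne : (X ^ (q ^ e) - X : (ZMod q)[X]) ≠ 0 :=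
    FiniteField.X_pow_card_pow_sub_X_ne_zero (ZMod q) he hq.one_lt
  have hm0 : m ≠ 0 := by
    intro h
    rw [h] at hdvd
    exact hne (zero_dvd_iff.1 hdvd)
  have hirrm : Irreducible m := by
    rw [irreducible_iff]
    constructor
    · intro hu
      have h1 : ev 1 = 0 := (hmem 1).2 hu.dvd
      rw [hev, map_one, Module.End.one_apply] at h1
      exact hv h1
    · intro a b hab
      by_contra hcon
      push Not at hcon
      have ha0 : a ≠ 0 := by
        rintro rfl
        rw [zero_mul] at hab
        exact hm0 hab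
      have hb0 : b ≠ 0 := by
        rintro rfl
        rw [mul_zero] at hab
        exact hm0 hab
      have hbv : ev b ≠ 0 := by
        intro h0
        have h1 : a * b ∣ 1 * b := by
          rw [one_mul, ← hab]
          exact (hmem b).1 h0
        exact hcon.1 (isUnit_of_dvd_one ((mul_dvd_mul_iff_right hb0).1 h1))
      have hker : LinearMap.ker (Polynomial.aeval T a) = ⊤ := by
        have hinv : ∀ w ∈ LinearMap.ker (Polynomial.aeval T a),
            T w ∈ LinearMap.ker (Polynomial.aeval T a) := by
          intro w hw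
          rw [LinearMap.mem_ker] at hw ⊢
          have hc : Commute (Polynomial.aeval T a) (Polynomial.aeval T X) :=
            (Commute.all a X).map (Polynomial.aeval T)
          rw [Polynomial.aeval_X] at hc
          have h2 : (Polynomial.aeval T a * T) w = (T * Polynomial.aeval T a) w := by rw [hc.eq]
          rw [Module.End.mul_apply, Module.End.mul_apply, hw, map_zero] at h2
          exact h2
        rcases hirr _ hinv with h | h
        · exfalso
          have h1 : ev b ∈ LinearMap.ker (Polynomial.aeval T a) := by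
            rw [LinearMap.mem_ker, ← hmul, ← hab]
            exact (hmem m).2 dvd_rfl
          rw [h, Submodule.mem_bot] at h1
          exact hbv h1
        · exact h
      have hav : ev a = 0 := by
        rw [hev]
        have h1 : v ∈ LinearMap.ker (Polynomial.aeval T a) := by rw [hker]; trivial
        exact h1
      have h1 : a * b ∣ a * 1 := by
        rw [mul_one, ← hab]
        exact (hmem a).1 hav
      exact hcon.2 (isUnit_of_dvd_one ((mul_dvd_mul_iff_left ha0).1 h1))
  have hdeg : m.natDegree ∣ e := by
    apply hirrm.natDegree_dvd_of_dvd_X_pow_card_pow_sub_X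
    rw [Nat.card_zmod]
    exact hdvd
  refine ⟨m.natDegree, hdeg, ?_⟩
  let evr : Polynomial.degreeLT (ZMod q) m.natDegree →ₗ[ZMod q] V :=
    ev.comp (Submodule.subtype _)
  have hinj : Function.Injective evr := by
    rw [← LinearMap.ker_eq_bot, LinearMap.ker_eq_bot']
    intro f hf
    have h1 : m ∣ (f : (ZMod q)[X]) := (hmem _).1 hf
    by_contra hf0
    have hf0' : (f : (ZMod q)[X]) ≠ 0 := fun h => hf0 (Subtype.ext h)
    have h2 := Polynomial.natDegree_le_of_dvd h1 hf0'
    have h3 : (f : (ZMod q)[X]).degree < m.natDegree := Polynomial.mem_degreeLT.1 f.2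
    have h4 := (Polynomial.natDegree_lt_iff_degree_lt hf0').2 h3
    omega
  have hsurj' : Function.Surjective evr := by
    intro w
    have hw : w ∈ LinearMap.range ev := by rw [hsurj]; trivial
    obtain ⟨g, rfl⟩ := hw
    have hlt : (g % m).degree < m.natDegree := by
      have := Polynomial.degree_mod_lt g hm0
      rwa [Polynomial.degree_eq_natDegree hm0] at this
    refine ⟨⟨g % m, Polynomial.mem_degreeLT.2 hlt⟩, ?_⟩
    show ev (g % m) = ev g
    have h1 : m * (g / m) + g % m = g := EuclideanDomain.div_add_mod g m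
    have h2 : ev (m * (g / m)) = 0 := (hmem _).2 (dvd_mul_right m _)
    conv_rhs => rw [← h1, map_add, h2, zero_add]
  have hcard : Nat.card V = Nat.card (Polynomial.degreeLT (ZMod q) m.natDegree) :=
    (Nat.card_congr (Equiv.ofBijective evr ⟨hinj, hsurj'⟩)).symm
  rw [hcard, Nat.card_congr (Polynomial.degreeLTEquiv (ZMod q) m.natDegree).toEquiv, Nat.card_fun,
    Nat.card_zmod, Nat.card_fin]

end Cfsg.Agent.Lib.Helper63
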