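import Mathlib
import Cfsg.Agent.Lib.Helper63.IrredCyclic

/-!
# Order of an irreducible elementary abelian `q`-group under an automorphism of prime order `p`

* `card_eq_pow_orderOf`: if `A` is a finite nontrivial abelian group of exponent `q`, `φ` a nontrivial
  automorphism with `φ ^ p = 1` and no proper nontrivial `φ`-invariant subgroup, then
  `#A = q ^ (order of q mod p)`.
-/

set_option autoImplicit false

namespace Cfsg.Agent.Lib.Helper63

theorem orderOf_zmod_ne_zero {p q : ℕ} [Fact p.Prime] (hq : q.Prime) (hpq : q ≠ p) :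
    orderOf (q : ZMod p) ≠ 0 := by
  have hp : p.Prime := Fact.out
  have hq0 : (q : ZMod p) ≠ 0 := by
    intro h
    rw [ZMod.natCast_eq_zero_iff] at h
    exact hpq ((Nat.prime_dvd_prime_iff_eq hp hq).1 h).symm
  have h1 := ZMod.pow_card_sub_one_eq_one hq0
  have h2 : 0 < orderOf (q : ZMod p) :=
    orderOf_pos_iff.2 (isOfFinOrder_iff_pow_eq_one.2 ⟨p - 1, by have := hp.two_le; omega, h1⟩)
  omega

theorem card_eq_pow_dvd_of_addHom {q : ℕ} [Fact q.Prime] {V : Type*} [AddCommGroup V]
    [Module (ZMod q) V] [Finite V] [Nontrivial V] (f : V →+ V)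
    (hirr : ∀ W : AddSubgroup V, (∀ w ∈ W, f w ∈ W) → W = ⊥ ∨ W = ⊤)
    (e : ℕ) (he : e ≠ 0) (hf : ∀ v, (f^[q ^ e]) v = f v) : ∃ d, d ∣ e ∧ Nat.card V = q ^ d := by
  let T : V →ₗ[ZMod q] V := AddMonoidHom.toZModLinearMap q f
  have hTapply : ∀ v, T v = f v := fun v => rfl
  have hTpow : ∀ (k : ℕ) (v : V), (T ^ k) v = (f^[k]) v := by
    intro k
    induction k with
    | zero => intro v; simp
    | succ k ih =>
      intro v
      rw [pow_succ, Module.End.mul_apply, hTapply, ih, Function.iterate_succ_apply]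
  have hT : T ^ (q ^ e) = T := by
    apply LinearMap.ext
    intro v
    rw [hTpow, hf, hTapply]
  have hirr' : ∀ W : Submodule (ZMod q) V, (∀ w ∈ W, T w ∈ W) → W = ⊥ ∨ W = ⊤ := by
    intro W hW
    rcases hirr W.toAddSubgroup hW with h | h
    · left
      rw [Submodule.eq_bot_iff]
      intro w hw
      have : w ∈ W.toAddSubgroup := hw
      rw [h, AddSubgroup.mem_bot] at this
      exact this
    · right
      rw [Submodule.eq_top_iff']
      intro w
      have : w ∈ W.toAddSubgroup := by rw [h]; trivial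
      exact this
  exact card_eq_pow_of_irreducible T hirr' e he hT

theorem card_eq_pow_orderOf {A : Type*} [CommGroup A] [Finite A] [Nontrivial A] {p q : ℕ}
    [Fact p.Prime] [Fact q.Prime] (hpq : q ≠ p) (hexp : ∀ a : A, a ^ q = 1) (φ : MulAut A)
    (hφ : φ ^ p = 1) (hφ1 : φ ≠ 1)
    (hirr : ∀ B : Subgroup A, (∀ b ∈ B, φ b ∈ B) → B = ⊥ ∨ B = ⊤) :
    Nat.card A = q ^ orderOf (q : ZMod p) := by
  classical
  have hp : p.Prime := Fact.out
  have hq : q.Prime := Fact.out
  set e := orderOf (q : ZMod p) with he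
  have he0 : e ≠ 0 := orderOf_zmod_ne_zero hq hpq
  have hmod : q ^ e ≡ 1 [MOD p] := by
    rw [← ZMod.natCast_eq_natCast_iff, Nat.cast_pow, Nat.cast_one, he, pow_orderOf_eq_one]
  have hord : orderOf φ = p := by
    have h1 : orderOf φ ∣ p := orderOf_dvd_of_pow_eq_one hφ
    rcases (Nat.dvd_prime hp).1 h1 with h | h
    · exact absurd (orderOf_eq_one_iff.1 h) hφ1
    · exact h
  have hφe : φ ^ (q ^ e) = φ := by
    have : φ ^ (q ^ e) = φ ^ 1 := by
      rw [pow_eq_pow_iff_modEq, hord]; exact hmod
    rw [this, pow_one]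
  have hexp' : ∀ a : Additive A, q • a = 0 := by
    intro a
    show Additive.ofMul ((Additive.toMul a) ^ q) = 0
    rw [hexp]; rfl
  have hiter : ∀ (k : ℕ) (v : Additive A),
      ((MonoidHom.toAdditive φ.toMonoidHom)^[k]) v = Additive.ofMul ((φ ^ k) (Additive.toMul v)) := by
    intro k
    induction k with
    | zero => intro v; rfl
    | succ k ih =>
      intro v
      rw [Function.iterate_succ_apply', ih, pow_succ']
      rfl
  have hirrV : ∀ W : AddSubgroup (Additive A),
      (∀ w ∈ W, (MonoidHom.toAdditive φ.toMonoidHom) w ∈ W) → W = ⊥ ∨ W = ⊤ := by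
    intro W hW
    let B : Subgroup A := AddSubgroup.toSubgroup' W
    have hB : ∀ a : A, a ∈ B ↔ Additive.ofMul a ∈ W := fun a => Iff.rfl
    rcases hirr B (fun b hb => (hB _).2 (hW _ ((hB b).1 hb))) with h | h
    · left
      rw [AddSubgroup.eq_bot_iff_forall]
      intro w hw
      have : Additive.toMul w ∈ B := (hB _).2 hw
      rw [h, Subgroup.mem_bot] at this
      exact congrArg Additive.ofMul this
    · right
      rw [AddSubgroup.eq_top_iff']
      intro w
      have : Additive.toMul w ∈ B := by rw [h]; trivial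
      exact (hB _).1 this
  obtain ⟨d, hde, hcard⟩ := @card_eq_pow_dvd_of_addHom q _ (Additive A) _
    (AddCommGroup.zmodModule hexp') _ _ (MonoidHom.toAdditive φ.toMonoidHom) hirrV e he0
    (by
      intro v
      rw [hiter, hφe]
      rfl)
  have hcardA : Nat.card A = q ^ d := hcard
  -- e ∣ d
  have hfix : ∀ a : A, φ a = a → a = 1 := by
    let C : Subgroup A :=
      { carrier := {a | φ a = a}
        mul_mem' := by
          intro a b ha hb
          show φ (a * b) = a * b
          rw [map_mul, ha, hb]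
        one_mem' := map_one φ
        inv_mem' := by
          intro a ha
          show φ a⁻¹ = a⁻¹
          rw [map_inv, ha] }
    have hC : ∀ a, a ∈ C ↔ φ a = a := fun a => Iff.rfl
    rcases hirr C (fun b hb => by rw [hC] at hb ⊢; rw [hb, hb]) with h | h
    · intro a ha
      have : a ∈ C := (hC a).2 ha
      rw [h, Subgroup.mem_bot] at this
      exact this
    · exfalso
      apply hφ1
      ext a
      have : a ∈ C := by rw [h]; trivial
      exact (hC a).1 this
  have hZ : IsPGroup p (Subgroup.zpowers φ) := by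
    apply IsPGroup.of_card (n := 1)
    rw [Nat.card_zpowers, hord, pow_one]
  have hcong := hZ.card_modEq_card_fixedPoints A
  have hfp : Nat.card (MulAction.fixedPoints (Subgroup.zpowers φ) A) = 1 := by
    rw [Nat.card_eq_one_iff_unique]
    constructor
    · constructor
      rintro ⟨a, ha⟩ ⟨b, hb⟩
      apply Subtype.ext
      show a = b
      have h1 : φ a = a := ha ⟨φ, Subgroup.mem_zpowers φ⟩
      have h2 : φ b = b := hb ⟨φ, Subgroup.mem_zpowers φ⟩
      rw [hfix a h1, hfix b h2]
    · refine ⟨⟨1, ?_⟩⟩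
      intro z
      show (z : MulAut A) (1 : A) = 1
      exact map_one _
  rw [hfp, hcardA] at hcong
  have hpow : (q : ZMod p) ^ d = 1 := by
    have := (ZMod.natCast_eq_natCast_iff _ _ _).2 hcong
    rwa [Nat.cast_pow, Nat.cast_one] at this
  have hed : e ∣ d := orderOf_dvd_of_pow_eq_one hpow
  rw [hcardA, Nat.dvd_antisymm hde hed]

end Cfsg.Agent.Lib.Helper63
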