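import Mathlib
import Cfsg.Agent.Lib.Helper63.FpqCT
import Cfsg.Agent.Lib.Helper63.SGCount

set_option autoImplicit false

namespace Cfsg.Agent.Lib.Helper63.SG

open Cfsg.Agent.Lib.Helper63.S3A
open Cfsg.Agent.Lib.Helper63.Fpq

universe u

/-- a self-map of prime power order on a finite set of size prime to `p` has a fixed point -/
theorem iter_fix_pow {X : Type*} [Finite X] (p n : ℕ) [hp : Fact p.Prime] (f : X → X)
    (hf : ∀ x, f^[p ^ n] x = x) (hc : ¬ p ∣ Nat.card X) : ∃ x, f x = x := by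
  classical
  letI : Fintype X := Fintype.ofFinite X
  let F : Function.End X := f
  have hpow : ∀ n : ℕ, ∀ x, (F ^ n) x = f^[n] x := by
    intro n
    induction n with
    | zero => intro x; rfl
    | succ n ih =>
      intro x
      rw [pow_succ, Function.iterate_succ_apply]
      exact ih (f x)
  have hF : F ^ p ^ n = 1 := by
    funext x; rw [hpow]; exact hf x
  have hmod := Equiv.Perm.card_fixedPoints_modEq (p := p) (n := n) hF
  by_contra hne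
  rw [not_exists] at hne
  have hempty : IsEmpty (Function.fixedPoints F) := ⟨fun Q => hne Q.1 Q.2⟩
  have h0 : Fintype.card (Function.fixedPoints F) = 0 := Fintype.card_eq_zero
  rw [h0] at hmod
  apply hc
  rw [Nat.card_eq_fintype_card]
  exact (Nat.modEq_zero_iff_dvd).1 hmod

/-- fixed point in an invariant coset, for an endomorphism of prime power order -/
theorem fp_cosetN {K : Type*} [Group K] (p n : ℕ) [Fact p.Prime] (σ : K →* K)
    (hσ : ∀ x, σ^[p ^ n] x = x) (N : Subgroup K) [Finite N] (hcop : ¬ p ∣ Nat.card N)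
    (hN : ∀ k ∈ N, σ k ∈ N) (y : K) (hy : y⁻¹ * σ y ∈ N) :
    ∃ k ∈ N, σ (y * k) = y * k := by
  let f : N → N := fun k => ⟨y⁻¹ * σ (y * k), by
    rw [map_mul, ← mul_assoc]; exact N.mul_mem hy (hN k k.2)⟩
  have hit : ∀ n : ℕ, ∀ k : N, ((f^[n] k : N) : K) = y⁻¹ * σ^[n] (y * k) := by
    intro n
    induction n with
    | zero => intro k; simp
    | succ n ih =>
      intro k
      rw [Function.iterate_succ_apply, ih, Function.iterate_succ_apply]
      show y⁻¹ * σ^[n] (y * (y⁻¹ * σ (y * k))) = _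
      rw [mul_inv_cancel_left]
  obtain ⟨k, hk⟩ := iter_fix_pow p n f (fun k => by
    apply Subtype.ext; rw [hit, hσ]; simp) hcop
  refine ⟨k, k.2, ?_⟩
  have h1 : y⁻¹ * σ (y * k) = k := congrArg Subtype.val hk
  calc σ (y * (k : K)) = y * (y⁻¹ * σ (y * k)) := by group
    _ = y * k := by rw [h1]

/-- fixed point in an invariant coset, for conjugation by an element of prime power order -/
theorem liftN {K : Type*} [Group K] (g : K) (p n : ℕ) (hp : p.Prime) (hg : g ^ p ^ n = 1)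
    (N : Subgroup K) [Finite N] (hNp : ¬ p ∣ Nat.card N) (hN : ∀ k ∈ N, g * k * g⁻¹ ∈ N)
    (y : K) (hy : y⁻¹ * (g * y * g⁻¹) ∈ N) : ∃ k ∈ N, g * (y * k) * g⁻¹ = y * k := by
  haveI : Fact p.Prime := ⟨hp⟩
  exact fp_cosetN p n (MulAut.conj g).toMonoidHom
    (fun x => by rw [cj_iter, hg]; group) N hNp hN y hy

theorem pow_norm {K : Type*} [Group K] (g : K) (N : Subgroup K)
    (hN : ∀ x ∈ N, g * x * g⁻¹ ∈ N) (j : ℕ) : ∀ x ∈ N, g ^ j * x * (g ^ j)⁻¹ ∈ N := by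
  induction j with
  | zero => intro x hx; simpa using hx
  | succ j ih =>
    intro x hx
    have e : g ^ (j + 1) * x * (g ^ (j + 1))⁻¹ = g * (g ^ j * x * (g ^ j)⁻¹) * g⁻¹ := by
      rw [pow_succ']; group
    rw [e]; exact hN _ (ih x hx)

theorem zpowers_pgroup {K : Type*} [Group K] (g : K) (p n : ℕ) (hg : g ^ p ^ n = 1) :
    IsPGroup p (Subgroup.zpowers g) := by
  rintro ⟨_, i, rfl⟩
  refine ⟨n, Subtype.ext ?_⟩
  show (g ^ i) ^ p ^ n = 1
  rw [← zpow_natCast, ← zpow_mul, mul_comm, zpow_mul, zpow_natCast, hg, one_zpow]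

section

variable {W : Type u} [AddCommGroup W] [Finite W]

/-- the configuration: an automorphism `σ` of order dividing `p ^ n` without fixed points on
the module `W` of exponent `ℓ`, normalizing the `r`-group `P` -/
structure SG (ℓ r p n : ℕ) (σ : LAut W) (P : Subgroup (LAut W)) : Prop where
  hℓ : ℓ.Prime
  hr : r.Prime
  hp : p.Prime
  hp2 : p ≠ 2
  hrℓ : r ≠ ℓ
  hrp : r ≠ p
  hℓp : ℓ ≠ p
  hn : 0 < n
  sp : σ ^ p ^ n = 1
  exp : ∀ w : W, ℓ • w = 0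
  fp : ∀ w : W, σ w = w → w = 0
  Pr : IsPGroup r P
  Pσ : ∀ x ∈ P, σ * x * σ⁻¹ ∈ P

variable {ℓ r p n : ℕ} {σ : LAut W} {P : Subgroup (LAut W)}

theorem SG.copW (h : SG ℓ r p n σ P) (N : Subgroup (LAut W)) (hN : N ≤ P) :
    (Nat.card N).Coprime (Nat.card W) := by
  haveI : Fact r.Prime := ⟨h.hr⟩
  obtain ⟨k, hk⟩ := card_W h.hℓ h.exp
  obtain ⟨i, hi⟩ := (h.Pr.to_le hN).exists_card_eq
  rw [hk, hi]
  exact Nat.Coprime.pow _ _ ((Nat.coprime_primes h.hr h.hℓ).2 h.hrℓ)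

theorem SG.rW (h : SG ℓ r p n σ P) : r.Coprime (Nat.card W) := by
  obtain ⟨k, hk⟩ := card_W h.hℓ h.exp
  rw [hk]
  exact Nat.Coprime.pow_right _ ((Nat.coprime_primes h.hr h.hℓ).2 h.hrℓ)

theorem SG.notp (h : SG ℓ r p n σ P) (N : Subgroup (LAut W)) (hN : N ≤ P) :
    ¬ p ∣ Nat.card N :=
  not_dvd_pgroup h.hr h.hp h.hrp N (h.Pr.to_le hN)

theorem SG.Ppow (h : SG ℓ r p n σ P) (j : ℕ) : ∀ x ∈ P, σ ^ j * x * (σ ^ j)⁻¹ ∈ P :=
  pow_norm σ P h.Pσ j

theorem SG.psi_pow (h : SG ℓ r p n σ P) : (σ ^ p ^ (n - 1)) ^ p = 1 := by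
  rw [← pow_mul, ← pow_succ, Nat.sub_add_cancel h.hn, h.sp]

theorem SG.psi_comm (_h : SG ℓ r p n σ P) : σ * σ ^ p ^ (n - 1) = σ ^ p ^ (n - 1) * σ :=
  ((Commute.refl σ).pow_right _).eq

/-- the restriction of a configuration to an invariant subgroup of the module, for a power
of the automorphism -/
theorem SG.res (h : SG ℓ r p n σ P) (U : AddSubgroup W) (t : LAut W) (n' : ℕ) (hn' : 0 < n')
    (ht : t ^ p ^ n' = 1) (htU : t ∈ stabU U) (hfix : ∀ w ∈ U, t w = w → w = 0)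
    (Q : Subgroup (LAut W)) (hQP : Q ≤ P) (hQt : ∀ x ∈ Q, t * x * t⁻¹ ∈ Q) :
    SG ℓ r p n' (resHom U ⟨t, htU⟩) (img U Q) :=
  { hℓ := h.hℓ, hr := h.hr, hp := h.hp, hp2 := h.hp2, hrℓ := h.hrℓ, hrp := h.hrp, hℓp := h.hℓp
    hn := hn'
    sp := by
      rw [← map_pow]
      have e : (⟨t, htU⟩ : stabU U) ^ p ^ n' = 1 := Subtype.ext ht
      rw [e, map_one]
    exp := fun w => Subtype.ext (h.exp w)
    fp := by
      intro w hw
      have h1 : t (w : W) = w := congrArg Subtype.val hw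
      exact Subtype.ext (hfix _ w.2 h1)
    Pr := ((h.Pr.to_le hQP).comap_subtype).map _
    Pσ := img_conj ⟨t, htU⟩ hQt }

/-- fixed points of the restricted group lift -/
theorem SG.img_fpf (h : SG ℓ r p n σ P) (U : AddSubgroup W) (t : LAut W) (n' : ℕ)
    (ht : t ^ p ^ n' = 1) (htU : t ∈ stabU U)
    (Q : Subgroup (LAut W)) (hQP : Q ≤ P) (hQt : ∀ x ∈ Q, t * x * t⁻¹ ∈ Q)
    (hQfp : ∀ x ∈ Q, t * x * t⁻¹ = x → x = 1) :
    ∀ y ∈ img U Q, resHom U ⟨t, htU⟩ * y * (resHom U ⟨t, htU⟩)⁻¹ = y → y = 1 := by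
  intro y hy hyt
  obtain ⟨x, hx, rfl⟩ := mem_img.1 hy
  rw [← map_inv, ← map_mul, ← map_mul] at hyt
  have h1 : (x : LAut W)⁻¹ * (t * x * t⁻¹) ∈ Q ⊓ fixer U := by
    refine ⟨Q.mul_mem (Q.inv_mem hx) (hQt _ hx), ?_⟩
    intro w hw
    have h3 := congrArg (fun e : LAut U => ((e ⟨w, hw⟩ : U) : W)) hyt
    have h4 : (t * x * t⁻¹) w = (x : LAut W) w := h3
    show (x : LAut W)⁻¹ ((t * x * t⁻¹) w) = w
    rw [h4, inv_app]
  obtain ⟨k, hk, hk1⟩ := liftN t p n' h.hp ht (Q ⊓ fixer U)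
    (h.notp _ (inf_le_left.trans hQP))
    (fun k hk => ⟨hQt k hk.1, fixer_conj htU hk.2⟩) x h1
  have h3 : (x : LAut W) * k = 1 := hQfp _ (Q.mul_mem hx hk.1) hk1
  have h4 : (x : LAut W) = k⁻¹ := eq_inv_of_mul_eq_one_left h3
  apply res_eq_one
  rw [h4]; exact Subgroup.inv_mem _ hk.2

end

section

variable {W : Type u} [AddCommGroup W] [Finite W]

/-- the span of the fixed spaces of a family -/
def WpF (Fam : Subgroup (LAut W) → Prop) : AddSubgroup W :=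
  ⨆ (Y : Subgroup (LAut W)) (_ : Fam Y), FixSp Y

/-- the common kernel of the traces of a family -/
def UzF (Fam : Subgroup (LAut W) → Prop) : AddSubgroup W where
  carrier := {w | ∀ Y, Fam Y → trY Y w = 0}
  add_mem' := by
    intro v w hv hw Y hY
    rw [map_add, hv Y hY, hw Y hY, add_zero]
  zero_mem' := fun Y _ => map_zero _
  neg_mem' := by
    intro v hv Y hY
    rw [map_neg, hv Y hY, neg_zero]

variable {Fam : Subgroup (LAut W) → Prop}

theorem le_WpF {Y : Subgroup (LAut W)} (hY : Fam Y) : FixSp Y ≤ WpF Fam :=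
  le_iSup₂ (f := fun (Y : Subgroup (LAut W)) (_ : Fam Y) => FixSp Y) Y hY

theorem WpF_inv (g : LAut W) (hg : ∀ Y, Fam Y → Fam (cjS g Y)) : ∀ w ∈ WpF Fam, g w ∈ WpF Fam := by
  have h1 : WpF Fam ≤ (WpF Fam).comap (g.toLinearMap.toAddMonoidHom) := by
    refine iSup₂_le (fun Y hY => ?_)
    intro w hw
    show g w ∈ WpF Fam
    exact le_WpF (hg Y hY) (FixSp_cjS' hw)
  exact fun w hw => h1 hw

theorem UzF_inv (g : LAut W) (hg : ∀ Y, Fam Y → Fam (cjS g Y)) : ∀ w ∈ UzF Fam, g w ∈ UzF Fam := by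
  intro w hw Y hY
  have h1 := P_inv Fam g hg Y hY
  have h2 := trY_cjS (cjS g⁻¹ Y) g w
  rw [cjS_cjS_inv, hw _ h1, map_zero] at h2
  exact h2.symm

theorem WpF_add_UzF {Z : Subgroup (LAut W)} (hZab : ∀ x ∈ Z, ∀ y ∈ Z, x * y = y * x)
    (hPmax : ∀ Y, Fam Y → MaxFix Z Y) (hcopZ : (Nat.card Z).Coprime (Nat.card W)) :
    ∀ w : W, ∃ w₁ ∈ WpF Fam, ∃ w₂ ∈ UzF Fam, w = w₁ + w₂ := by
  classical
  intro w
  set n := Nat.card Z with hn
  haveI : Fintype (Subgroup (LAut W)) := Fintype.ofFinite _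
  let F : Finset (Subgroup (LAut W)) := Finset.univ.filter Fam
  have hF : ∀ Y, Y ∈ F ↔ Fam Y := fun Y => by simp [F]
  let v : W := ∑ Y ∈ F, (n / Nat.card Y) • trY Y w
  have hv : v ∈ WpF Fam :=
    AddSubgroup.sum_mem _ (fun Y hY =>
      AddSubgroup.nsmul_mem _ (le_WpF ((hF Y).1 hY) (trY_mem_FixSp Y w)) _)
  have hu : n • w - v ∈ UzF Fam := by
    intro Y₀ hY₀
    rw [map_sub, map_nsmul, map_sum]
    rw [Finset.sum_eq_single Y₀]
    · rw [map_nsmul, trY_of_fix Y₀ _ (trY_mem_FixSp Y₀ w), smul_smul,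
        Nat.div_mul_cancel (Subgroup.card_dvd_of_le (hPmax Y₀ hY₀).1), sub_self]
    · intro Y hY hne
      rw [map_nsmul, ort hZab (hPmax Y ((hF Y).1 hY)) (hPmax Y₀ hY₀) hne.symm _
        (trY_mem_FixSp Y w), smul_zero]
    · intro hnot
      exact absurd ((hF Y₀).2 hY₀) hnot
  have hmem : n • w ∈ WpF Fam ⊔ UzF Fam := by
    have e : n • w = v + (n • w - v) := by abel
    rw [e]
    exact AddSubgroup.add_mem _ (AddSubgroup.mem_sup_left hv) (AddSubgroup.mem_sup_right hu)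
  have h2 := mem_of_nsmul (WpF Fam ⊔ UzF Fam) n hcopZ w hmem
  obtain ⟨w₁, h1, w₂, h2, e⟩ := AddSubgroup.mem_sup.1 h2
  exact ⟨w₁, h1, w₂, h2, e.symm⟩

theorem UzF_ne_top {Z : Subgroup (LAut W)} (hPmax : ∀ Y, Fam Y → MaxFix Z Y) (hPne : ∃ Y, Fam Y)
    (hcopZ : (Nat.card Z).Coprime (Nat.card W)) : UzF Fam ≠ ⊤ := by
  obtain ⟨Y₀, hY₀⟩ := hPne
  intro htop
  apply (hPmax Y₀ hY₀).2.1
  rw [eq_bot_iff]
  intro w hw
  have h1 : w ∈ UzF Fam := by rw [htop]; trivial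
  have h2 := h1 Y₀ hY₀
  rw [trY_of_fix Y₀ w hw] at h2
  rw [AddSubgroup.mem_bot]
  exact eq_zero_of_nsmul _
    (Nat.Coprime.coprime_dvd_left (Subgroup.card_dvd_of_le (hPmax Y₀ hY₀).1) hcopZ) w h2

end

end Cfsg.Agent.Lib.Helper63.SG
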