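import Mathlib
import Cfsg.Agent.Lib.Helper63.SGBase

set_option autoImplicit false

namespace Cfsg.Agent.Lib.Helper63.SG

open Cfsg.Agent.Lib.Helper63.S3A
open Cfsg.Agent.Lib.Helper63.Fpq

universe u

section

variable {W : Type u} [AddCommGroup W] [Finite W]
variable {ℓ r p n : ℕ} {σ : LAut W} {P : Subgroup (LAut W)}

theorem cjS_pow_mul (g : LAut W) (Y : Subgroup (LAut W)) (m : ℕ) (hm : cjS (g ^ m) Y = Y)
    (q : ℕ) : cjS (g ^ (m * q)) Y = Y := by
  induction q with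
  | zero => rw [Nat.mul_zero, pow_zero, cjS_one]
  | succ q ih => rw [Nat.mul_succ, pow_add, cjS_mul, hm, ih]

/-- the period of a subgroup under conjugation by the powers of `σ` -/
theorem exists_period (h : SG ℓ r p n σ P) (Y : Subgroup (LAut W)) :
    ∃ k, k ≤ n ∧ cjS (σ ^ p ^ k) Y = Y ∧ ∀ i, 0 < i → i < p ^ k → cjS (σ ^ i) Y ≠ Y := by
  classical
  have hex : ∃ m, 0 < m ∧ cjS (σ ^ m) Y = Y :=
    ⟨p ^ n, pow_pos h.hp.pos n, by rw [h.sp, cjS_one]⟩
  obtain ⟨hm0, hm⟩ := Nat.find_spec hex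
  have hmin : ∀ i, 0 < i → i < Nat.find hex → cjS (σ ^ i) Y ≠ Y := fun i hi hlt heq =>
    Nat.find_min hex hlt ⟨hi, heq⟩
  have hdvd : Nat.find hex ∣ p ^ n := by
    rw [Nat.dvd_iff_mod_eq_zero]
    by_contra hne
    have hpos : 0 < p ^ n % Nat.find hex := Nat.pos_of_ne_zero hne
    have hlt : p ^ n % Nat.find hex < Nat.find hex := Nat.mod_lt _ hm0
    apply hmin _ hpos hlt
    have e : p ^ n = p ^ n % Nat.find hex + Nat.find hex * (p ^ n / Nat.find hex) :=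
      (Nat.mod_add_div _ _).symm
    have h1 : cjS (σ ^ p ^ n) Y = Y := by rw [h.sp, cjS_one]
    rw [e, pow_add, cjS_mul, cjS_pow_mul σ Y _ hm] at h1
    exact h1
  obtain ⟨k, hk, hkm⟩ := (Nat.dvd_prime_pow h.hp).1 hdvd
  refine ⟨k, hk, ?_, ?_⟩
  · rw [← hkm]; exact hm
  · rw [← hkm]; exact hmin

/-- a power of `σ` stabilizing a fixed space, of exponent the period, has no fixed points on
it -/
theorem orbit_fix (h : SG ℓ r p n σ P) {Z Y : Subgroup (LAut W)} (hZP : Z ≤ P)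
    (hZab : ∀ x ∈ Z, ∀ y ∈ Z, x * y = y * x) (hZσ : ∀ z ∈ Z, σ * z * σ⁻¹ ∈ Z)
    (hY : MaxFix Z Y) (m : ℕ) (hm : 0 < m) (hper : ∀ i, 0 < i → i < m → cjS (σ ^ i) Y ≠ Y) :
    ∀ u ∈ FixSp Y, (σ ^ m) u = u → u = 0 := by
  intro u hu hfix
  have hσv : σ (T m σ u) = T m σ u := by
    unfold T
    rw [map_sum]
    have h0 : ∀ i, σ ((σ ^ i) u) = (σ ^ (i + 1)) u := fun i => by rw [pow_succ']; rfl
    simp only [h0]
    have h1 := Finset.sum_range_succ' (fun i => (σ ^ i) u) m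
    have h2 := Finset.sum_range_succ (fun i => (σ ^ i) u) m
    rw [h1] at h2
    simp only [pow_zero, one_app] at h2
    rw [hfix] at h2
    exact add_right_cancel h2
  have hv : T m σ u = 0 := h.fp _ hσv
  have h3 : trY Y (T m σ u) = Nat.card Y • u := by
    unfold T
    rw [map_sum, Finset.sum_eq_single 0]
    · rw [pow_zero, one_app, trY_of_fix Y u hu]
    · intro i hi hi0
      have hi' : 0 < i := Nat.pos_of_ne_zero hi0
      have hmax : MaxFix Z (cjS (σ ^ i) Y) := hY.conj (σ ^ i) (pow_norm σ Z hZσ i)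
      exact ort hZab hmax hY (Ne.symm (hper i hi' (Finset.mem_range.1 hi))) _ (FixSp_cjS' hu)
    · intro h0
      exact absurd (Finset.mem_range.2 hm) h0
  rw [hv, map_zero] at h3
  exact eq_zero_of_nsmul _ (h.copW Y (hY.1.trans hZP)) u h3.symm

theorem period_lt (h : SG ℓ r p n σ P) {Z Y : Subgroup (LAut W)} (hZP : Z ≤ P)
    (hZab : ∀ x ∈ Z, ∀ y ∈ Z, x * y = y * x) (hZσ : ∀ z ∈ Z, σ * z * σ⁻¹ ∈ Z)
    (hY : MaxFix Z Y) (k : ℕ) (hk : k ≤ n)
    (hper : ∀ i, 0 < i → i < p ^ k → cjS (σ ^ i) Y ≠ Y) : k < n := by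
  by_contra hlt
  have hkn : k = n := le_antisymm hk (not_lt.1 hlt)
  apply hY.2.1
  rw [eq_bot_iff]
  intro u hu
  rw [AddSubgroup.mem_bot]
  apply orbit_fix h hZP hZab hZσ hY (p ^ k) (pow_pos h.hp.pos k) hper u hu
  rw [hkn, h.sp]; rfl

end

/-- the Frobenius sum argument -/
theorem frob_sum {U : Type u} [AddCommGroup U] [Finite U] (x t : LAut U) (r q : ℕ)
    (hr : r.Prime) (hq : 0 < q)
    (hcop : r.Coprime (Nat.card U)) (hxr : x ^ r = 1) (hx : ∀ u, x u = u → u = 0)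
    (htq : t ^ q = 1) (ht : ∀ u, t u = u → u = 0)
    (hact : ∀ i, 0 < i → i < q → ∃ c : ℕ, t ^ i * x * (t ^ i)⁻¹ = x ^ c ∧ x ^ c ≠ x) :
    ∀ u : U, u = 0 := by
  intro u
  have hT : ∀ v, T q t v = 0 := fun v => ht _ (T_fix q t htq v)
  have h0 : ∑ a ∈ Finset.range r, (x ^ a) (T q t ((x ^ a)⁻¹ u)) = 0 :=
    Finset.sum_eq_zero (fun a _ => by rw [hT, map_zero])
  have hswap : ∑ a ∈ Finset.range r, (x ^ a) (T q t ((x ^ a)⁻¹ u)) =
      ∑ i ∈ Finset.range q, ∑ a ∈ Finset.range r, (x ^ a * t ^ i * (x ^ a)⁻¹) u := by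
    rw [Finset.sum_comm]
    refine Finset.sum_congr rfl (fun a _ => ?_)
    unfold T
    rw [map_sum]
    rfl
  have hval : ∑ i ∈ Finset.range q, ∑ a ∈ Finset.range r, (x ^ a * t ^ i * (x ^ a)⁻¹) u =
      r • u := by
    rw [Finset.sum_eq_single 0]
    · have e : ∀ a, (x ^ a * t ^ 0 * (x ^ a)⁻¹) u = u := by
        intro a
        rw [pow_zero, mul_one, mul_inv_cancel]; rfl
      simp only [e]
      rw [Finset.sum_const, Finset.card_range]
    · intro i hi hi0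
      obtain ⟨c, hc, hne⟩ := hact i (Nat.pos_of_ne_zero hi0) (Finset.mem_range.1 hi)
      obtain ⟨y, hy⟩ : ∃ y : LAut U, y = x * (x ^ c)⁻¹ := ⟨_, rfl⟩
      have hcomm : Commute x ((x ^ c)⁻¹) := ((Commute.refl x).pow_right c).inv_right
      have hya : ∀ a : ℕ, x ^ a * t ^ i * (x ^ a)⁻¹ = y ^ a * t ^ i := by
        intro a
        have h1 : t ^ i * (x ^ a)⁻¹ * (t ^ i)⁻¹ = ((x ^ c) ^ a)⁻¹ := by
          rw [← hc, conj_pow]; group
        rw [hy, hcomm.mul_pow, inv_pow]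
        calc x ^ a * t ^ i * (x ^ a)⁻¹
            = x ^ a * (t ^ i * (x ^ a)⁻¹ * (t ^ i)⁻¹) * t ^ i := by group
          _ = x ^ a * ((x ^ c) ^ a)⁻¹ * t ^ i := by rw [h1]
      have hsum : ∑ a ∈ Finset.range r, (x ^ a * t ^ i * (x ^ a)⁻¹) u = T r y ((t ^ i) u) := by
        unfold T
        refine Finset.sum_congr rfl (fun a _ => ?_)
        rw [hya]; rfl
      rw [hsum]
      have hxcr : (x ^ c) ^ r = 1 := by rw [← pow_mul, mul_comm, pow_mul, hxr, one_pow]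
      have hyk : y = x ^ (1 + c * (r - 1)) := by
        have h2 : (x ^ c) ^ (r - 1) = (x ^ c)⁻¹ := by
          apply eq_inv_of_mul_eq_one_left
          rw [← pow_succ, Nat.sub_add_cancel hr.pos, hxcr]
        rw [hy, pow_add, pow_one, pow_mul, h2]
      have hyr : y ^ r = 1 := by rw [hyk, ← pow_mul, mul_comm, pow_mul, hxr, one_pow]
      have hcopk : r.Coprime (1 + c * (r - 1)) := by
        rw [Nat.Prime.coprime_iff_not_dvd hr]
        rintro ⟨d, hd⟩
        apply hne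
        have h3 : y = 1 := by rw [hyk, hd, pow_mul, hxr, one_pow]
        rw [hy] at h3
        exact (mul_inv_eq_one.1 h3).symm
      have hfix := T_fix r y hyr ((t ^ i) u)
      have hxfix : x (T r y ((t ^ i) u)) = T r y ((t ^ i) u) := by
        have h4 : x ∈ stab (T r y ((t ^ i) u)) :=
          root_mem (stab _) x r (1 + c * (r - 1)) hxr hcopk (by rw [← hyk]; exact hfix)
        exact h4
      exact hx _ hxfix
    · intro h0'
      exact absurd (Finset.mem_range.2 hq) h0'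
  rw [hswap, hval] at h0
  exact eq_zero_of_nsmul r hcop u h0

section

variable {W : Type u} [AddCommGroup W] [Finite W]
variable {ℓ r p n : ℕ} {σ : LAut W} {P : Subgroup (LAut W)}

theorem czq_of_gen {Z Y : Subgroup (LAut W)} (hZab : ∀ x ∈ Z, ∀ y ∈ Z, x * y = y * x)
    {x : LAut W} (hx : x ∈ Z) (hcyc : ∀ x' ∈ Z, ∃ n : ℕ, x' * (x ^ n)⁻¹ ∈ Y) {g : LAut W}
    (hgZ : g ∈ nzr Z) (hgY : g ∈ nzr Y) (hg : g * x * g⁻¹ * x⁻¹ ∈ Y) : g ∈ czq Z Y := by
  refine ⟨hgZ, hgY, fun z hz => ?_⟩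
  obtain ⟨m, hm⟩ := hcyc z hz
  have hD : g * x ^ m * g⁻¹ * (x ^ m)⁻¹ ∈ Y := by
    have hcm : Commute (g * x * g⁻¹) x⁻¹ := hZab _ (nz_conj hgZ x hx) _ (Z.inv_mem hx)
    have e : (g * x * g⁻¹ * x⁻¹) ^ m = g * x ^ m * g⁻¹ * (x ^ m)⁻¹ := by
      rw [hcm.mul_pow, conj_pow, inv_pow]
    rw [← e]; exact Y.pow_mem hg m
  have e : g * z * g⁻¹ * z⁻¹ =
      (g * (z * (x ^ m)⁻¹) * g⁻¹) * (g * x ^ m * g⁻¹ * (x ^ m)⁻¹) * (z * (x ^ m)⁻¹)⁻¹ := by
    group
  rw [e]
  exact Y.mul_mem (Y.mul_mem (nz_conj hgY _ hm) hD) (Y.inv_mem hm)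

/-- a power of `σ` centralizing `Z` modulo `Y` without fixed points on the fixed space of
`Y` -/
theorem cent_period (h : SG ℓ r p n σ P) {Z Y : Subgroup (LAut W)} (hZP : Z ≤ P)
    (hZab : ∀ x ∈ Z, ∀ y ∈ Z, x * y = y * x) (hZexp : ∀ z ∈ Z, z ^ r = 1)
    (hZσ : ∀ z ∈ Z, σ * z * σ⁻¹ ∈ Z) (hY : MaxFix Z Y) (k : ℕ) (hk : k ≤ n)
    (hper1 : cjS (σ ^ p ^ k) Y = Y) (hper2 : ∀ i, 0 < i → i < p ^ k → cjS (σ ^ i) Y ≠ Y) :
    ∃ e, k ≤ e ∧ e < n ∧ σ ^ p ^ e ∈ czq Z Y ∧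
      (∀ u ∈ FixSp Y, (σ ^ p ^ e) u = u → u = 0) ∧ (σ ^ p ^ k ∈ czq Z Y → e = k) := by
  classical
  have hkn : k < n := period_lt h hZP hZab hZσ hY k hk hper2
  obtain ⟨τ, hτ⟩ : ∃ τ : LAut W, τ = σ ^ p ^ k := ⟨_, rfl⟩
  have hτZ : τ ∈ nzr Z := by rw [hτ]; exact mem_nz Z _ (pow_norm σ Z hZσ _)
  have hτY : τ ∈ nzr Y := by rw [hτ]; exact nz_of_cjS_eq hper1
  have hτfix : ∀ u ∈ FixSp Y, τ u = u → u = 0 := by
    rw [hτ]; exact orbit_fix h hZP hZab hZσ hY (p ^ k) (pow_pos h.hp.pos k) hper2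
  have hpow : ∀ j : ℕ, τ ^ p ^ j = σ ^ p ^ (k + j) := by
    intro j; rw [hτ, ← pow_mul, ← pow_add]
  have hex : ∃ j, τ ^ p ^ j ∈ czq Z Y := by
    refine ⟨n - k, ?_⟩
    rw [hpow, Nat.add_sub_cancel' hk, h.sp]
    exact Subgroup.one_mem _
  obtain ⟨j, hj⟩ : ∃ j, j = Nat.find hex := ⟨_, rfl⟩
  have hjs : τ ^ p ^ j ∈ czq Z Y := by rw [hj]; exact Nat.find_spec hex
  have hjmin : ∀ j', j' < j → τ ^ p ^ j' ∉ czq Z Y := by
    intro j' hj'; rw [hj] at hj'; exact Nat.find_min hex hj'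
  have hjle : j ≤ n - k := by
    rw [hj]; apply Nat.find_min'
    rw [hpow, Nat.add_sub_cancel' hk, h.sp]
    exact Subgroup.one_mem _
  have main : ∀ u ∈ FixSp Y, (τ ^ p ^ j) u = u → u = 0 := by
    by_cases hj0 : j = 0
    · intro u hu hfix
      rw [hj0, pow_zero, pow_one] at hfix
      exact hτfix u hu hfix
    have hjpos : 0 < j := Nat.pos_of_ne_zero hj0
    have hZY : ∃ x ∈ Z, x ∉ Y := by
      by_contra hno
      push Not at hno
      apply hjmin 0 hjpos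
      rw [pow_zero, pow_one]
      exact ⟨hτZ, hτY, fun z hz => hno _ (Z.mul_mem (nz_conj hτZ z hz) (Z.inv_mem hz))⟩
    obtain ⟨x, hxZ, hxY⟩ := hZY
    have hcyc := semi hZab hY r h.hr hZexp h.rW x hxZ hxY
    have key2 : ∀ i, 0 < i → i < p ^ j → τ ^ i ∉ czq Z Y := by
      intro i hi hlt hmem
      have hgd : Nat.gcd i (p ^ j) ∣ p ^ j := Nat.gcd_dvd_right _ _
      obtain ⟨j', hj'le, hj'⟩ := (Nat.dvd_prime_pow h.hp).1 hgd
      have hgle : Nat.gcd i (p ^ j) ≤ i := Nat.le_of_dvd hi (Nat.gcd_dvd_left _ _)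
      have hj'lt : j' < j := by
        by_contra hnl
        have : j' = j := le_antisymm hj'le (not_lt.1 hnl)
        rw [this] at hj'
        omega
      apply hjmin j' hj'lt
      rw [← hj']
      have hb := Nat.gcd_eq_gcd_ab i (p ^ j)
      have e : τ ^ Nat.gcd i (p ^ j) =
          (τ ^ i) ^ Nat.gcdA i (p ^ j) * (τ ^ p ^ j) ^ Nat.gcdB i (p ^ j) := by
        rw [← zpow_natCast τ (Nat.gcd i (p ^ j)), hb, zpow_add, zpow_mul, zpow_mul,
          zpow_natCast, zpow_natCast]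
      rw [e]
      exact Subgroup.mul_mem _ (Subgroup.zpow_mem _ hmem _) (Subgroup.zpow_mem _ hjs _)
    intro u₀ hu₀ hfix₀
    by_contra hu₀ne
    let U' : AddSubgroup W :=
      { carrier := {u | u ∈ FixSp Y ∧ (τ ^ p ^ j) u = u}
        add_mem' := by
          rintro a b ⟨ha, ha'⟩ ⟨hb, hb'⟩
          exact ⟨(FixSp Y).add_mem ha hb, by rw [map_add, ha', hb']⟩
        zero_mem' := ⟨(FixSp Y).zero_mem, map_zero _⟩
        neg_mem' := by
          rintro a ⟨ha, ha'⟩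
          exact ⟨(FixSp Y).neg_mem ha, by rw [map_neg, ha']⟩ }
    have hU'mem : ∀ u, u ∈ U' ↔ u ∈ FixSp Y ∧ (τ ^ p ^ j) u = u := fun u => Iff.rfl
    have hxU' : x ∈ stabU U' := by
      apply stabU_of_maps
      intro u hu
      rw [hU'mem] at hu ⊢
      refine ⟨FixSp_comm (fun y hy => hZab x hxZ y (hY.1 hy)) hu.1, ?_⟩
      have hc := hjs.2.2 x hxZ
      have e : (τ ^ p ^ j) (x u) = (τ ^ p ^ j * x * (τ ^ p ^ j)⁻¹ * x⁻¹) (x ((τ ^ p ^ j) u)) := by
        show _ = (τ ^ p ^ j) (x ((τ ^ p ^ j)⁻¹ (x⁻¹ (x ((τ ^ p ^ j) u)))))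
        rw [inv_app, inv_app]
      rw [e, hu.2]
      exact (FixSp_comm (fun y hy => hZab x hxZ y (hY.1 hy)) hu.1) _ hc
    have hτU' : τ ∈ stabU U' := by
      apply stabU_of_maps
      intro u hu
      rw [hU'mem] at hu ⊢
      refine ⟨?_, ?_⟩
      · have h1 : τ u ∈ FixSp (cjS τ Y) := FixSp_cjS' hu.1
        rw [cjS_eq_of_nz hτY] at h1
        exact h1
      · have hc : τ ^ p ^ j * τ = τ * τ ^ p ^ j := ((Commute.refl τ).pow_left _).eq
        calc (τ ^ p ^ j) (τ u) = (τ ^ p ^ j * τ) u := rfl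
          _ = (τ * τ ^ p ^ j) u := by rw [hc]
          _ = τ ((τ ^ p ^ j) u) := rfl
          _ = τ u := by rw [hu.2]
    have hYfix : ∀ y ∈ Y, ∀ g : stabU U', (g : LAut W) = y → resHom U' g = 1 := by
      intro y hy g hg
      apply res_eq_one
      rw [hg]
      intro w hw
      exact ((hU'mem w).1 hw).1 y hy
    have hres : ∀ (m : ℕ) (g : stabU U') (u : U'),
        ((resHom U' (g ^ m) u : U') : W) = ((g : LAut W) ^ m) (u : W) := by
      intro m g u
      rw [resHom_apply, Subgroup.coe_pow]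
    have hall := frob_sum (U := U') (resHom U' ⟨x, hxU'⟩) (resHom U' ⟨τ, hτU'⟩) r (p ^ j)
      h.hr (pow_pos h.hp.pos j)
      (Nat.Coprime.coprime_dvd_right (AddSubgroup.card_addSubgroup_dvd_card U') h.rW)
      (by
        rw [← map_pow]
        have e : (⟨x, hxU'⟩ : stabU U') ^ r = 1 := Subtype.ext (hZexp x hxZ)
        rw [e, map_one])
      (by
        intro u hu
        have h1 : x (u : W) = u := congrArg Subtype.val hu
        exact Subtype.ext (hY.fpf hxZ hxY _ u.2.1 h1))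
      (by
        rw [← map_pow]
        refine LinearEquiv.ext (fun u => Subtype.ext ?_)
        rw [hres]
        exact u.2.2)
      (by
        intro u hu
        have h1 : τ (u : W) = u := congrArg Subtype.val hu
        exact Subtype.ext (hτfix _ u.2.1 h1))
      (by
        intro i hi hlt
        have hτi : τ ^ i ∈ nzr Z := Subgroup.pow_mem _ hτZ i
        have hτiY : τ ^ i ∈ nzr Y := Subgroup.pow_mem _ hτY i
        obtain ⟨c, hc⟩ := hcyc _ (nz_conj hτi x hxZ)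
        refine ⟨c, ?_, ?_⟩
        · have h1 := hYfix _ hc
            ((⟨τ, hτU'⟩ : stabU U') ^ i * ⟨x, hxU'⟩ * ((⟨τ, hτU'⟩ : stabU U') ^ i)⁻¹ *
              ((⟨x, hxU'⟩ : stabU U') ^ c)⁻¹) rfl
          rw [map_mul, map_inv, mul_inv_eq_one] at h1
          rw [← map_pow, ← map_pow, ← map_inv, ← map_mul, ← map_mul]
          exact h1
        · intro heq
          apply key2 i hi hlt
          apply czq_of_gen hZab hxZ hcyc hτi hτiY
          have h2 : x ^ c * x⁻¹ ∈ Y := by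
            by_contra hnot
            apply hu₀ne
            apply hY.fpf (Z.mul_mem (Z.pow_mem hxZ c) (Z.inv_mem hxZ)) hnot u₀ hu₀
            have h3 := congrArg (fun e : LAut U' => ((e ⟨x⁻¹ u₀, by
              have := ((stabU U').inv_mem hxU' u₀).2 ((hU'mem u₀).2 ⟨hu₀, hfix₀⟩)
              exact this⟩ : U') : W)) heq
            have h4 : (x ^ c) (x⁻¹ u₀) = x (x⁻¹ u₀) := by
              have h5 := hres c ⟨x, hxU'⟩ ⟨x⁻¹ u₀, by
                have := ((stabU U').inv_mem hxU' u₀).2 ((hU'mem u₀).2 ⟨hu₀, hfix₀⟩)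
                exact this⟩
              rw [map_pow] at h5
              rw [← h5]
              exact h3
            rw [app_inv] at h4
            exact h4
          have e : τ ^ i * x * (τ ^ i)⁻¹ * x⁻¹ =
              (τ ^ i * x * (τ ^ i)⁻¹ * (x ^ c)⁻¹) * (x ^ c * x⁻¹) := by group
          rw [e]
          exact Y.mul_mem hc h2)
    have h0 := hall ⟨u₀, (hU'mem u₀).2 ⟨hu₀, hfix₀⟩⟩
    exact hu₀ne (congrArg Subtype.val h0)
  refine ⟨k + j, Nat.le_add_right k j, ?_, ?_, ?_, ?_⟩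
  rotate_left 3
  · intro hmem
    have hj0 : j = 0 := by
      rw [hj]
      exact Nat.le_zero.1 (Nat.find_min' hex (by rw [pow_zero, pow_one, hτ]; exact hmem))
    omega
  · have hle : k + j ≤ n := by omega
    rcases Nat.lt_or_ge (k + j) n with hlt | hge
    · exact hlt
    · exfalso
      have hkj : k + j = n := le_antisymm hle hge
      apply hY.2.1
      rw [eq_bot_iff]
      intro u hu
      rw [AddSubgroup.mem_bot]
      apply main u hu
      rw [hpow, hkj, h.sp]; rfl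
  · rw [← hpow]; exact hjs
  · rw [← hpow]; exact main

/-- an automorphism of `p`-power order of the abelian `r`-group `P` centralizing the elements
of order `r` centralizes `P` -/
theorem omega_comm (h : SG ℓ r p n σ P) (hab : ∀ x ∈ P, ∀ y ∈ P, x * y = y * x)
    (g : LAut W) (hgp : ∃ k, g ^ p ^ k = 1) (hgP : ∀ x ∈ P, g * x * g⁻¹ ∈ P)
    (hΩ : ∀ x ∈ P, x ^ r = 1 → g * x = x * g) : ∀ x ∈ P, g * x = x * g := by
  obtain ⟨k, hk⟩ := hgp
  have hS : IsPGroup p (Subgroup.zpowers g) := zpowers_pgroup g p k hk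
  have hRS : ∀ u ∈ Subgroup.zpowers g, ∀ x ∈ P, u * x * u⁻¹ ∈ P := by
    intro u hu x hx
    have hle : Subgroup.zpowers g ≤ nzr P := by
      rw [Subgroup.zpowers_le]; exact mem_nz P g hgP
    exact nz_conj (hle hu) x hx
  have key : ∀ e : ℕ, ∀ x ∈ P, x ^ r ^ e = 1 → g * x = x * g := by
    intro e
    induction e with
    | zero =>
      intro x _ hx
      rw [pow_zero, pow_one] at hx
      rw [hx, mul_one, one_mul]
    | succ e ih =>
      intro x hx hxe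
      obtain ⟨c, hc⟩ : ∃ c : LAut W, c = x⁻¹ * (g * x * g⁻¹) := ⟨_, rfl⟩
      have hcP : c ∈ P := by rw [hc]; exact P.mul_mem (P.inv_mem hx) (hgP x hx)
      have hx1 : g * x ^ r ^ e = x ^ r ^ e * g := by
        apply hΩ _ (P.pow_mem hx _)
        rw [← pow_mul, ← pow_succ]; exact hxe
      have hce : c ^ r ^ e = 1 := by
        have hcm : Commute x⁻¹ (g * x * g⁻¹) := hab _ (P.inv_mem hx) _ (hgP x hx)
        rw [hc, hcm.mul_pow, inv_pow, conj_pow, hx1, mul_inv_cancel_right, inv_mul_cancel]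
      have hcg : g * c = c * g := ih c hcP hce
      have := coprime_comm P (Subgroup.zpowers g) h.hr h.hp h.hrp h.Pr hS hRS x g hx
        (Subgroup.mem_zpowers g) (by rw [← hc]; exact hcg.symm)
      exact this.symm
  intro x hx
  obtain ⟨e, he⟩ := h.Pr ⟨x, hx⟩
  exact key e x hx (congrArg Subtype.val he)

end

end Cfsg.Agent.Lib.Helper63.SG
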