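import Mathlib
import Cfsg.Agent.Lib.Helper63.SGOrb

set_option autoImplicit false

namespace Cfsg.Agent.Lib.Helper63.SG

open Cfsg.Agent.Lib.Helper63.S3A
open Cfsg.Agent.Lib.Helper63.Fpq

universe u

section

variable {W : Type u} [AddCommGroup W] [Finite W]
variable {ℓ r p n : ℕ} {σ : LAut W} {P : Subgroup (LAut W)}

/-- a minimal configuration: the conclusion holds on proper invariant subgroups of the module
and for proper invariant subgroups of the group -/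
structure Mn (ℓ r p n : ℕ) (σ : LAut W) (P : Subgroup (LAut W)) : Prop where
  sg : SG ℓ r p n σ P
  res : ∀ U : AddSubgroup W, U ≠ ⊤ → (∀ w ∈ U, σ w ∈ U) → (∀ x ∈ P, ∀ w ∈ U, x w ∈ U) →
    ∀ x ∈ P, ∀ w ∈ U, (σ ^ p ^ (n - 1)) (x w) = x ((σ ^ p ^ (n - 1)) w)
  sub : ∀ Q : Subgroup (LAut W), Q ≤ P → Q ≠ P → (∀ x ∈ Q, σ * x * σ⁻¹ ∈ Q) →
    ∀ x ∈ Q, σ ^ p ^ (n - 1) * x = x * σ ^ p ^ (n - 1)

theorem cjS_cent {g : LAut W} {Y : Subgroup (LAut W)} (hg : ∀ y ∈ Y, g * y = y * g) :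
    cjS g Y = Y := by
  ext x
  rw [mem_cjS]
  constructor
  · intro hx
    have h2 := hg _ hx
    have e : x = g * (g⁻¹ * x * g) * g⁻¹ := by group
    rw [e, h2]
    have e2 : g⁻¹ * x * g * g * g⁻¹ = g⁻¹ * x * g := by group
    rw [e2]; exact hx
  · intro hx
    have h2 := hg _ hx
    have e : g⁻¹ * x * g = g⁻¹ * (x * g) := by group
    rw [e, ← h2]
    have e2 : g⁻¹ * (g * x) = x := by group
    rw [e2]; exact hx

/-- the decomposition of the module of a minimal counterexample along a conjugation-closed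
family of maximal subgroups of an abelian subgroup -/
theorem Mn.dec (h : Mn ℓ r p n σ P)
    (hnc : ¬ ∀ x ∈ P, σ ^ p ^ (n - 1) * x = x * σ ^ p ^ (n - 1))
    {Z : Subgroup (LAut W)} (hZP : Z ≤ P) (hZab : ∀ x ∈ Z, ∀ y ∈ Z, x * y = y * x)
    (Fam : Subgroup (LAut W) → Prop) (hmax : ∀ Y, Fam Y → MaxFix Z Y) (hne : ∃ Y, Fam Y)
    (hσ : ∀ Y, Fam Y → Fam (cjS σ Y)) (hP : ∀ x ∈ P, ∀ Y, Fam Y → Fam (cjS x Y)) :
    WpF Fam = ⊤ := by
  by_contra hne'
  apply hnc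
  have hcop := h.sg.copW Z hZP
  have r1 := h.res (WpF Fam) hne' (WpF_inv σ hσ) (fun x hx => WpF_inv x (hP x hx))
  have r2 := h.res (UzF Fam) (UzF_ne_top hmax hne hcop) (UzF_inv σ hσ)
    (fun x hx => UzF_inv x (hP x hx))
  intro x hx
  refine LinearEquiv.ext (fun w => ?_)
  obtain ⟨w₁, h1, w₂, h2, rfl⟩ := WpF_add_UzF hZab hmax hcop w
  show (σ ^ p ^ (n - 1)) (x (w₁ + w₂)) = x ((σ ^ p ^ (n - 1)) (w₁ + w₂))
  rw [map_add, map_add, map_add, map_add, r1 x hx w₁ h1, r2 x hx w₂ h2]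

/-- an automorphism fixing the fixed spaces of a family spanning the module is trivial -/
theorem eq_one_of_fam {Fam : Subgroup (LAut W) → Prop} (htop : WpF Fam = ⊤) (c : LAut W)
    (hc : ∀ Y, Fam Y → c ∈ Y) : c = 1 := by
  refine LinearEquiv.ext (fun w => ?_)
  have hw : w ∈ WpF Fam := by rw [htop]; trivial
  have hle : WpF Fam ≤ FixSp (Subgroup.zpowers c) := by
    refine iSup₂_le (fun Y' hY' => ?_)
    intro w hw
    have h2 : Subgroup.zpowers c ≤ stab w := by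
      rw [Subgroup.zpowers_le]; exact hw _ (hc Y' hY')
    exact fun y hy => h2 hy
  exact hle hw _ (Subgroup.mem_zpowers _)

/-- the abelian case -/
theorem Mn.abelian (h : Mn ℓ r p n σ P) (hab : ∀ x ∈ P, ∀ y ∈ P, x * y = y * x) :
    ∀ x ∈ P, σ ^ p ^ (n - 1) * x = x * σ ^ p ^ (n - 1) := by
  by_contra hnc
  obtain ⟨ψ, hψ⟩ : ∃ ψ : LAut W, ψ = σ ^ p ^ (n - 1) := ⟨_, rfl⟩
  have hsg := h.sg
  have hW : ∃ w : W, w ≠ 0 := by
    by_contra hno
    push Not at hno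
    apply hnc
    intro x _
    refine LinearEquiv.ext (fun w => ?_)
    rw [hno ((σ ^ p ^ (n - 1) * x) w), hno ((x * σ ^ p ^ (n - 1)) w)]
  have hexp : ∀ x ∈ P, x ^ r = 1 := by
    by_contra hne
    apply hnc
    let Ω : Subgroup (LAut W) :=
      { carrier := {x | x ∈ P ∧ x ^ r = 1}
        mul_mem' := by
          rintro a b ⟨ha, ha'⟩ ⟨hb, hb'⟩
          refine ⟨P.mul_mem ha hb, ?_⟩
          have hc : Commute a b := hab a ha b hb
          rw [hc.mul_pow, ha', hb', one_mul]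
        one_mem' := ⟨P.one_mem, one_pow r⟩
        inv_mem' := by
          rintro a ⟨ha, ha'⟩
          exact ⟨P.inv_mem ha, by rw [inv_pow, ha', inv_one]⟩ }
    have hΩP : Ω ≤ P := fun x hx => hx.1
    have hΩne : Ω ≠ P := by
      intro heq
      apply hne
      intro x hx
      have : x ∈ Ω := by rw [heq]; exact hx
      exact this.2
    have hΩσ : ∀ x ∈ Ω, σ * x * σ⁻¹ ∈ Ω := by
      rintro x ⟨hx, hx'⟩
      exact ⟨hsg.Pσ x hx, by rw [conj_pow, hx', mul_one, mul_inv_cancel]⟩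
    have h1 := h.sub Ω hΩP hΩne hΩσ
    apply omega_comm hsg hab (σ ^ p ^ (n - 1)) ⟨1, by rw [pow_one]; exact hsg.psi_pow⟩
    · exact hsg.Ppow _
    · intro x hx hxr
      exact h1 x ⟨hx, hxr⟩
  obtain ⟨Y, hY⟩ := MaxFix.exists P hW
  obtain ⟨k, hk, hper1, hper2⟩ := exists_period hsg Y
  obtain ⟨e, hke, hen, hcz, -, -⟩ :=
    cent_period hsg (le_refl P) hab hexp hsg.Pσ hY k hk hper1 hper2
  have hψcz : ψ ∈ czq P Y := by
    have e1 : ψ = (σ ^ p ^ e) ^ p ^ (n - 1 - e) := by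
      have e2 : e + (n - 1 - e) = n - 1 := by omega
      rw [hψ, ← pow_mul, ← pow_add, e2]
    rw [e1]; exact Subgroup.pow_mem _ hcz _
  let Fam : Subgroup (LAut W) → Prop := fun Y' => ∃ i : ℕ, Y' = cjS (σ ^ i) Y
  have hFmax : ∀ Y', Fam Y' → MaxFix P Y' := by
    rintro Y' ⟨i, rfl⟩
    exact hY.conj _ (hsg.Ppow i)
  have hFσ : ∀ Y', Fam Y' → Fam (cjS σ Y') := by
    rintro Y' ⟨i, rfl⟩
    exact ⟨i + 1, by rw [← cjS_mul, ← pow_succ']⟩
  have hFP : ∀ x ∈ P, ∀ Y', Fam Y' → Fam (cjS x Y') := by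
    intro x hx Y' hY'
    rw [cjS_cent (fun y hy => hab x hx y ((hFmax Y' hY').1 hy))]
    exact hY'
  have htop := h.dec hnc (le_refl P) hab Fam hFmax ⟨Y, 0, by rw [pow_zero, cjS_one]⟩ hFσ hFP
  apply hnc
  rw [← hψ]
  intro x hx
  have hc : ∀ Y', Fam Y' → ψ * x * ψ⁻¹ * x⁻¹ ∈ Y' := by
    rintro Y' ⟨i, rfl⟩
    rw [mem_cjS]
    have hx' : (σ ^ i)⁻¹ * x * σ ^ i ∈ P := norm_inv P (σ ^ i) (hsg.Ppow i) x hx
    have h2 := hψcz.2.2 _ hx'
    have hcomm : ψ * σ ^ i = σ ^ i * ψ := by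
      rw [hψ]; exact (((Commute.refl σ).pow_left _).pow_right _).eq
    have e1 : (σ ^ i)⁻¹ * ψ * σ ^ i = ψ := by
      rw [mul_assoc, hcomm, inv_mul_cancel_left]
    have e : (σ ^ i)⁻¹ * (ψ * x * ψ⁻¹ * x⁻¹) * σ ^ i =
        ψ * ((σ ^ i)⁻¹ * x * σ ^ i) * ψ⁻¹ * ((σ ^ i)⁻¹ * x * σ ^ i)⁻¹ := by
      calc (σ ^ i)⁻¹ * (ψ * x * ψ⁻¹ * x⁻¹) * σ ^ i
          = ((σ ^ i)⁻¹ * ψ * σ ^ i) * ((σ ^ i)⁻¹ * x * σ ^ i) * ((σ ^ i)⁻¹ * ψ * σ ^ i)⁻¹ *
              ((σ ^ i)⁻¹ * x * σ ^ i)⁻¹ := by group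
        _ = ψ * ((σ ^ i)⁻¹ * x * σ ^ i) * ψ⁻¹ * ((σ ^ i)⁻¹ * x * σ ^ i)⁻¹ := by rw [e1]
    rw [e]; exact h2
  have h1 : ψ * x * ψ⁻¹ * x⁻¹ = 1 := eq_one_of_fam htop _ hc
  calc ψ * x = (ψ * x * ψ⁻¹ * x⁻¹) * (x * ψ) := by group
    _ = x * ψ := by rw [h1, one_mul]

end

/-- the theorem for abelian groups, by induction -/
theorem thmA_aux : ∀ N : ℕ, ∀ (W : Type u) [AddCommGroup W] [Finite W] (ℓ r p n : ℕ)
    (σ : LAut W) (P : Subgroup (LAut W)), Nat.card W + Nat.card P ≤ N → SG ℓ r p n σ P →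
    (∀ x ∈ P, ∀ y ∈ P, x * y = y * x) →
    ∀ x ∈ P, σ ^ p ^ (n - 1) * x = x * σ ^ p ^ (n - 1) := by
  intro N
  induction N with
  | zero =>
    intro W _ _ ℓ r p n σ P hcard
    have := Nat.card_pos (α := W)
    omega
  | succ N ih =>
    intro W _ _ ℓ r p n σ P hcard hsg hab
    refine Mn.abelian (ℓ := ℓ) ⟨hsg, ?_, ?_⟩ hab
    · intro U hU hσU hPU x hx w hw
      have hσs : σ ∈ stabU U := stabU_of_maps U σ hσU
      have hPs : P ≤ stabU U := fun y hy => stabU_of_maps U y (hPU y hy)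
      have hcU : Nat.card U < Nat.card W := by
        rcases lt_or_eq_of_le (Nat.le_of_dvd Nat.card_pos
          (AddSubgroup.card_addSubgroup_dvd_card U)) with h1 | h1
        · exact h1
        · exact absurd (AddSubgroup.eq_top_of_card_eq U h1) hU
      have hsg' := hsg.res U σ n hsg.hn hsg.sp hσs (fun w _ hw' => hsg.fp w hw') P le_rfl hsg.Pσ
      have hab' : ∀ a ∈ img U P, ∀ b ∈ img U P, a * b = b * a := by
        intro a ha b hb
        obtain ⟨a', ha', rfl⟩ := mem_img.1 ha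
        obtain ⟨b', hb', rfl⟩ := mem_img.1 hb
        rw [← map_mul, ← map_mul]
        congr 1
        exact Subtype.ext (hab _ ha' _ hb')
      have hc := ih U ℓ r p n _ _ (by have := card_img_le U P hPs; omega) hsg' hab' _
        (mem_img.2 ⟨⟨x, hPs hx⟩, hx, rfl⟩)
      rw [← map_pow, ← map_mul, ← map_mul] at hc
      have h2 := congrArg (fun e : LAut U => ((e ⟨w, hw⟩ : U) : W)) hc
      exact h2
    · intro Q hQP hQne hQσ
      have hc : Nat.card Q < Nat.card P := by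
        by_contra hge
        push Not at hge
        exact hQne (Subgroup.eq_of_le_of_card_ge hQP hge)
      have hsg' : SG ℓ r p n σ Q := { hsg with Pr := hsg.Pr.to_le hQP, Pσ := hQσ }
      exact ih W ℓ r p n σ Q (by omega) hsg' (fun a ha b hb => hab a (hQP ha) b (hQP hb))

/-- **Theorem A.** In the configuration `SG` with `P` abelian, `σ ^ p ^ (n - 1)` centralizes
`P`. -/
theorem thmA {W : Type u} [AddCommGroup W] [Finite W] {ℓ r p n : ℕ} {σ : LAut W}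
    {P : Subgroup (LAut W)} (h : SG ℓ r p n σ P) (hab : ∀ x ∈ P, ∀ y ∈ P, x * y = y * x) :
    ∀ x ∈ P, σ ^ p ^ (n - 1) * x = x * σ ^ p ^ (n - 1) :=
  thmA_aux _ W ℓ r p n σ P le_rfl h hab

end Cfsg.Agent.Lib.Helper63.SG
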