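import Mathlib
import Cfsg.Agent.S0095
import Cfsg.Agent.Lib.Helper97.HHMin
import Cfsg.Agent.Lib.Helper97.FrobCountMod
import Cfsg.Agent.Lib.Helper63.SGAb

set_option autoImplicit false

namespace Cfsg.Agent.Lib.Helper63.SG

open Cfsg.Agent.Lib.Helper63.S3A
open Cfsg.Agent.Lib.Helper63.Fpq
open Cfsg.Agent.Lib.Helper97.HH
open scoped commutatorElement

universe u

section
variable {P : Type*} [Group P] [Finite P] {q r : ℕ}

theorem eq_top_of_min2 (hq : q.Prime) (hr : r.Prime) (hqr : q ≠ r) (hP : IsPGroup q P)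
    (α β : P ≃* P) (hβr : β ^ r = 1)
    (hmin : ∀ N : Subgroup P, (∀ g ∈ N, α g ∈ N) → N ≠ ⊤ → ∀ g ∈ N, β g = g)
    (hβ1 : ∃ g, β g ≠ g) (N : Subgroup P) (hNinv : ∀ g ∈ N, α g ∈ N)
    (hN : ∀ g, g⁻¹ * β g ∈ N) : N = ⊤ := by
  by_contra hne
  obtain ⟨g, hg⟩ := hβ1
  exact hg (aut_trivial_of_quot hq hr hqr hP β hβr N (hmin N hNinv hne) hN g)

/-- The structure of a nonabelian `q`-group with commuting automorphisms `α` and `β`, the
latter of prime order `r ≠ q`, such that `β` centralizes every proper `α`-invariant subgroup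
but is not trivial. -/
theorem min_struct2 (hq : q.Prime) (hr : r.Prime) (hqr : q ≠ r) (hP : IsPGroup q P)
    (α β : P ≃* P) (hβr : β ^ r = 1) (hαβ : ∀ g, β (α g) = α (β g))
    (hmin : ∀ N : Subgroup P, (∀ g ∈ N, α g ∈ N) → N ≠ ⊤ → ∀ g ∈ N, β g = g)
    (hβ1 : ∃ g, β g ≠ g) (hnab : ∃ a b : P, a * b ≠ b * a) :
    (∀ g h : P, ⁅g, h⁆ ∈ Subgroup.center P) ∧
    (∀ z ∈ Subgroup.center P, β z = z) ∧
    (∀ g, g⁻¹ * β g ∈ Subgroup.center P → g ∈ Subgroup.center P) ∧
    (∀ z ∈ Subgroup.center P, z ^ q = 1) := by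
  classical
  have hfq : Fact q.Prime := ⟨hq⟩
  have htopmin := eq_top_of_min2 hq hr hqr hP α β hβr hmin hβ1
  have hsurj : ∀ N : Subgroup P, (∀ g ∈ N, α g ∈ N) → ∀ d ∈ N, ∃ d' ∈ N, α d' = d := by
    intro N hN d hd
    have hinj : Function.Injective (fun x : N => (⟨α x, hN x x.2⟩ : N)) := by
      intro a b hab
      have := congrArg Subtype.val hab
      exact Subtype.ext (α.injective this)
    obtain ⟨d', hd'⟩ := Finite.surjective_of_injective hinj ⟨d, hd⟩
    exact ⟨d', d'.2, congrArg Subtype.val hd'⟩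
  -- the centre
  have hZinv : ∀ z ∈ Subgroup.center P, α z ∈ Subgroup.center P := by
    intro z hz
    rw [Subgroup.mem_center_iff] at hz ⊢
    intro g
    have := congrArg α (hz (α.symm g))
    rw [map_mul, map_mul, MulEquiv.apply_symm_apply] at this
    exact this
  have hZne : Subgroup.center P ≠ ⊤ := by
    intro h
    obtain ⟨a, b, hab⟩ := hnab
    apply hab
    have : b ∈ Subgroup.center P := by rw [h]; trivial
    exact (Subgroup.mem_center_iff.mp this a)
  have hβZ : ∀ z ∈ Subgroup.center P, β z = z := hmin _ hZinv hZne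
  -- the commutator subgroup
  have hNilp : Group.IsNilpotent P := hP.isNilpotent
  have hnt : Nontrivial P := by
    obtain ⟨a, b, hab⟩ := hnab
    exact ⟨⟨a * b, b * a, hab⟩⟩
  have hC1ne : commutator P ≠ ⊤ := (Group.IsSolvable.commutator_lt_top_of_nontrivial P).ne
  have hC1inv : ∀ c ∈ commutator P, α c ∈ commutator P := by
    intro c hc
    have hchar : (commutator P).Characteristic := by
      rw [commutator_def]; infer_instance
    exact (Subgroup.characteristic_iff_le_comap.mp hchar α) hc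
  have hC1fix : ∀ c ∈ commutator P, β c = c := hmin _ hC1inv hC1ne
  have hCtop : Subgroup.centralizer ((commutator P : Subgroup P) : Set P) = ⊤ := by
    apply htopmin
    · intro g hg
      rw [Subgroup.mem_centralizer_iff] at hg ⊢
      intro c hc
      obtain ⟨c', hc', rfl⟩ := hsurj _ hC1inv c hc
      have := congrArg α (hg c' hc')
      rw [map_mul, map_mul] at this
      exact this
    · intro g
      rw [Subgroup.mem_centralizer_iff]
      intro c hc
      have hn : (commutator P).Normal := inferInstance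
      have h1 : g * c * g⁻¹ ∈ commutator P := hn.conj_mem c hc g
      have h2 := hC1fix _ h1
      rw [map_mul, map_mul, map_inv, hC1fix c hc] at h2
      have h3 : β g * c = g * c * g⁻¹ * β g := by rw [← h2, inv_mul_cancel_right]
      calc c * (g⁻¹ * β g) = g⁻¹ * (g * c * g⁻¹ * β g) := by group
        _ = g⁻¹ * (β g * c) := by rw [h3]
        _ = g⁻¹ * β g * c := by rw [mul_assoc]
  have hcomm : ∀ g h : P, ⁅g, h⁆ ∈ Subgroup.center P := by
    intro g h
    have h1 : ⁅g, h⁆ ∈ commutator P := by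
      rw [commutator_def]
      exact Subgroup.commutator_mem_commutator (Subgroup.mem_top g) (Subgroup.mem_top h)
    rw [Subgroup.mem_center_iff]
    intro k
    have h2 : k ∈ Subgroup.centralizer ((commutator P : Subgroup P) : Set P) := by
      rw [hCtop]; trivial
    exact (Subgroup.mem_centralizer_iff.mp h2 _ h1).symm
  -- fixed points modulo the centre
  let D : Subgroup P :=
    { carrier := {g | g⁻¹ * β g ∈ Subgroup.center P}
      one_mem' := by
        change (1 : P)⁻¹ * β 1 ∈ Subgroup.center P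
        rw [map_one, inv_one, mul_one]
        exact Subgroup.one_mem _
      mul_mem' := fun {a b} ha hb => by
        have ha' : a⁻¹ * β a ∈ Subgroup.center P := ha
        have hb' : b⁻¹ * β b ∈ Subgroup.center P := hb
        change (a * b)⁻¹ * β (a * b) ∈ Subgroup.center P
        have h1 : (a * b)⁻¹ * β (a * b) = b⁻¹ * (a⁻¹ * β a) * β b := by
          rw [map_mul, mul_inv_rev]; group
        rw [h1, Subgroup.mem_center_iff.mp ha' b⁻¹, mul_assoc]
        exact Subgroup.mul_mem _ ha' hb'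
      inv_mem' := fun {a} ha => by
        have ha' : a⁻¹ * β a ∈ Subgroup.center P := ha
        change (a⁻¹)⁻¹ * β a⁻¹ ∈ Subgroup.center P
        have h1 : (a⁻¹)⁻¹ * β a⁻¹ = a * (a⁻¹ * β a)⁻¹ * a⁻¹ := by
          rw [map_inv]; group
        rw [h1, Subgroup.mem_center_iff.mp (Subgroup.inv_mem _ ha') a, mul_inv_cancel_right]
        exact Subgroup.inv_mem _ ha' }
  have hDmem : ∀ g, g ∈ D ↔ g⁻¹ * β g ∈ Subgroup.center P := fun g => Iff.rfl
  have hDinv : ∀ g ∈ D, α g ∈ D := by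
    intro g hg
    rw [hDmem] at hg ⊢
    have h1 : (α g)⁻¹ * β (α g) = α (g⁻¹ * β g) := by rw [hαβ, map_mul, map_inv]
    rw [h1]
    exact hZinv _ hg
  have hDne : D ≠ ⊤ := by
    intro h
    obtain ⟨g, hg⟩ := hβ1
    apply hg
    apply aut_trivial_of_quot hq hr hqr hP β hβr (Subgroup.center P) hβZ
    intro g'
    have : g' ∈ D := by rw [h]; trivial
    exact this
  have hDfix : ∀ d ∈ D, β d = d := hmin D hDinv hDne
  have hZD : Subgroup.center P ≤ D := by
    intro z hz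
    rw [hDmem, hβZ z hz, inv_mul_cancel]
    exact Subgroup.one_mem _
  have hDnorm : ∀ d ∈ D, ∀ h : P, h * d * h⁻¹ ∈ D := by
    intro d hd h
    have h1 : h * d * h⁻¹ = ⁅h, d⁆ * d := by rw [commutatorElement_def]; group
    rw [h1]
    exact D.mul_mem (hZD (hcomm h d)) hd
  have hEtop : Subgroup.centralizer (D : Set P) = ⊤ := by
    apply htopmin
    · intro g hg
      rw [Subgroup.mem_centralizer_iff] at hg ⊢
      intro d hd
      obtain ⟨d', hd', rfl⟩ := hsurj D hDinv d hd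
      have := congrArg α (hg d' hd')
      rw [map_mul, map_mul] at this
      exact this
    · intro g
      rw [Subgroup.mem_centralizer_iff]
      intro d hd
      have h1 : g * d * g⁻¹ ∈ D := hDnorm d hd g
      have h2 := hDfix _ h1
      rw [map_mul, map_mul, map_inv, hDfix d hd] at h2
      have h3 : β g * d = g * d * g⁻¹ * β g := by rw [← h2, inv_mul_cancel_right]
      calc d * (g⁻¹ * β g) = g⁻¹ * (g * d * g⁻¹ * β g) := by group
        _ = g⁻¹ * (β g * d) := by rw [h3]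
        _ = g⁻¹ * β g * d := by rw [mul_assoc]
  have hβfpf : ∀ g, g⁻¹ * β g ∈ Subgroup.center P → g ∈ Subgroup.center P := by
    intro g hg
    have hgD : g ∈ D := hg
    rw [Subgroup.mem_center_iff]
    intro k
    have h2 : k ∈ Subgroup.centralizer (D : Set P) := by rw [hEtop]; trivial
    exact (Subgroup.mem_centralizer_iff.mp h2 g hgD).symm
  -- the norm map to the abelianization
  let π : P →* Abelianization P := Abelianization.of
  let ν : P →* Abelianization P :=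
    { toFun := fun g => ∏ i ∈ Finset.range r, π ((β ^ i) g)
      map_one' := Finset.prod_eq_one (fun i _ => by rw [map_one, map_one])
      map_mul' := fun a b => by
        rw [← Finset.prod_mul_distrib]
        exact Finset.prod_congr rfl (fun i _ => by rw [map_mul, map_mul]) }
  have hνdef : ∀ g, ν g = ∏ i ∈ Finset.range r, π ((β ^ i) g) := fun g => rfl
  have hνβ : ∀ g, ν (β g) = ν g := by
    intro g
    have h1 : ∀ i : ℕ, (β ^ i) (β g) = (β ^ (i + 1)) g := by
      intro i; rw [pow_succ, MulAut.mul_apply]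
    have h2 := (Finset.prod_range_succ' (fun i => π ((β ^ i) g)) r).symm.trans
      (Finset.prod_range_succ (fun i => π ((β ^ i) g)) r)
    simp only [hβr, pow_zero] at h2
    rw [hνdef, hνdef]
    have h3 : ∏ i ∈ Finset.range r, π ((β ^ i) (β g)) =
        ∏ i ∈ Finset.range r, π ((β ^ (i + 1)) g) :=
      Finset.prod_congr rfl (fun i _ => by rw [h1])
    rw [h3]
    exact mul_right_cancel h2
  have hpowcomm : ∀ (i : ℕ) (g : P), (β ^ i) (α g) = α ((β ^ i) g) := by
    intro i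
    induction i with
    | zero => intro g; simp
    | succ i ih =>
      intro g
      rw [pow_succ, MulAut.mul_apply, MulAut.mul_apply, hαβ, ih]
  have hνα : ∀ g, ν (α g) = Abelianization.map α.toMonoidHom (ν g) := by
    intro g
    rw [hνdef, hνdef, map_prod]
    refine Finset.prod_congr rfl (fun i _ => ?_)
    rw [hpowcomm]
    exact (Abelianization.map_of α.toMonoidHom _).symm
  have hνker : ν.ker = ⊤ := by
    apply htopmin
    · intro g hg
      rw [MonoidHom.mem_ker] at hg ⊢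
      rw [hνα, hg, map_one]
    · intro g
      rw [MonoidHom.mem_ker, map_mul, map_inv, hνβ, inv_mul_cancel]
  have hβpowZ : ∀ z ∈ Subgroup.center P, ∀ i : ℕ, (β ^ i) z = z := by
    intro z hz i
    induction i with
    | zero => simp
    | succ i ih => rw [pow_succ, MulAut.mul_apply, hβZ z hz, ih]
  have hZle : Subgroup.center P ≤ commutator P := by
    intro z hz
    have h1 : ν z = 1 := by
      have : z ∈ ν.ker := by rw [hνker]; trivial
      exact this
    rw [hνdef] at h1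
    have h2 : ∏ i ∈ Finset.range r, π ((β ^ i) z) = ∏ _i ∈ Finset.range r, π z :=
      Finset.prod_congr rfl (fun i _ => by rw [hβpowZ z hz i])
    rw [h2, Finset.prod_const, Finset.card_range, ← map_pow] at h1
    have h3 : z ^ r ∈ commutator P := by
      rw [← Abelianization.ker_of]
      exact h1
    obtain ⟨j, hj⟩ := hP z
    have hcop : (orderOf z).Coprime r := by
      have h4 : orderOf z ∣ q ^ j := orderOf_dvd_of_pow_eq_one hj
      exact Nat.Coprime.coprime_dvd_left h4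
        (Nat.Coprime.pow_left j ((Nat.coprime_primes hq hr).mpr hqr))
    have h5 : Subgroup.zpowers (z ^ r) = Subgroup.zpowers z := by
      apply Subgroup.eq_of_le_of_card_ge
      · rw [Subgroup.zpowers_le]
        exact Subgroup.pow_mem _ (Subgroup.mem_zpowers _) _
      · rw [Nat.card_zpowers, Nat.card_zpowers, Nat.Coprime.orderOf_pow hcop]
    have h6 : z ∈ Subgroup.zpowers (z ^ r) := by rw [h5]; exact Subgroup.mem_zpowers _
    exact (Subgroup.zpowers_le.mpr h3) h6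
  -- `q`-th powers are central
  have hpowZ : ∀ g : P, g ^ q ∈ Subgroup.center P := by
    have hsolvTop : Group.IsSolvable (⊤ : Subgroup P) := inferInstance
    obtain ⟨ℓ, hℓ, hℓdvd, hfrat⟩ :=
      Cfsg.Agent.Lib.Helper97.SectMod.exists_frat_ne (⊤ : Subgroup P) hsolvTop top_ne_bot
    have hℓq : ℓ = q := by
      rw [Subgroup.card_top] at hℓdvd
      obtain ⟨k, hk⟩ := IsPGroup.iff_card.mp hP
      rw [hk] at hℓdvd
      exact (Nat.prime_dvd_prime_iff_eq hℓ hq).mp (hℓ.dvd_of_dvd_pow hℓdvd)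
    rw [hℓq] at hfrat
    have hfinv : ∀ g ∈ Cfsg.Agent.Lib.Helper97.SectMod.frat q (⊤ : Subgroup P),
        α g ∈ Cfsg.Agent.Lib.Helper97.SectMod.frat q (⊤ : Subgroup P) := by
      intro g hg
      have h1 : (Cfsg.Agent.Lib.Helper97.SectMod.frat q (⊤ : Subgroup P)).map α.toMonoidHom ≤
          Cfsg.Agent.Lib.Helper97.SectMod.frat q (⊤ : Subgroup P) := by
        unfold Cfsg.Agent.Lib.Helper97.SectMod.frat
        rw [Subgroup.map_sup, Subgroup.map_commutator, MonoidHom.map_closure]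
        apply sup_le_sup
        · exact Subgroup.commutator_mono le_top le_top
        · apply Subgroup.closure_mono
          rintro _ ⟨y, ⟨x, hx, rfl⟩, rfl⟩
          exact ⟨α x, Subgroup.mem_top _, (map_pow α x q).symm⟩
      exact h1 ⟨g, hg, rfl⟩
    have hffix := hmin _ hfinv hfrat
    intro g
    apply hβfpf
    have h2 : g ^ q ∈ Cfsg.Agent.Lib.Helper97.SectMod.frat q (⊤ : Subgroup P) :=
      Cfsg.Agent.Lib.Helper97.SectMod.pow_mem_frat q ⊤ g (Subgroup.mem_top g)
    rw [hffix _ h2, inv_mul_cancel]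
    exact Subgroup.one_mem _
  -- commutators have order dividing `q`
  have hc' : ∀ a b : P, a * b * a⁻¹ * b⁻¹ ∈ Subgroup.center P := by
    intro a b
    have := hcomm a b
    rwa [commutatorElement_def] at this
  have hcpow : ∀ a b : P, ⁅a, b⁆ ^ q = 1 := by
    intro a b
    have h1 : Cfsg.Agent.S0095.commHom hc' b (a ^ q) = 1 := by
      rw [Cfsg.Agent.S0095.commHom_eq_one_iff]
      exact (Subgroup.mem_center_iff.mp (hpowZ a) b).symm
    rw [map_pow] at h1
    have h2 := congrArg Subtype.val h1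
    rw [Subgroup.coe_pow, Cfsg.Agent.S0095.commHom_coe] at h2
    rw [commutatorElement_def]
    exact h2
  have hZexp : ∀ z ∈ Subgroup.center P, z ^ q = 1 := by
    let T : Subgroup P :=
      { carrier := {z | z ∈ Subgroup.center P ∧ z ^ q = 1}
        one_mem' := ⟨Subgroup.one_mem _, one_pow q⟩
        mul_mem' := fun {a b} ha hb => ⟨Subgroup.mul_mem _ ha.1 hb.1, by
          have hcm : Commute a b := (Subgroup.mem_center_iff.mp hb.1 a)
          rw [hcm.mul_pow, ha.2, hb.2, one_mul]⟩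
        inv_mem' := fun {a} ha => ⟨Subgroup.inv_mem _ ha.1, by rw [inv_pow, ha.2, inv_one]⟩ }
    have h1 : commutator P ≤ T := by
      rw [commutator_def, Subgroup.commutator_le]
      intro a _ b _
      exact ⟨hcomm a b, hcpow a b⟩
    intro z hz
    exact (h1 (hZle hz)).2
  exact ⟨hcomm, hβZ, hβfpf, hZexp⟩

end

section

variable {W : Type u} [AddCommGroup W] [Finite W]
variable {ℓ r p n : ℕ} {σ : LAut W} {P : Subgroup (LAut W)}

/-- the centre of `P`, as a subgroup of the ambient group -/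
def ctr (P : Subgroup (LAut W)) : Subgroup (LAut W) where
  carrier := {z | z ∈ P ∧ ∀ x ∈ P, x * z = z * x}
  mul_mem' := by
    rintro a b ⟨ha, ha'⟩ ⟨hb, hb'⟩
    refine ⟨P.mul_mem ha hb, fun x hx => ?_⟩
    rw [← mul_assoc, ha' x hx, mul_assoc, hb' x hx, mul_assoc]
  one_mem' := ⟨P.one_mem, fun x _ => by rw [mul_one, one_mul]⟩
  inv_mem' := by
    rintro a ⟨ha, ha'⟩
    refine ⟨P.inv_mem ha, fun x hx => ?_⟩
    have := ha' x hx
    calc x * a⁻¹ = a⁻¹ * (a * x) * a⁻¹ := by group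
      _ = a⁻¹ * (x * a) * a⁻¹ := by rw [this]
      _ = a⁻¹ * x := by group

theorem mem_ctr {P : Subgroup (LAut W)} {z : LAut W} :
    z ∈ ctr P ↔ z ∈ P ∧ ∀ x ∈ P, x * z = z * x := Iff.rfl

theorem ctr_le (P : Subgroup (LAut W)) : ctr P ≤ P := fun _ h => h.1

theorem center_iff_ctr {P : Subgroup (LAut W)} (z : ↥P) :
    z ∈ Subgroup.center ↥P ↔ (z : LAut W) ∈ ctr P := by
  constructor
  · intro hz
    exact ⟨z.2, fun x hx => congrArg Subtype.val (Subgroup.mem_center_iff.1 hz ⟨x, hx⟩)⟩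
  · intro hz
    exact Subgroup.mem_center_iff.2 (fun g => Subtype.ext (hz.2 g g.2))

theorem ctr_conj {P : Subgroup (LAut W)} {g : LAut W} (hg : g ∈ nzr P) :
    ∀ z ∈ ctr P, g * z * g⁻¹ ∈ ctr P := by
  intro z hz
  refine ⟨nz_conj hg z hz.1, fun x hx => ?_⟩
  have h1 := hz.2 _ (nz_conj' hg x hx)
  calc x * (g * z * g⁻¹) = g * ((g⁻¹ * x * g) * z) * g⁻¹ := by group
    _ = g * (z * (g⁻¹ * x * g)) * g⁻¹ := by rw [h1]
    _ = g * z * g⁻¹ * x := by group

/-- the structure of a nonabelian minimal counterexample -/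
theorem Mn.special (h : Mn ℓ r p n σ P)
    (hnc : ¬ ∀ x ∈ P, σ ^ p ^ (n - 1) * x = x * σ ^ p ^ (n - 1))
    (hnab : ¬ ∀ x ∈ P, ∀ y ∈ P, x * y = y * x) :
    (∀ x ∈ P, ∀ y ∈ P, x * y * x⁻¹ * y⁻¹ ∈ ctr P) ∧
    (∀ z ∈ ctr P, σ ^ p ^ (n - 1) * z = z * σ ^ p ^ (n - 1)) ∧
    (∀ x ∈ P, x⁻¹ * (σ ^ p ^ (n - 1) * x * (σ ^ p ^ (n - 1))⁻¹) ∈ ctr P → x ∈ ctr P) ∧
    (∀ z ∈ ctr P, z ^ r = 1) := by
  have hsg := h.sg
  obtain ⟨ψ, hψ⟩ : ∃ ψ : LAut W, ψ = σ ^ p ^ (n - 1) := ⟨_, rfl⟩
  rw [← hψ] at hnc ⊢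
  have hnorm : ∀ e ∈ nzr P, ∀ z ∈ P, e * z * e⁻¹ ∈ P := fun e he z hz => nz_conj he z hz
  have hσN : σ ∈ nzr P := mem_nz P σ hsg.Pσ
  have hψN : ψ ∈ nzr P := by rw [hψ]; exact Subgroup.pow_mem _ hσN _
  obtain ⟨c, hc⟩ : ∃ c : ↥(nzr P) →* MulAut ↥P,
      c = Cfsg.Agent.Lib.Helper97.FrobCount.conjOn (nzr P) P hnorm := ⟨_, rfl⟩
  have hcv : ∀ (e : nzr P) (g : ↥P), ((c e g : ↥P) : LAut W) = e * g * (e : LAut W)⁻¹ := by
    intro e g; rw [hc]; rfl
  have hβp : (c ⟨ψ, hψN⟩) ^ p = 1 := by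
    rw [← map_pow]
    have e : (⟨ψ, hψN⟩ : nzr P) ^ p = 1 := Subtype.ext (by
      show ψ ^ p = 1
      rw [hψ]; exact hsg.psi_pow)
    rw [e, map_one]
  have hαβ : ∀ g, (c ⟨ψ, hψN⟩) ((c ⟨σ, hσN⟩) g) = (c ⟨σ, hσN⟩) ((c ⟨ψ, hψN⟩) g) := by
    intro g
    have e : (⟨ψ, hψN⟩ : nzr P) * ⟨σ, hσN⟩ = ⟨σ, hσN⟩ * ⟨ψ, hψN⟩ := Subtype.ext (by
      show ψ * σ = σ * ψ
      rw [hψ]; exact hsg.psi_comm.symm)
    show ((c ⟨ψ, hψN⟩) * (c ⟨σ, hσN⟩)) g = ((c ⟨σ, hσN⟩) * (c ⟨ψ, hψN⟩)) g
    rw [← map_mul, ← map_mul, e]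
  have hmin : ∀ N : Subgroup ↥P, (∀ g ∈ N, (c ⟨σ, hσN⟩) g ∈ N) → N ≠ ⊤ →
      ∀ g ∈ N, (c ⟨ψ, hψN⟩) g = g := by
    intro N hNinv hNne g hg
    have h1 := h.sub (N.map P.subtype) (by
        rintro _ ⟨m, -, rfl⟩
        exact m.2) (by
        intro h'
        apply hNne
        rw [eq_top_iff]
        intro y _
        have h2 : (y : LAut W) ∈ N.map P.subtype := by rw [h']; exact y.2
        obtain ⟨m, hm, hmy⟩ := h2
        have : m = y := Subtype.ext hmy
        rw [← this]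
        exact hm) (by
        rintro _ ⟨m, hm, rfl⟩
        exact ⟨(c ⟨σ, hσN⟩) m, hNinv m hm, hcv _ m⟩) (g : LAut W) ⟨g, hg, rfl⟩
    rw [← hψ] at h1
    apply Subtype.ext
    rw [hcv]
    show ψ * (g : LAut W) * ψ⁻¹ = g
    rw [h1, mul_inv_cancel_right]
  have hβ1 : ∃ g, (c ⟨ψ, hψN⟩) g ≠ g := by
    push Not at hnc
    obtain ⟨x, hx, hne⟩ := hnc
    refine ⟨⟨x, hx⟩, fun heq => hne ?_⟩
    have h1 := congrArg Subtype.val heq
    rw [hcv] at h1
    have h2 : ψ * x * ψ⁻¹ = x := h1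
    calc ψ * x = (ψ * x * ψ⁻¹) * ψ := by group
      _ = x * ψ := by rw [h2]
  have hnab' : ∃ a b : ↥P, a * b ≠ b * a := by
    push Not at hnab
    obtain ⟨x, hx, y, hy, hne⟩ := hnab
    exact ⟨⟨x, hx⟩, ⟨y, hy⟩, fun heq => hne (congrArg Subtype.val heq)⟩
  obtain ⟨h1, h2, h3, h4⟩ := min_struct2 hsg.hr hsg.hp hsg.hrp hsg.Pr (c ⟨σ, hσN⟩)
    (c ⟨ψ, hψN⟩) hβp hαβ hmin hβ1 hnab'
  refine ⟨?_, ?_, ?_, ?_⟩
  · intro x hx y hy
    have := (center_iff_ctr _).1 (h1 ⟨x, hx⟩ ⟨y, hy⟩)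
    rw [commutatorElement_def] at this
    exact this
  · intro z hz
    have h5 := h2 ⟨z, hz.1⟩ ((center_iff_ctr _).2 hz)
    have h6 := congrArg Subtype.val h5
    rw [hcv] at h6
    have h7 : ψ * z * ψ⁻¹ = z := h6
    calc ψ * z = (ψ * z * ψ⁻¹) * ψ := by group
      _ = z * ψ := by rw [h7]
  · intro x hx hmem
    have h5 := h3 ⟨x, hx⟩ ((center_iff_ctr _).2 (by
      show (x : LAut W)⁻¹ * ((c ⟨ψ, hψN⟩ ⟨x, hx⟩ : ↥P) : LAut W) ∈ ctr P
      rw [hcv]
      exact hmem))
    exact (center_iff_ctr _).1 h5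
  · intro z hz
    have h5 := h4 ⟨z, hz.1⟩ ((center_iff_ctr _).2 hz)
    exact congrArg Subtype.val h5

end

end Cfsg.Agent.Lib.Helper63.SG
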