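import Mathlib
import Cfsg.Agent.Lib.Helper63.SGMin

set_option autoImplicit false

namespace Cfsg.Agent.Lib.Helper63.SG

open Cfsg.Agent.Lib.Helper63.S3A
open Cfsg.Agent.Lib.Helper63.Fpq

universe u

section

variable {W : Type u} [AddCommGroup W] [Finite W]
variable {ℓ r p n : ℕ} {σ : LAut W} {P : Subgroup (LAut W)}

theorem ctr_conj_eq {c a : LAut W} (hc : c ∈ ctr P) (ha : a ∈ P) : a * c * a⁻¹ = c := by
  rw [hc.2 a ha, mul_inv_cancel_right]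

/-- the elements of `P` whose commutators with `P` lie in the central subgroup `Y` -/
def Rsub (P Y : Subgroup (LAut W)) (hY : Y ≤ ctr P) : Subgroup (LAut W) where
  carrier := {x | x ∈ P ∧ ∀ y ∈ P, x * y * x⁻¹ * y⁻¹ ∈ Y}
  mul_mem' := by
    rintro a b ⟨ha, ha'⟩ ⟨hb, hb'⟩
    refine ⟨P.mul_mem ha hb, fun y hy => ?_⟩
    have h1 := hb' y hy
    have e : a * b * y * (a * b)⁻¹ * y⁻¹ =
        (a * (b * y * b⁻¹ * y⁻¹) * a⁻¹) * (a * y * a⁻¹ * y⁻¹) := by group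
    rw [e, ctr_conj_eq (hY h1) ha]
    exact Y.mul_mem h1 (ha' y hy)
  one_mem' := ⟨P.one_mem, fun y _ => by
    have e : (1 : LAut W) * y * 1⁻¹ * y⁻¹ = 1 := by group
    rw [e]; exact Y.one_mem⟩
  inv_mem' := by
    rintro a ⟨ha, ha'⟩
    refine ⟨P.inv_mem ha, fun y hy => ?_⟩
    have h1 := Y.inv_mem (ha' y hy)
    have e : a⁻¹ * y * a⁻¹⁻¹ * y⁻¹ = a⁻¹ * (a * y * a⁻¹ * y⁻¹)⁻¹ * a⁻¹⁻¹ := by group
    rw [e, ctr_conj_eq (hY h1) (P.inv_mem ha)]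
    exact h1

theorem mem_Rsub {P Y : Subgroup (LAut W)} {hY : Y ≤ ctr P} {x : LAut W} :
    x ∈ Rsub P Y hY ↔ x ∈ P ∧ ∀ y ∈ P, x * y * x⁻¹ * y⁻¹ ∈ Y := Iff.rfl

theorem Rsub_le {P Y : Subgroup (LAut W)} (hY : Y ≤ ctr P) : Rsub P Y hY ≤ P := fun _ hx => hx.1

theorem ctr_le_Rsub {P Y : Subgroup (LAut W)} (hY : Y ≤ ctr P) : ctr P ≤ Rsub P Y hY := by
  intro z hz
  refine ⟨hz.1, fun y hy => ?_⟩
  have e : z * y * z⁻¹ * y⁻¹ = 1 := by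
    rw [← hz.2 y hy]; group
  rw [e]; exact Y.one_mem

theorem Rsub_conj {P Y : Subgroup (LAut W)} (hY : Y ≤ ctr P) {g : LAut W} (hgP : g ∈ nzr P)
    (hgY : g ∈ nzr Y) : ∀ x ∈ Rsub P Y hY, g * x * g⁻¹ ∈ Rsub P Y hY := by
  rintro x ⟨hx, hx'⟩
  refine ⟨nz_conj hgP x hx, fun y hy => ?_⟩
  have h1 := hx' _ (nz_conj' hgP y hy)
  have e : g * x * g⁻¹ * y * (g * x * g⁻¹)⁻¹ * y⁻¹ =
      g * (x * (g⁻¹ * y * g) * x⁻¹ * (g⁻¹ * y * g)⁻¹) * g⁻¹ := by group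
  rw [e]; exact nz_conj hgY _ h1

/-- the data of the analysis of a nonabelian minimal counterexample -/
structure NA (ℓ r p n : ℕ) (σ : LAut W) (P : Subgroup (LAut W)) (Y : Subgroup (LAut W))
    (M : AddSubgroup W) (k e : ℕ) : Prop where
  mn : Mn ℓ r p n σ P
  c1 : ∀ x ∈ P, ∀ y ∈ P, x * y * x⁻¹ * y⁻¹ ∈ ctr P
  c2 : ∀ z ∈ ctr P, σ ^ p ^ (n - 1) * z = z * σ ^ p ^ (n - 1)
  c3 : ∀ x ∈ P, x⁻¹ * (σ ^ p ^ (n - 1) * x * (σ ^ p ^ (n - 1))⁻¹) ∈ ctr P → x ∈ ctr P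
  c4 : ∀ z ∈ ctr P, z ^ r = 1
  hY : MaxFix (ctr P) Y
  hk : k ≤ n
  per1 : cjS (σ ^ p ^ k) Y = Y
  per2 : ∀ i, 0 < i → i < p ^ k → cjS (σ ^ i) Y ≠ Y
  hke : k ≤ e
  hen : e < n
  cz : σ ^ p ^ e ∈ czq (ctr P) Y
  fixe : ∀ u ∈ FixSp Y, (σ ^ p ^ e) u = u → u = 0
  ek : σ ^ p ^ k ∈ czq (ctr P) Y → e = k
  top : WpF (fun Y' => ∃ i : ℕ, Y' = cjS (σ ^ i) Y) = ⊤
  nonab : ∃ x ∈ P, ∃ y ∈ P, x * y * x⁻¹ * y⁻¹ ∉ Y
  MU : M ≤ FixSp Y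
  M0 : M ≠ ⊥
  MP : ∀ x ∈ P, ∀ w ∈ M, x w ∈ M
  Mτ : ∀ w ∈ M, (σ ^ p ^ e) w ∈ M
  Mmin : ∀ V : AddSubgroup W, V ≤ M → V ≠ ⊥ → (∀ x ∈ P, ∀ w ∈ V, x w ∈ V) →
    (∀ w ∈ V, (σ ^ p ^ e) w ∈ V) → V = M

theorem Mn.exists_NA (h : Mn ℓ r p n σ P)
    (hnc : ¬ ∀ x ∈ P, σ ^ p ^ (n - 1) * x = x * σ ^ p ^ (n - 1))
    (hnab : ¬ ∀ x ∈ P, ∀ y ∈ P, x * y = y * x) :
    ∃ (Y : Subgroup (LAut W)) (M : AddSubgroup W) (k e : ℕ), NA ℓ r p n σ P Y M k e := by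
  have hsg := h.sg
  obtain ⟨c1, c2, c3, c4⟩ := h.special hnc hnab
  have hW : ∃ w : W, w ≠ 0 := by
    by_contra hno
    push Not at hno
    apply hnc
    intro x _
    refine LinearEquiv.ext (fun w => ?_)
    rw [hno ((σ ^ p ^ (n - 1) * x) w), hno ((x * σ ^ p ^ (n - 1)) w)]
  have hZab : ∀ x ∈ ctr P, ∀ y ∈ ctr P, x * y = y * x := fun x hx y hy => hy.2 x hx.1
  have hσN : σ ∈ nzr P := mem_nz P σ hsg.Pσ
  obtain ⟨Y, hY⟩ := MaxFix.exists (ctr P) hW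
  obtain ⟨k, hk, hper1, hper2⟩ := exists_period hsg Y
  obtain ⟨e, hke, hen, hcz, hfixe, hek⟩ :=
    cent_period hsg (ctr_le P) hZab c4 (ctr_conj hσN) hY k hk hper1 hper2
  have hFmax : ∀ Y', (∃ i : ℕ, Y' = cjS (σ ^ i) Y) → MaxFix (ctr P) Y' := by
    rintro Y' ⟨i, rfl⟩
    exact hY.conj _ (pow_norm σ (ctr P) (ctr_conj hσN) i)
  have hFσ : ∀ Y', (∃ i : ℕ, Y' = cjS (σ ^ i) Y) → ∃ i : ℕ, cjS σ Y' = cjS (σ ^ i) Y := by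
    rintro Y' ⟨i, rfl⟩
    exact ⟨i + 1, by rw [← cjS_mul, ← pow_succ']⟩
  have hFP : ∀ x ∈ P, ∀ Y', (∃ i : ℕ, Y' = cjS (σ ^ i) Y) →
      ∃ i : ℕ, cjS x Y' = cjS (σ ^ i) Y := by
    intro x hx Y' hY'
    rw [cjS_cent (fun y hy => ((hFmax Y' hY').1 hy).2 x hx)]
    exact hY'
  have htop := h.dec hnc (ctr_le P) hZab (fun Y' => ∃ i : ℕ, Y' = cjS (σ ^ i) Y) hFmax
    ⟨Y, 0, by rw [pow_zero, cjS_one]⟩ hFσ hFP
  have hnonab : ∃ x ∈ P, ∃ y ∈ P, x * y * x⁻¹ * y⁻¹ ∉ Y := by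
    by_contra hno
    push Not at hno
    apply hnab
    intro x hx y hy
    have h1 : x * y * x⁻¹ * y⁻¹ = 1 := by
      apply eq_one_of_fam htop
      rintro Y' ⟨i, rfl⟩
      rw [mem_cjS]
      have hx' : (σ ^ i)⁻¹ * x * σ ^ i ∈ P := norm_inv P (σ ^ i) (hsg.Ppow i) x hx
      have hy' : (σ ^ i)⁻¹ * y * σ ^ i ∈ P := norm_inv P (σ ^ i) (hsg.Ppow i) y hy
      have e : (σ ^ i)⁻¹ * (x * y * x⁻¹ * y⁻¹) * σ ^ i =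
          ((σ ^ i)⁻¹ * x * σ ^ i) * ((σ ^ i)⁻¹ * y * σ ^ i) * ((σ ^ i)⁻¹ * x * σ ^ i)⁻¹ *
            ((σ ^ i)⁻¹ * y * σ ^ i)⁻¹ := by group
      rw [e]; exact hno _ hx' _ hy'
    calc x * y = (x * y * x⁻¹ * y⁻¹) * (y * x) := by group
      _ = y * x := by rw [h1, one_mul]
  -- the minimal submodule
  have hp0 : FixSp Y ≤ FixSp Y ∧ FixSp Y ≠ ⊥ ∧ (∀ x ∈ P, ∀ w ∈ FixSp Y, x w ∈ FixSp Y) ∧
      (∀ w ∈ FixSp Y, (σ ^ p ^ e) w ∈ FixSp Y) := by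
    refine ⟨le_rfl, hY.2.1, ?_, ?_⟩
    · intro x hx w hw
      exact FixSp_comm (fun y hy => (hY.1 hy).2 x hx) hw
    · intro w hw
      have h1 : (σ ^ p ^ e) w ∈ FixSp (cjS (σ ^ p ^ e) Y) := FixSp_cjS' hw
      rw [cjS_eq_of_nz hcz.2.1] at h1
      exact h1
  obtain ⟨M, -, hM⟩ := Finite.exists_le_minimal
    (p := fun V : AddSubgroup W => V ≤ FixSp Y ∧ V ≠ ⊥ ∧ (∀ x ∈ P, ∀ w ∈ V, x w ∈ V) ∧
      (∀ w ∈ V, (σ ^ p ^ e) w ∈ V)) hp0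
  refine ⟨Y, M, k, e, ⟨h, c1, c2, c3, c4, hY, hk, hper1, hper2, hke, hen, hcz, hfixe, hek, htop,
    hnonab, hM.1.1, hM.1.2.1, hM.1.2.2.1, hM.1.2.2.2, ?_⟩⟩
  intro V hVM hV0 hVP hVτ
  exact le_antisymm hVM (hM.2 ⟨hVM.trans hM.1.1, hV0, hVP, hVτ⟩ hVM)

variable {Y : Subgroup (LAut W)} {M : AddSubgroup W} {k e : ℕ}

theorem NA.sg (h : NA ℓ r p n σ P Y M k e) : SG ℓ r p n σ P := h.mn.sg

theorem NA.YZ (h : NA ℓ r p n σ P Y M k e) : Y ≤ ctr P := h.hY.1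

theorem NA.Zab (h : NA ℓ r p n σ P Y M k e) : ∀ x ∈ ctr P, ∀ y ∈ ctr P, x * y = y * x :=
  fun x hx _ hy => hy.2 x hx.1

theorem NA.Yfix (h : NA ℓ r p n σ P Y M k e) : ∀ y ∈ Y, ∀ w ∈ M, y w = w :=
  fun y hy w hw => h.MU hw y hy

theorem NA.Zfix (h : NA ℓ r p n σ P Y M k e) :
    ∀ z ∈ ctr P, (∀ w ∈ M, z w = w) → z ∈ Y := by
  intro z hz hfix
  by_contra hzY
  apply h.M0
  rw [eq_bot_iff]
  intro w hw
  rw [AddSubgroup.mem_bot]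
  exact h.hY.fpf hz hzY w (h.MU hw) (hfix w hw)

theorem NA.PM (h : NA ℓ r p n σ P Y M k e) : P ≤ stabU M :=
  fun x hx => stabU_of_maps M x (h.MP x hx)

theorem NA.τM (h : NA ℓ r p n σ P Y M k e) : σ ^ p ^ e ∈ stabU M := stabU_of_maps M _ h.Mτ

theorem NA.τP (h : NA ℓ r p n σ P Y M k e) : σ ^ p ^ e ∈ nzr P :=
  Subgroup.pow_mem _ (mem_nz P σ h.sg.Pσ) _

theorem NA.psi_eq (h : NA ℓ r p n σ P Y M k e) :
    (σ ^ p ^ e) ^ p ^ (n - e - 1) = σ ^ p ^ (n - 1) := by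
  have e2 : e + (n - e - 1) = n - 1 := by have := h.hen; omega
  rw [← pow_mul, ← pow_add, e2]

theorem NA.τpow (h : NA ℓ r p n σ P Y M k e) : (σ ^ p ^ e) ^ p ^ (n - e) = 1 := by
  have e2 : e + (n - e) = n := by have := h.hen; omega
  rw [← pow_mul, ← pow_add, e2, h.sg.sp]

/-- modulo the kernel on `M`, the subgroup `Rsub` is the centre of `P` -/
theorem NA.R_lift (h : NA ℓ r p n σ P Y M k e) :
    ∀ x ∈ Rsub P Y h.YZ, ∃ k' ∈ P ⊓ fixer M, x * k' ∈ ctr P := by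
  have hsg := h.sg
  obtain ⟨τ, hτ⟩ : ∃ τ : LAut W, τ = σ ^ p ^ e := ⟨_, rfl⟩
  have hτM : τ ∈ stabU M := by rw [hτ]; exact h.τM
  have hτP : τ ∈ nzr P := by rw [hτ]; exact h.τP
  have hτY : τ ∈ nzr Y := by rw [hτ]; exact h.cz.2.1
  have hne : 0 < n - e := by have := h.hen; omega
  have hsg' := hsg.res M τ (n - e) hne (by rw [hτ]; exact h.τpow) hτM
    (fun w hw hfix => h.fixe w (h.MU hw) (by rw [← hτ]; exact hfix)) (Rsub P Y h.YZ)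
    (Rsub_le h.YZ) (Rsub_conj h.YZ hτP hτY)
  have hRM : Rsub P Y h.YZ ≤ stabU M := (Rsub_le h.YZ).trans h.PM
  have hab' : ∀ a ∈ img M (Rsub P Y h.YZ), ∀ b ∈ img M (Rsub P Y h.YZ), a * b = b * a := by
    intro a ha b hb
    obtain ⟨a', ha', rfl⟩ := mem_img.1 ha
    obtain ⟨b', hb', rfl⟩ := mem_img.1 hb
    have h1 : (a' : LAut W) * b' * (a' : LAut W)⁻¹ * (b' : LAut W)⁻¹ ∈ Y :=
      ha'.2 _ hb'.1
    have h2 : resHom M (a' * b' * a'⁻¹ * b'⁻¹) = 1 := by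
      apply res_eq_one
      intro w hw
      exact h.Yfix _ h1 w hw
    rw [map_mul, map_mul, map_mul, map_inv, map_inv] at h2
    calc resHom M a' * resHom M b'
        = (resHom M a' * resHom M b' * (resHom M a')⁻¹ * (resHom M b')⁻¹) *
            (resHom M b' * resHom M a') := by group
      _ = resHom M b' * resHom M a' := by rw [h2, one_mul]
  have hA := thmA hsg' hab'
  obtain ⟨ψ, hψ⟩ : ∃ ψ : LAut W, ψ = σ ^ p ^ (n - 1) := ⟨_, rfl⟩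
  have hψeq : τ ^ p ^ (n - e - 1) = ψ := by rw [hτ, hψ]; exact h.psi_eq
  have hψM : ψ ∈ stabU M := by rw [← hψeq]; exact Subgroup.pow_mem _ hτM _
  have hψP : ψ ∈ nzr P := by rw [← hψeq]; exact Subgroup.pow_mem _ hτP _
  intro x hx
  have hcw : ∀ w ∈ M, ψ (x w) = x (ψ w) := by
    intro w hw
    have h1 := hA _ (mem_img.2 ⟨⟨x, hRM hx⟩, hx, rfl⟩)
    rw [← map_pow, ← map_mul, ← map_mul] at h1
    have h2 := congrArg (fun e : LAut M => ((e ⟨w, hw⟩ : M) : W)) h1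
    have h3 : (τ ^ p ^ (n - e - 1)) (x w) = x ((τ ^ p ^ (n - e - 1)) w) := h2
    rw [hψeq] at h3
    exact h3
  have hc : x⁻¹ * (ψ * x * ψ⁻¹) ∈ P ⊓ fixer M := by
    refine ⟨P.mul_mem (P.inv_mem hx.1) (nz_conj hψP x hx.1), ?_⟩
    intro w hw
    have hw' : ψ⁻¹ w ∈ M := ((stabU M).inv_mem hψM w).2 hw
    show x⁻¹ (ψ (x (ψ⁻¹ w))) = w
    rw [hcw _ hw', app_inv, inv_app]
  obtain ⟨k', hk', hk1⟩ := liftN ψ p 1 hsg.hp (by rw [pow_one, hψ]; exact hsg.psi_pow)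
    (P ⊓ fixer M) (hsg.notp _ inf_le_left)
    (fun k hk => ⟨nz_conj hψP k hk.1, fixer_conj hψM hk.2⟩) x hc
  refine ⟨k', hk', ?_⟩
  apply h.c3 _ (P.mul_mem hx.1 hk'.1)
  rw [← hψ, hk1, inv_mul_cancel]
  exact Subgroup.one_mem _

end

end Cfsg.Agent.Lib.Helper63.SG
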