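import Mathlib
import Cfsg.Agent.Lib.Helper63.SGNa1

set_option autoImplicit false

namespace Cfsg.Agent.Lib.Helper63.SG

open Cfsg.Agent.Lib.Helper63.S3A
open Cfsg.Agent.Lib.Helper63.Fpq
open Cfsg.Agent.Lib.Helper97.HH
open scoped commutatorElement

universe u

theorem arith_core {r p d N : ℕ} (hr : r.Prime) (hp : p.Prime) (hp2 : p ≠ 2) (hd : 1 ≤ d)
    (hN : 0 < N) (hbound : r ^ (2 * d) ≤ (p ^ N - 1) ^ 2) (hdvd : p ^ N ∣ r ^ (2 * d) - 1) :
    r = 2 ∧ 2 ^ d + 1 = p ^ N := by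
  have hq3 : 3 ≤ p ^ N := by
    have h1 : 3 ≤ p := by
      have := hp.two_le
      omega
    calc 3 ≤ p := h1
      _ = p ^ 1 := (pow_one p).symm
      _ ≤ p ^ N := Nat.pow_le_pow_right hp.pos hN
  have hr2 : 2 ≤ r ^ d := by
    calc 2 ≤ r := hr.two_le
      _ = r ^ 1 := (pow_one r).symm
      _ ≤ r ^ d := Nat.pow_le_pow_right hr.pos hd
  have hle : r ^ d ≤ p ^ N - 1 := by
    have h1 : (r ^ d) ^ 2 ≤ (p ^ N - 1) ^ 2 := by
      rw [← pow_mul, mul_comm]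
      exact hbound
    exact (Nat.pow_le_pow_iff_left (by norm_num)).mp h1
  have hfac : r ^ (2 * d) - 1 = (r ^ d - 1) * (r ^ d + 1) := by
    have h1 : r ^ (2 * d) = r ^ d * r ^ d := by rw [two_mul, pow_add]
    rw [h1]
    obtain ⟨m, hm⟩ : ∃ m, r ^ d = m + 1 := ⟨r ^ d - 1, by omega⟩
    rw [hm]
    simp only [Nat.add_sub_cancel]
    have : (m + 1) * (m + 1) = m * (m + 1 + 1) + 1 := by ring
    rw [this, Nat.add_sub_cancel]
  rw [hfac] at hdvd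
  have heq : r ^ d + 1 = p ^ N := by
    by_cases h1 : p ∣ r ^ d - 1
    · exfalso
      have h2 : ¬ p ∣ r ^ d + 1 := by
        intro h2
        have h3 : p ∣ (r ^ d + 1) - (r ^ d - 1) := Nat.dvd_sub h2 h1
        have h4 : (r ^ d + 1) - (r ^ d - 1) = 2 := by omega
        rw [h4] at h3
        exact hp2 ((Nat.prime_dvd_prime_iff_eq hp Nat.prime_two).1 h3)
      have hc : Nat.Coprime (p ^ N) (r ^ d + 1) :=
        Nat.Coprime.pow_left N ((Nat.Prime.coprime_iff_not_dvd hp).2 h2)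
      have h5 : p ^ N ∣ r ^ d - 1 := hc.dvd_of_dvd_mul_right hdvd
      have := Nat.le_of_dvd (by omega) h5
      omega
    · have hc : Nat.Coprime (p ^ N) (r ^ d - 1) :=
        Nat.Coprime.pow_left N ((Nat.Prime.coprime_iff_not_dvd hp).2 h1)
      have h5 : p ^ N ∣ r ^ d + 1 := hc.dvd_of_dvd_mul_left hdvd
      have := Nat.le_of_dvd (by omega) h5
      omega
  have hr2' : r = 2 := by
    rcases hr.eq_two_or_odd with h | h
    · exact h
    · exfalso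
      have hodd : (r ^ d) % 2 = 1 := by
        rw [Nat.pow_mod, h, one_pow]; rfl
      have hpodd : p % 2 = 1 := by
        rcases hp.eq_two_or_odd with h' | h'
        · exact absurd h' hp2
        · exact h'
      have hqodd : (p ^ N) % 2 = 1 := by
        rw [Nat.pow_mod, hpodd, one_pow]; rfl
      omega
  exact ⟨hr2', by rw [← hr2']; exact heq⟩

/-- automorphisms as additive endomorphisms -/
def toEnd (U : Type*) [AddCommGroup U] : LAut U →* AddMonoid.End U where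
  toFun e := (e : U →ₗ[ℤ] U).toAddMonoidHom
  map_one' := rfl
  map_mul' _ _ := rfl

theorem toEnd_apply {U : Type*} [AddCommGroup U] (e : LAut U) (u : U) : toEnd U e u = e u := rfl

section

variable {W : Type u} [AddCommGroup W] [Finite W]
variable {ℓ r p n : ℕ} {σ : LAut W} {P : Subgroup (LAut W)}

theorem exists_pow_eq_psi (h : SG ℓ r p n σ P) (i : ℕ) (hi : ¬ p ^ n ∣ i) :
    ∃ s : ℕ, (σ ^ i) ^ s = σ ^ p ^ (n - 1) := by
  have hi0 : i ≠ 0 := by rintro rfl; exact hi (dvd_zero _)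
  obtain ⟨a, i', hpi', rfl⟩ := Nat.exists_eq_pow_mul_and_not_dvd hi0 p h.hp.one_lt.ne'
  have han : a < n := by
    by_contra hge
    push Not at hge
    exact hi (Dvd.dvd.mul_right (pow_dvd_pow p hge) i')
  have hcop : Nat.Coprime i' (p ^ n) :=
    Nat.Coprime.pow_right n ((Nat.Prime.coprime_iff_not_dvd h.hp).2 hpi').symm
  have h1 : 1 < p ^ n := Nat.one_lt_pow h.hn.ne' h.hp.one_lt
  obtain ⟨s', -, hs'⟩ := Nat.exists_mul_mod_eq_one_of_coprime hcop h1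
  refine ⟨s' * p ^ (n - 1 - a), ?_⟩
  have e1 : p ^ a * i' * (s' * p ^ (n - 1 - a)) = p ^ (n - 1) * (i' * s') := by
    have e0 : a + (n - 1 - a) = n - 1 := by omega
    have : p ^ (n - 1) = p ^ a * p ^ (n - 1 - a) := by rw [← pow_add, e0]
    rw [this]; ring
  obtain ⟨t, ht⟩ : ∃ t, i' * s' = p ^ n * t + 1 := by
    refine ⟨i' * s' / p ^ n, ?_⟩
    have := Nat.div_add_mod (i' * s') (p ^ n)
    rw [hs'] at this
    exact this.symm
  have e3 : (σ ^ p ^ (n - 1)) ^ p ^ n = 1 := by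
    rw [← pow_mul, mul_comm, pow_mul, h.sp, one_pow]
  calc (σ ^ (p ^ a * i')) ^ (s' * p ^ (n - 1 - a)) = σ ^ (p ^ (n - 1) * (i' * s')) := by
        rw [← pow_mul, e1]
    _ = (σ ^ p ^ (n - 1)) ^ (i' * s') := by rw [pow_mul]
    _ = σ ^ p ^ (n - 1) := by rw [ht, pow_add, pow_one, pow_mul, e3, one_pow, one_mul]

variable {Y : Subgroup (LAut W)} {M : AddSubgroup W} {k e : ℕ}

/-- nontrivial powers of `σ ^ p ^ e` have no fixed points modulo `Rsub` -/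
theorem NA.R_fpf (h : NA ℓ r p n σ P Y M k e) (j : ℕ) (hj : 0 < j) (hjlt : j < p ^ (n - e)) :
    ∀ x ∈ P, x⁻¹ * ((σ ^ p ^ e) ^ j * x * ((σ ^ p ^ e) ^ j)⁻¹) ∈ Rsub P Y h.YZ →
      x ∈ Rsub P Y h.YZ := by
  have hsg := h.sg
  intro x hx hmem
  obtain ⟨θ, hθ⟩ : ∃ θ : LAut W, θ = (σ ^ p ^ e) ^ j := ⟨_, rfl⟩
  rw [← hθ] at hmem
  have hθP : θ ∈ nzr P := by rw [hθ]; exact Subgroup.pow_mem _ h.τP _
  have hθY : θ ∈ nzr Y := by rw [hθ]; exact Subgroup.pow_mem _ h.cz.2.1 _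
  have hnd : ¬ p ^ n ∣ p ^ e * j := by
    intro hd
    have e2 : p ^ n = p ^ e * p ^ (n - e) := by
      rw [← pow_add]; congr 1; have := h.hen; omega
    rw [e2] at hd
    have h1 : p ^ (n - e) ∣ j := Nat.dvd_of_mul_dvd_mul_left (pow_pos hsg.hp.pos e) hd
    have := Nat.le_of_dvd hj h1
    omega
  obtain ⟨s, hs⟩ := exists_pow_eq_psi hsg (p ^ e * j) hnd
  have hθs : θ ^ s = σ ^ p ^ (n - 1) := by
    rw [hθ, ← hs, ← pow_mul σ (p ^ e) j]
  have hpow : ∀ s : ℕ, x⁻¹ * (θ ^ s * x * (θ ^ s)⁻¹) ∈ Rsub P Y h.YZ := by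
    intro s
    induction s with
    | zero =>
      have e1 : x⁻¹ * (θ ^ 0 * x * (θ ^ 0)⁻¹) = 1 := by rw [pow_zero]; group
      rw [e1]; exact Subgroup.one_mem _
    | succ s ih =>
      have e1 : x⁻¹ * (θ ^ (s + 1) * x * (θ ^ (s + 1))⁻¹) =
          (x⁻¹ * (θ * x * θ⁻¹)) * (θ * (x⁻¹ * (θ ^ s * x * (θ ^ s)⁻¹)) * θ⁻¹) := by
        rw [pow_succ']; group
      rw [e1]
      exact Subgroup.mul_mem _ hmem (Rsub_conj h.YZ hθP hθY _ ih)
  have h1 := hpow s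
  rw [hθs] at h1
  obtain ⟨ψ, hψ⟩ : ∃ ψ : LAut W, ψ = σ ^ p ^ (n - 1) := ⟨_, rfl⟩
  rw [← hψ] at h1
  have hψP : ψ ∈ nzr P := by rw [hψ, ← h.psi_eq]; exact Subgroup.pow_mem _ h.τP _
  have hψY : ψ ∈ nzr Y := by rw [hψ, ← h.psi_eq]; exact Subgroup.pow_mem _ h.cz.2.1 _
  obtain ⟨k', hk', hk1⟩ := liftN ψ p 1 hsg.hp (by rw [pow_one, hψ]; exact hsg.psi_pow)
    (Rsub P Y h.YZ) (hsg.notp _ (Rsub_le h.YZ)) (Rsub_conj h.YZ hψP hψY) x h1
  have h2 : x * k' ∈ ctr P := by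
    apply h.c3 _ (P.mul_mem hx hk'.1)
    rw [← hψ, hk1, inv_mul_cancel]
    exact Subgroup.one_mem _
  have h3 : x = (x * k') * k'⁻¹ := by group
  rw [h3]
  exact Subgroup.mul_mem _ (ctr_le_Rsub h.YZ h2) (Subgroup.inv_mem _ hk')

/-- the Hall–Higman type conclusion for a nonabelian minimal counterexample -/
theorem NA.arith (h : NA ℓ r p n σ P Y M k e) :
    r = 2 ∧ ∃ d, 1 ≤ d ∧ 2 ^ d + 1 = p ^ (n - e) ∧
      ((Rsub P Y h.YZ).subgroupOf P).index = 2 ^ (2 * d) := by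
  classical
  have hsg := h.sg
  haveI : Fact r.Prime := ⟨hsg.hr⟩
  obtain ⟨τ, hτ⟩ : ∃ τ : LAut W, τ = σ ^ p ^ e := ⟨_, rfl⟩
  have hτM : τ ∈ stabU M := by rw [hτ]; exact h.τM
  have hτP : τ ∈ nzr P := by rw [hτ]; exact h.τP
  have hτcz : τ ∈ czq (ctr P) Y := by rw [hτ]; exact h.cz
  have hPM := h.PM
  have hne : 0 < n - e := by have := h.hen; omega
  haveI : Nontrivial ↥M := by
    obtain ⟨a, ha⟩ := (AddSubgroup.ne_bot_iff_exists_ne_zero).1 h.M0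
    exact ⟨⟨a, 0, ha⟩⟩
  -- the restriction homomorphism
  let f : ↥P →* ↥(img M P) :=
    { toFun := fun x => ⟨resHom M ⟨x, hPM x.2⟩, mem_img.2 ⟨⟨x, hPM x.2⟩, x.2, rfl⟩⟩
      map_one' := Subtype.ext (map_one (resHom M))
      map_mul' := fun a b => Subtype.ext (map_mul (resHom M) ⟨a, hPM a.2⟩ ⟨b, hPM b.2⟩) }
  have hfv : ∀ (x : ↥P) (w : M),
      (((f x : ↥(img M P)) : LAut M) w : W) = (x : LAut W) (w : W) := fun _ _ => rfl
  have hfs : Function.Surjective f := by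
    intro y
    obtain ⟨x, hx, hxy⟩ := mem_img.1 y.2
    exact ⟨⟨x, hx⟩, Subtype.ext hxy⟩
  have hext : ∀ a b : ↥(img M P),
      (∀ w : M, ((a : LAut M) w : W) = ((b : LAut M) w : W)) → a = b :=
    fun a b hab => Subtype.ext (LinearEquiv.ext (fun w => Subtype.ext (hab w)))
  have hcen : ∀ x : ↥P, f x ∈ Subgroup.center ↥(img M P) ↔ (x : LAut W) ∈ Rsub P Y h.YZ := by
    intro x
    constructor
    · intro hc
      refine ⟨x.2, fun y hy => ?_⟩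
      apply h.Zfix _ (h.c1 x x.2 y hy)
      intro w hw
      have h1 := Subgroup.mem_center_iff.1 hc (f ⟨y, hy⟩)
      have h2 : f (x * ⟨y, hy⟩ * x⁻¹ * ⟨y, hy⟩⁻¹) = 1 := by
        rw [map_mul, map_mul, map_mul, map_inv, map_inv, ← h1]; group
      have h3 := hfv (x * ⟨y, hy⟩ * x⁻¹ * ⟨y, hy⟩⁻¹) ⟨w, hw⟩
      rw [h2] at h3
      exact h3.symm
    · intro hx
      rw [Subgroup.mem_center_iff]
      intro g
      obtain ⟨y, rfl⟩ := hfs g
      rw [← map_mul, ← map_mul]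
      apply hext
      intro w
      rw [hfv, hfv]
      show (y : LAut W) ((x : LAut W) (w : W)) = (x : LAut W) ((y : LAut W) (w : W))
      have h1 := hx.2 y y.2
      have h2 : (y : LAut W) ((x : LAut W) (w : W)) ∈ M := h.MP _ y.2 _ (h.MP _ x.2 _ w.2)
      have h3 := h.Yfix _ h1 _ h2
      have h4 : ((x : LAut W) * y * (x : LAut W)⁻¹ * (y : LAut W)⁻¹)
          ((y : LAut W) ((x : LAut W) (w : W))) = (x : LAut W) ((y : LAut W) (w : W)) := by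
        show (x : LAut W) ((y : LAut W) ((x : LAut W)⁻¹ ((y : LAut W)⁻¹
          ((y : LAut W) ((x : LAut W) (w : W)))))) = _
        rw [inv_app, inv_app]
      rw [h4] at h3
      exact h3.symm
  have hcomm : ∀ g g' : ↥(img M P), ⁅g, g'⁆ ∈ Subgroup.center ↥(img M P) := by
    intro g g'
    obtain ⟨x, rfl⟩ := hfs g
    obtain ⟨y, rfl⟩ := hfs g'
    rw [← map_commutatorElement, hcen]
    apply ctr_le_Rsub h.YZ
    rw [commutatorElement_def]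
    exact h.c1 _ x.2 _ y.2
  -- the centre has order `r`
  obtain ⟨x₁, hx₁P, y₁, hy₁P, hc₁⟩ := h.nonab
  obtain ⟨x₀, hx₀⟩ : ∃ x₀ : LAut W, x₀ = x₁ * y₁ * x₁⁻¹ * y₁⁻¹ := ⟨_, rfl⟩
  have hx₀Z : x₀ ∈ ctr P := by rw [hx₀]; exact h.c1 _ hx₁P _ hy₁P
  have hx₀Y : x₀ ∉ Y := by rw [hx₀]; exact hc₁
  have hcyc := semi h.Zab h.hY r hsg.hr h.c4 hsg.rW x₀ hx₀Z hx₀Y
  obtain ⟨g₀, hg₀⟩ : ∃ g₀ : ↥(img M P), g₀ = f ⟨x₀, hx₀Z.1⟩ := ⟨_, rfl⟩
  have hg₀c : g₀ ∈ Subgroup.center ↥(img M P) := by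
    rw [hg₀, hcen]; exact ctr_le_Rsub h.YZ hx₀Z
  have hg₀r : g₀ ^ r = 1 := by
    rw [hg₀, ← map_pow]
    have e1 : (⟨x₀, hx₀Z.1⟩ : ↥P) ^ r = 1 := Subtype.ext (h.c4 x₀ hx₀Z)
    rw [e1, map_one]
  have hg₀1 : g₀ ≠ 1 := by
    intro h1
    apply hx₀Y
    apply h.Zfix x₀ hx₀Z
    intro w hw
    have h2 := hfv ⟨x₀, hx₀Z.1⟩ ⟨w, hw⟩
    rw [← hg₀, h1] at h2
    exact h2.symm
  have hZgen : ∀ g ∈ Subgroup.center ↥(img M P), g ∈ Subgroup.zpowers g₀ := by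
    intro g hg
    obtain ⟨x, rfl⟩ := hfs g
    rw [hcen] at hg
    obtain ⟨k', hk', hxk⟩ := h.R_lift _ hg
    obtain ⟨m, hm⟩ := hcyc _ hxk
    rw [Subgroup.mem_zpowers_iff]
    refine ⟨m, ?_⟩
    rw [zpow_natCast, hg₀, ← map_pow]
    apply hext
    intro w
    rw [hfv, hfv]
    show (x₀ ^ m) (w : W) = (x : LAut W) (w : W)
    have h1 : (x₀ ^ m) (w : W) ∈ M := h.MP _ (P.pow_mem hx₀Z.1 m) _ w.2
    have h2 := h.Yfix _ hm _ h1
    have h3 : ((x : LAut W) * k' * (x₀ ^ m)⁻¹) ((x₀ ^ m) (w : W)) = (x : LAut W) (w : W) := by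
      show (x : LAut W) (k' ((x₀ ^ m)⁻¹ ((x₀ ^ m) (w : W)))) = _
      rw [inv_app, hk'.2 _ w.2]
    rw [h3] at h2
    exact h2.symm
  have hZeq : Subgroup.center ↥(img M P) = Subgroup.zpowers g₀ :=
    le_antisymm hZgen (by rw [Subgroup.zpowers_le]; exact hg₀c)
  have hZcard : Nat.card (Subgroup.center ↥(img M P)) = r := by
    rw [hZeq, Nat.card_zpowers, orderOf_eq_prime hg₀r hg₀1]
  have hc' : ∀ a b : ↥(img M P), a * b * a⁻¹ * b⁻¹ ∈ Subgroup.center ↥(img M P) := by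
    intro a b
    have := hcomm a b
    rwa [commutatorElement_def] at this
  obtain ⟨d, hcardQ, hd1⟩ := Cfsg.Agent.S0095.key (p := r) (Nat.card ↥(img M P)) ↥(img M P) rfl
    hZcard hc'
  have hd : 1 ≤ d := by
    apply hd1
    refine ⟨f ⟨x₁, hx₁P⟩, f ⟨y₁, hy₁P⟩, fun heq => hc₁ ?_⟩
    apply h.Zfix _ (h.c1 _ hx₁P _ hy₁P)
    intro w hw
    have h2 : f (⟨x₁, hx₁P⟩ * ⟨y₁, hy₁P⟩ * ⟨x₁, hx₁P⟩⁻¹ * ⟨y₁, hy₁P⟩⁻¹) = 1 := by
      rw [map_mul, map_mul, map_mul, map_inv, map_inv, heq]; group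
    have h3 := hfv (⟨x₁, hx₁P⟩ * ⟨y₁, hy₁P⟩ * ⟨x₁, hx₁P⟩⁻¹ * ⟨y₁, hy₁P⟩⁻¹) ⟨w, hw⟩
    rw [h2] at h3
    exact h3.symm
  have hquot : Nat.card (↥(img M P) ⧸ Subgroup.center ↥(img M P)) = r ^ (2 * d) := by
    have h1 := Subgroup.card_eq_card_quotient_mul_card_subgroup (Subgroup.center ↥(img M P))
    rw [hcardQ, hZcard, pow_succ] at h1
    exact (Nat.eq_of_mul_eq_mul_right hsg.hr.pos h1).symm
  -- the automorphism
  obtain ⟨tM, htM⟩ : ∃ tM : LAut M, tM = resHom M ⟨τ, hτM⟩ := ⟨_, rfl⟩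
  have htMv : ∀ w : M, ((tM w : M) : W) = τ (w : W) := by intro w; rw [htM]; rfl
  have htMN : tM ∈ nzr (img M P) := by
    rw [htM]; exact mem_nz _ _ (img_conj ⟨τ, hτM⟩ (fun x hx => nz_conj hτP x hx))
  have hnorm' : ∀ e' ∈ nzr (img M P), ∀ z ∈ img M P, e' * z * e'⁻¹ ∈ img M P :=
    fun e' he z hz => nz_conj he z hz
  obtain ⟨cc, hcc⟩ : ∃ cc : ↥(nzr (img M P)) →* MulAut ↥(img M P),
      cc = Cfsg.Agent.Lib.Helper97.FrobCount.conjOn (nzr (img M P)) (img M P) hnorm' := ⟨_, rfl⟩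
  have hccv : ∀ (e' : nzr (img M P)) (g : ↥(img M P)),
      ((cc e' g : ↥(img M P)) : LAut M) = e' * g * (e' : LAut M)⁻¹ := by
    intro e' g; rw [hcc]; rfl
  obtain ⟨α, hα⟩ : ∃ α : MulAut ↥(img M P), α = cc ⟨tM, htMN⟩ := ⟨_, rfl⟩
  have hαpow : ∀ (j : ℕ) (g : ↥(img M P)),
      (((α ^ j) g : ↥(img M P)) : LAut M) = tM ^ j * g * (tM ^ j)⁻¹ := by
    intro j g
    rw [hα, ← map_pow, hccv]
    rfl
  have hαf : ∀ (j : ℕ) (x : ↥P), (α ^ j) (f x) =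
      f ⟨τ ^ j * x * (τ ^ j)⁻¹, nz_conj (Subgroup.pow_mem _ hτP j) x x.2⟩ := by
    intro j x
    apply Subtype.ext
    rw [hαpow]
    have e1 : tM ^ j * ((f x : ↥(img M P)) : LAut M) * (tM ^ j)⁻¹ =
        resHom M ((⟨τ, hτM⟩ : stabU M) ^ j * ⟨x, hPM x.2⟩ * ((⟨τ, hτM⟩ : stabU M) ^ j)⁻¹) := by
      rw [htM, map_mul, map_mul, map_inv, map_pow]; rfl
    rw [e1]; rfl
  have htMpow : tM ^ p ^ (n - e) = 1 := by
    rw [htM, ← map_pow]
    have e1 : (⟨τ, hτM⟩ : stabU M) ^ p ^ (n - e) = 1 := Subtype.ext (by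
      show τ ^ p ^ (n - e) = 1
      rw [hτ]; exact h.τpow)
    rw [e1, map_one]
  have hαN : α ^ p ^ (n - e) = 1 := by
    refine MulEquiv.ext (fun g => Subtype.ext ?_)
    rw [hαpow, htMpow, one_mul, inv_one, mul_one]
    rfl
  have hNpos : 0 < p ^ (n - e) := pow_pos hsg.hp.pos _
  have hαfpf : ∀ j, 0 < j → j < p ^ (n - e) → ∀ g : ↥(img M P),
      g⁻¹ * (α ^ j) g ∈ Subgroup.center ↥(img M P) → g ∈ Subgroup.center ↥(img M P) := by
    intro j hj hjlt g hg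
    obtain ⟨x, rfl⟩ := hfs g
    rw [hαf, ← map_inv, ← map_mul, hcen] at hg
    rw [hcen]
    have h1 := h.R_fpf j hj hjlt x x.2
    rw [← hτ] at h1
    exact h1 hg
  have hαZ : ∀ z ∈ Subgroup.center ↥(img M P), α z = z := by
    intro z hz
    obtain ⟨x, rfl⟩ := hfs z
    rw [hcen] at hz
    obtain ⟨k', hk', hxk⟩ := h.R_lift _ hz
    have h1 := hαf 1 x
    rw [pow_one] at h1
    rw [h1]
    apply hext
    intro w
    rw [hfv, hfv]
    show (τ ^ 1 * (x : LAut W) * (τ ^ 1)⁻¹) (w : W) = (x : LAut W) (w : W)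
    rw [pow_one]
    have hw' : τ⁻¹ (w : W) ∈ M := ((stabU M).inv_mem hτM _).2 w.2
    have h2 : (τ * (x : LAut W) * τ⁻¹) (w : W) = (τ * ((x : LAut W) * k') * τ⁻¹) (w : W) := by
      show τ ((x : LAut W) (τ⁻¹ (w : W))) = τ ((x : LAut W) (k' (τ⁻¹ (w : W))))
      rw [hk'.2 _ hw']
    have h3 := hτcz.2.2 _ hxk
    have h4 : ((x : LAut W) * k') (w : W) ∈ M := h.MP _ (P.mul_mem x.2 hk'.1) _ w.2
    have h5 := h.Yfix _ h3 _ h4
    have h6 : (τ * ((x : LAut W) * k') * τ⁻¹ * ((x : LAut W) * k')⁻¹)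
        (((x : LAut W) * k') (w : W)) = (τ * ((x : LAut W) * k') * τ⁻¹) (w : W) := by
      show (τ * ((x : LAut W) * k') * τ⁻¹) (((x : LAut W) * k')⁻¹
        (((x : LAut W) * k') (w : W))) = _
      rw [inv_app]
    rw [h6] at h5
    rw [h2, h5]
    show (x : LAut W) (k' (w : W)) = _
    rw [hk'.2 _ w.2]
  have hcop : Nat.Coprime (p ^ (n - e)) ℓ :=
    Nat.Coprime.pow_left _ ((Nat.coprime_primes hsg.hp hsg.hℓ).2 (Ne.symm hsg.hℓp))
  have hQcop : ¬ ℓ ∣ Nat.card ↥(img M P) := by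
    rw [hcardQ]
    intro hd'
    exact hsg.hrℓ ((Nat.prime_dvd_prime_iff_eq hsg.hℓ hsg.hr).1 (hsg.hℓ.dvd_of_dvd_pow hd')).symm
  have hirr : ∀ V : AddSubgroup ↥M,
      (∀ g : ↥(img M P), ∀ x ∈ V, ((toEnd M).comp (img M P).subtype) g x ∈ V) →
      (∀ x ∈ V, toEnd M tM x ∈ V) → V = ⊥ ∨ V = ⊤ := by
    intro V hVρ hVξ
    by_cases hV0 : V = ⊥
    · exact Or.inl hV0
    right
    have h1 := h.Mmin (V.map M.subtype) (by
        rintro _ ⟨v, -, rfl⟩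
        exact v.2) (by
        intro hbot
        apply hV0
        rw [eq_bot_iff]
        intro v hv
        have h2 : (v : W) ∈ V.map M.subtype := ⟨v, hv, rfl⟩
        rw [hbot, AddSubgroup.mem_bot] at h2
        rw [AddSubgroup.mem_bot]
        exact Subtype.ext h2) (by
        rintro x hx _ ⟨v, hv, rfl⟩
        exact ⟨((toEnd M).comp (img M P).subtype) (f ⟨x, hx⟩) v, hVρ _ v hv, rfl⟩) (by
        rintro _ ⟨v, hv, rfl⟩
        refine ⟨toEnd M tM v, hVξ v hv, ?_⟩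
        show ((tM v : M) : W) = _
        rw [htMv, hτ]
        rfl)
    rw [eq_top_iff]
    intro m _
    have h2 : (m : W) ∈ V.map M.subtype := by rw [h1]; exact m.2
    obtain ⟨v, hv, hvm⟩ := h2
    have : v = m := Subtype.ext hvm
    rw [← this]; exact hv
  obtain ⟨-, hbound⟩ := hh_core_genN (M := ↥M) ((toEnd M).comp (img M P).subtype) α
    (toEnd M tM) (toEnd M tM⁻¹)
    (by rw [← map_mul, mul_inv_cancel, map_one])
    (by rw [← map_mul, inv_mul_cancel, map_one])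
    (by
      intro g
      show toEnd M tM * toEnd M (g : LAut M) = toEnd M ((α g : ↥(img M P)) : LAut M) * toEnd M tM
      rw [← map_mul, ← map_mul]
      congr 1
      have h1 := hαpow 1 g
      rw [pow_one, pow_one] at h1
      rw [h1, inv_mul_cancel_right])
    hsg.hℓ hNpos hcop hQcop hcomm hαN hαfpf hαZ
    (by rw [← map_pow, htMpow, map_one])
    (fun m => Subtype.ext (hsg.exp m))
    (by
      intro z _ hz1
      apply Subtype.ext
      refine LinearEquiv.ext (fun w => ?_)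
      have h1 := congrArg (fun E : AddMonoid.End ↥M => E w) hz1
      exact h1)
    (by
      intro m hm
      have h1 : ((tM m : M) : W) = m := congrArg Subtype.val hm
      rw [htMv] at h1
      exact Subtype.ext (h.fixe _ (h.MU m.2) (by rw [← hτ]; exact h1)))
    hirr
  have hdvd := card_sub_one_dvdN (quotPerm α) hNpos (quotPerm_pow_eq_one α hαN) 1
    (quotPerm_one α) (fun j hj hjlt => quotPerm_fixN α j (hαfpf j hj hjlt))
  rw [hquot] at hbound hdvd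
  obtain ⟨hr2, hdq⟩ := arith_core hsg.hr hsg.hp hsg.hp2 hd hne hbound hdvd
  refine ⟨hr2, d, hd, hdq, ?_⟩
  have hcomap : (Rsub P Y h.YZ).subgroupOf P = (Subgroup.center ↥(img M P)).comap f := by
    ext x
    rw [Subgroup.mem_subgroupOf, Subgroup.mem_comap, hcen]
  rw [hcomap, Subgroup.index_comap_of_surjective _ hfs, Subgroup.index_eq_card, hquot, hr2]

end

end Cfsg.Agent.Lib.Helper63.SG
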