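import Mathlib
import Cfsg.Agent.Lib.Helper63.SGNa2

set_option autoImplicit false

namespace Cfsg.Agent.Lib.Helper63.SG

open Cfsg.Agent.Lib.Helper63.S3A
open Cfsg.Agent.Lib.Helper63.Fpq
open Cfsg.Agent.Lib.Helper97.HH

universe u

/-- arithmetic: if `2 ^ d + 1` divides `2 ^ a - 1` then `2 * d` divides `a` -/
theorem two_dvd_core {d a q : ℕ} (hd : 1 ≤ d) (hq : 2 ^ d + 1 = q) (hdvd : q ∣ 2 ^ a - 1) :
    2 * d ∣ a := by
  have h2d : ((2 : ZMod q) ^ d) = -1 := by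
    have h1 : ((2 ^ d + 1 : ℕ) : ZMod q) = 0 := by rw [hq]; exact ZMod.natCast_self q
    push_cast at h1
    exact eq_neg_of_add_eq_zero_left h1
  have h2a : (2 : ZMod q) ^ a = 1 := by
    have h1 : ((2 ^ a - 1 : ℕ) : ZMod q) = 0 := (ZMod.natCast_eq_zero_iff _ _).2 hdvd
    rw [Nat.cast_sub Nat.one_le_two_pow] at h1
    push_cast at h1
    exact sub_eq_zero.1 h1
  have h4 : (2 : ZMod q) ^ (2 * d) = 1 := by
    rw [mul_comm, pow_mul, h2d]; norm_num
  have hmod : (2 : ZMod q) ^ (a % (2 * d)) = 1 := by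
    have e : a = 2 * d * (a / (2 * d)) + a % (2 * d) := (Nat.div_add_mod a (2 * d)).symm
    rw [e, pow_add, pow_mul, h4, one_pow, one_mul] at h2a
    exact h2a
  obtain ⟨t, ht⟩ : ∃ t, t = a % (2 * d) := ⟨_, rfl⟩
  have htlt : t < 2 * d := by rw [ht]; exact Nat.mod_lt _ (by omega)
  rw [← ht] at hmod
  rw [Nat.dvd_iff_mod_eq_zero, ← ht]
  by_contra ht0
  have hq3 : 3 ≤ q := by
    have h1 : 2 ≤ 2 ^ d := by
      calc 2 = 2 ^ 1 := (pow_one 2).symm
        _ ≤ 2 ^ d := Nat.pow_le_pow_right (by norm_num) hd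
    omega
  rcases Nat.lt_or_ge d t with hlt | hle
  · obtain ⟨s, rfl⟩ : ∃ s, t = d + s := ⟨t - d, by omega⟩
    rw [pow_add, h2d] at hmod
    have h5 : ((2 ^ s + 1 : ℕ) : ZMod q) = 0 := by
      push_cast
      have h6 : (2 : ZMod q) ^ s = -1 := by
        have h7 := congrArg (fun z => -z) hmod
        simpa using h7
      rw [h6]; ring
    have h6 : q ∣ 2 ^ s + 1 := (ZMod.natCast_eq_zero_iff _ _).1 h5
    have h7 : 2 ^ s < 2 ^ d := Nat.pow_lt_pow_right (by norm_num) (by omega)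
    have h8 := Nat.le_of_dvd (Nat.succ_pos _) h6
    omega
  · have h5 : ((2 ^ t - 1 : ℕ) : ZMod q) = 0 := by
      rw [Nat.cast_sub Nat.one_le_two_pow]
      push_cast
      rw [hmod, sub_self]
    have h6 : q ∣ 2 ^ t - 1 := (ZMod.natCast_eq_zero_iff _ _).1 h5
    have h7 : 2 ^ t ≤ 2 ^ d := Nat.pow_le_pow_right (by norm_num) hle
    have h8 : 2 ≤ 2 ^ t := by
      calc 2 = 2 ^ 1 := (pow_one 2).symm
        _ ≤ 2 ^ t := Nat.pow_le_pow_right (by norm_num) (by omega)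
    have h9 := Nat.le_of_dvd (by omega) h6
    omega

/-- arithmetic: lifting the exponent -/
theorem two_lte {p d N k' a : ℕ} (hp : p.Prime) (hp2 : p ≠ 2) (hd : 1 ≤ d) (hN : 0 < N)
    (hq : 2 ^ d + 1 = p ^ N) (ha : 0 < a) (hdvd : p ^ (N + k') ∣ 2 ^ a - 1) :
    2 * d * p ^ k' ≤ a := by
  haveI : Fact p.Prime := ⟨hp⟩
  have hodd : Odd p := hp.odd_of_ne_two hp2
  have h1 : p ^ N ∣ 2 ^ a - 1 := (pow_dvd_pow p (Nat.le_add_right N k')).trans hdvd
  obtain ⟨s, hs⟩ := two_dvd_core hd hq h1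
  have hs0 : s ≠ 0 := by
    rintro rfl
    rw [mul_zero] at hs
    omega
  have hd1 : 1 ≤ 2 ^ d := Nat.one_le_two_pow
  have hx : 1 < 2 ^ (2 * d) := Nat.one_lt_two_pow (by omega)
  have hfac : 2 ^ (2 * d) - 1 = (2 ^ d - 1) * p ^ N := by
    rw [← hq]
    have h1 : 2 ^ (2 * d) = 2 ^ d * 2 ^ d := by rw [two_mul, pow_add]
    rw [h1]
    obtain ⟨m, hm⟩ : ∃ m, 2 ^ d = m + 1 := ⟨2 ^ d - 1, by omega⟩
    rw [hm]
    simp only [Nat.add_sub_cancel]
    have h2 : (m + 1) * (m + 1) = m * (m + 1 + 1) + 1 := by ring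
    rw [h2, Nat.add_sub_cancel]
  have hpdvd : p ∣ 2 ^ (2 * d) - 1 := by
    rw [hfac]; exact Dvd.dvd.mul_left (dvd_pow_self p hN.ne') _
  have hpx : ¬ p ∣ 2 ^ (2 * d) := by
    intro h
    exact hp2 ((Nat.prime_dvd_prime_iff_eq hp Nat.prime_two).1 (hp.dvd_of_dvd_pow h))
  have hlte := padicValNat.pow_sub_pow hodd hx hpdvd hpx hs0
  rw [one_pow, ← pow_mul, ← hs] at hlte
  have hnd : ¬ p ∣ 2 ^ d - 1 := by
    intro h
    have h2 : p ∣ 2 ^ d + 1 := by rw [hq]; exact dvd_pow_self p hN.ne'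
    have h3 : p ∣ (2 ^ d + 1) - (2 ^ d - 1) := Nat.dvd_sub h2 h
    have h4 : (2 ^ d + 1) - (2 ^ d - 1) = 2 := by omega
    rw [h4] at h3
    exact hp2 ((Nat.prime_dvd_prime_iff_eq hp Nat.prime_two).1 h3)
  have hd2 : 2 ≤ 2 ^ d := by
    calc 2 = 2 ^ 1 := (pow_one 2).symm
      _ ≤ 2 ^ d := Nat.pow_le_pow_right (by norm_num) hd
  have hv : padicValNat p (2 ^ (2 * d) - 1) = N := by
    rw [hfac, padicValNat.mul (by omega) (pow_pos hp.pos N).ne',
      padicValNat.eq_zero_of_not_dvd hnd, zero_add, padicValNat.prime_pow]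
  have hne : 2 ^ a - 1 ≠ 0 := by
    have h2 : 2 ≤ 2 ^ a := by
      calc 2 = 2 ^ 1 := (pow_one 2).symm
        _ ≤ 2 ^ a := Nat.pow_le_pow_right (by norm_num) ha
    omega
  have h5 := (padicValNat_dvd_iff_le hne).1 hdvd
  rw [hlte, hv] at h5
  have h6 : k' ≤ padicValNat p s := by omega
  have h7 : p ^ k' ∣ s := (padicValNat_dvd_iff_le hs0).2 h6
  have h8 := Nat.le_of_dvd (Nat.pos_of_ne_zero hs0) h7
  rw [hs]
  exact Nat.mul_le_mul_left _ h8

/-- an intersection of few subgroups of small index is not contained in a subgroup whose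
intersection with it has large index -/
theorem exists_not_mem_of_index {G : Type*} [Group G] [Finite G] {m N : ℕ}
    (Rs : Fin m → Subgroup G) (R0 Zc : Subgroup G) (hle : (⨅ i, Rs i) ⊓ R0 ≤ Zc)
    (hidx : ∀ i, (Rs i).index ≤ N) (hZ : N ^ m < Zc.index) :
    ∃ x, (∀ i, x ∈ Rs i) ∧ x ∉ R0 := by
  by_contra hno
  push Not at hno
  have h1 : (⨅ i, Rs i) ≤ Zc := by
    intro x hx
    apply hle
    exact ⟨hx, hno x (fun i => (Subgroup.mem_iInf.1 hx) i)⟩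
  have h2 := Subgroup.index_dvd_of_le h1
  have h3 := Subgroup.index_iInf_le Rs
  have h4 : ∏ i, (Rs i).index ≤ N ^ m := by
    calc ∏ i, (Rs i).index ≤ ∏ _i : Fin m, N :=
          Finset.prod_le_prod (fun i _ => Nat.zero_le _) (fun i _ => hidx i)
      _ = N ^ m := by rw [Finset.prod_const, Finset.card_univ, Fintype.card_fin]
  have h5 : (⨅ i, Rs i).index ≠ 0 := Subgroup.index_ne_zero_of_finite
  have h6 := Nat.le_of_dvd (Nat.pos_of_ne_zero h5) h2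
  omega

section

variable {W : Type u} [AddCommGroup W] [Finite W]
variable {ℓ r p n : ℕ} {σ : LAut W} {P : Subgroup (LAut W)}
variable {Y : Subgroup (LAut W)} {M : AddSubgroup W} {k e : ℕ}

/-- the family of conjugates is periodic -/
theorem NA.per (h : NA ℓ r p n σ P Y M k e) (i : ℕ) :
    cjS (σ ^ i) Y = cjS (σ ^ (i % p ^ k)) Y := by
  have e1 : i = i % p ^ k + p ^ k * (i / p ^ k) := (Nat.mod_add_div i (p ^ k)).symm
  conv_lhs => rw [e1, pow_add, cjS_mul, cjS_pow_mul σ Y (p ^ k) h.per1]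

/-- the powers of `σ` have no fixed points modulo the centre -/
theorem NA.ctr_fpf (h : NA ℓ r p n σ P Y M k e) (j : ℕ) (hj : ¬ p ^ n ∣ j) :
    ∀ x ∈ P, x⁻¹ * (σ ^ j * x * (σ ^ j)⁻¹) ∈ ctr P → x ∈ ctr P := by
  have hsg := h.sg
  intro x hx hmem
  obtain ⟨θ, hθ⟩ : ∃ θ : LAut W, θ = σ ^ j := ⟨_, rfl⟩
  rw [← hθ] at hmem
  have hσP : σ ∈ nzr P := mem_nz P σ hsg.Pσ
  have hθP : θ ∈ nzr P := by rw [hθ]; exact Subgroup.pow_mem _ hσP _
  obtain ⟨s, hs⟩ := exists_pow_eq_psi hsg j hj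
  rw [← hθ] at hs
  have hpow : ∀ s : ℕ, x⁻¹ * (θ ^ s * x * (θ ^ s)⁻¹) ∈ ctr P := by
    intro s
    induction s with
    | zero =>
      have e1 : x⁻¹ * (θ ^ 0 * x * (θ ^ 0)⁻¹) = 1 := by rw [pow_zero]; group
      rw [e1]; exact Subgroup.one_mem _
    | succ s ih =>
      have e1 : x⁻¹ * (θ ^ (s + 1) * x * (θ ^ (s + 1))⁻¹) =
          (x⁻¹ * (θ * x * θ⁻¹)) * (θ * (x⁻¹ * (θ ^ s * x * (θ ^ s)⁻¹)) * θ⁻¹) := by
        rw [pow_succ']; group
      rw [e1]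
      exact Subgroup.mul_mem _ hmem (ctr_conj hθP _ ih)
  have h1 := hpow s
  rw [hs] at h1
  exact h.c3 x hx h1

/-- the index of the centre -/
theorem NA.center_index (h : NA ℓ r p n σ P Y M k e) (hr2 : r = 2) :
    ∃ a, (Subgroup.center ↥P).index = 2 ^ a ∧ p ^ n ∣ 2 ^ a - 1 := by
  have hsg := h.sg
  haveI : Fact (2 : ℕ).Prime := ⟨Nat.prime_two⟩
  have hP2 : IsPGroup 2 ↥P := by rw [← hr2]; exact hsg.Pr
  obtain ⟨a, ha⟩ := hP2.index (Subgroup.center ↥P)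
  refine ⟨a, ha, ?_⟩
  have hσP : σ ∈ nzr P := mem_nz P σ hsg.Pσ
  obtain ⟨cc, hcc⟩ : ∃ cc : ↥(nzr P) →* MulAut ↥P,
      cc = Cfsg.Agent.Lib.Helper97.FrobCount.conjOn (nzr P) P
        (fun e' he z hz => nz_conj he z hz) := ⟨_, rfl⟩
  have hccv : ∀ (e' : nzr P) (g : ↥P),
      ((cc e' g : ↥P) : LAut W) = e' * g * (e' : LAut W)⁻¹ := by
    intro e' g; rw [hcc]; rfl
  obtain ⟨α, hα⟩ : ∃ α : MulAut ↥P, α = cc ⟨σ, hσP⟩ := ⟨_, rfl⟩
  have hαpow : ∀ (j : ℕ) (g : ↥P), (((α ^ j) g : ↥P) : LAut W) = σ ^ j * g * (σ ^ j)⁻¹ := by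
    intro j g
    rw [hα, ← map_pow, hccv]
    rfl
  have hαN : α ^ p ^ n = 1 := by
    refine MulEquiv.ext (fun g => Subtype.ext ?_)
    rw [hαpow, hsg.sp, one_mul, inv_one, mul_one]
    rfl
  have hNpos : 0 < p ^ n := pow_pos hsg.hp.pos _
  have hαfpf : ∀ j, 0 < j → j < p ^ n → ∀ g : ↥P,
      g⁻¹ * (α ^ j) g ∈ Subgroup.center ↥P → g ∈ Subgroup.center ↥P := by
    intro j hj hjlt g hg
    rw [center_iff_ctr] at hg ⊢
    apply h.ctr_fpf j (fun hd => by have := Nat.le_of_dvd hj hd; omega) g g.2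
    have e1 : ((g⁻¹ * (α ^ j) g : ↥P) : LAut W) =
        (g : LAut W)⁻¹ * (σ ^ j * g * (σ ^ j)⁻¹) := by
      rw [Subgroup.coe_mul, Subgroup.coe_inv, hαpow]
    rw [← e1]; exact hg
  have hdvd := card_sub_one_dvdN (quotPerm α) hNpos (quotPerm_pow_eq_one α hαN) 1
    (quotPerm_one α) (fun j hj hjlt => quotPerm_fixN α j (hαfpf j hj hjlt))
  rw [← Subgroup.index_eq_card, ha] at hdvd
  exact hdvd

theorem NA.YjZ (h : NA ℓ r p n σ P Y M k e) (j : ℕ) : cjS (σ ^ j) Y ≤ ctr P := by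
  intro x hx
  rw [mem_cjS] at hx
  have hσP : σ ^ j ∈ nzr P := Subgroup.pow_mem _ (mem_nz P σ h.sg.Pσ) _
  have h1 := ctr_conj hσP _ (h.YZ hx)
  have e : σ ^ j * ((σ ^ j)⁻¹ * x * σ ^ j) * (σ ^ j)⁻¹ = x := by group
  rwa [e] at h1

/-- the conjugates of `Rsub` have the same index -/
theorem NA.Rj_index (h : NA ℓ r p n σ P Y M k e) (j : ℕ) :
    ((Rsub P (cjS (σ ^ j) Y) (h.YjZ j)).subgroupOf P).index ≤
      ((Rsub P Y h.YZ).subgroupOf P).index := by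
  have hsg := h.sg
  have hσP : σ ^ j ∈ nzr P := Subgroup.pow_mem _ (mem_nz P σ hsg.Pσ) _
  obtain ⟨α, hα⟩ : ∃ α : MulAut ↥P,
      α = Cfsg.Agent.Lib.Helper97.FrobCount.conjOn (nzr P) P
        (fun e' he z hz => nz_conj he z hz) ⟨σ ^ j, hσP⟩ := ⟨_, rfl⟩
  have hαv : ∀ g : ↥P, ((α g : ↥P) : LAut W) = σ ^ j * g * (σ ^ j)⁻¹ := by
    intro g; rw [hα]; rfl
  have hle : ((Rsub P Y h.YZ).subgroupOf P).map α.toMonoidHom ≤
      (Rsub P (cjS (σ ^ j) Y) (h.YjZ j)).subgroupOf P := by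
    rintro _ ⟨x, hx0, rfl⟩
    have hx : (x : LAut W) ∈ Rsub P Y h.YZ := Subgroup.mem_subgroupOf.1 hx0
    rw [Subgroup.mem_subgroupOf]
    show ((α x : ↥P) : LAut W) ∈ _
    rw [hαv]
    refine ⟨nz_conj hσP _ hx.1, fun y hy => ?_⟩
    have h1 := hx.2 _ (nz_conj' hσP y hy)
    have e : σ ^ j * x * (σ ^ j)⁻¹ * y * (σ ^ j * x * (σ ^ j)⁻¹)⁻¹ * y⁻¹ =
        σ ^ j * ((x : LAut W) * ((σ ^ j)⁻¹ * y * σ ^ j) * (x : LAut W)⁻¹ *
          ((σ ^ j)⁻¹ * y * σ ^ j)⁻¹) * (σ ^ j)⁻¹ := by group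
    rw [e]; exact conj_mem_cjS h1
  have h1 := Subgroup.index_dvd_of_le hle
  rw [Subgroup.index_map_of_bijective (f := α.toMonoidHom) α.bijective] at h1
  exact Nat.le_of_dvd (Nat.pos_of_ne_zero Subgroup.index_ne_zero_of_finite) h1

/-- a nonabelian minimal counterexample does not exist when `σ` has no fixed points on `P` -/
theorem NA.false (h : NA ℓ r p n σ P Y M k e) (hfp : ∀ x ∈ P, σ * x * σ⁻¹ = x → x = 1) :
    False := by
  classical
  have hsg := h.sg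
  obtain ⟨hr2, d, hd, hdq, hidx⟩ := h.arith
  have hcop2 : (2 : ℕ).Coprime (Nat.card W) := by rw [← hr2]; exact hsg.rW
  have hexp2 : ∀ z ∈ ctr P, z ^ 2 = 1 := by rw [← hr2]; exact h.c4
  have hσP : σ ∈ nzr P := mem_nz P σ hsg.Pσ
  have hek : e = k := by
    apply h.ek
    exact czq_two h.Zab h.hY hexp2 hcop2
      (Subgroup.pow_mem _ (mem_nz (ctr P) σ (ctr_conj hσP)) _) (nz_of_cjS_eq h.per1)
  have hne : 0 < n - e := by have := h.hen; omega
  obtain ⟨a, ha, hadvd⟩ := h.center_index hr2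
  have ha0 : 0 < a := by
    by_contra h0
    have ha0 : a = 0 := by omega
    rw [ha0, pow_zero, Subgroup.index_eq_one] at ha
    obtain ⟨x, hx, y, hy, hxy⟩ := h.nonab
    apply hxy
    have h1 : (⟨x, hx⟩ : ↥P) ∈ Subgroup.center ↥P := by rw [ha]; trivial
    rw [center_iff_ctr] at h1
    have h2 : y * x = x * y := h1.2 y hy
    have e1 : x * y * x⁻¹ * y⁻¹ = 1 := by rw [← h2]; group
    rw [e1]; exact Y.one_mem
  have hbig : 2 * d * p ^ e ≤ a := by
    apply two_lte hsg.hp hsg.hp2 hd hne hdq ha0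
    have e2 : n - e + e = n := by have := h.hen; omega
    rw [e2]; exact hadvd
  obtain ⟨m, hm⟩ : ∃ m, m = p ^ k := ⟨_, rfl⟩
  have hm0 : 0 < m := by rw [hm]; exact pow_pos hsg.hp.pos _
  rw [hek, ← hm] at hbig
  obtain ⟨Rs, hRsdef⟩ : ∃ Rs : Fin (m - 1) → Subgroup ↥P, ∀ i : Fin (m - 1),
      Rs i = (Rsub P (cjS (σ ^ (i.1 + 1)) Y) (h.YjZ (i.1 + 1))).subgroupOf P := ⟨_, fun _ => rfl⟩
  have hRs : ∀ i, (Rs i).index ≤ 2 ^ (2 * d) := fun i => by
    rw [← hidx, hRsdef]; exact h.Rj_index (i.1 + 1)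
  have hall : ∀ (c : LAut W), (∀ t, t < m → c ∈ cjS (σ ^ t) Y) → c = 1 := by
    intro c hc
    apply eq_one_of_fam h.top
    rintro Y' ⟨i, rfl⟩
    rw [h.per i, ← hm]
    exact hc _ (Nat.mod_lt _ hm0)
  have hmemRs : ∀ (x : ↥P) (t : ℕ), 0 < t → t < m → (∀ i, x ∈ Rs i) →
      ∀ y ∈ P, (x : LAut W) * y * (x : LAut W)⁻¹ * y⁻¹ ∈ cjS (σ ^ t) Y := by
    intro x t ht0 htm hx y hy
    have h2 := hx ⟨t - 1, by omega⟩
    rw [hRsdef] at h2
    have h3 : (x : LAut W) ∈ Rsub P (cjS (σ ^ (t - 1 + 1)) Y) (h.YjZ (t - 1 + 1)) :=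
      Subgroup.mem_subgroupOf.1 h2
    have h4 := h3.2 y hy
    have e1 : t - 1 + 1 = t := by omega
    rw [e1] at h4
    exact h4
  have hle : (⨅ i, Rs i) ⊓ (Rsub P Y h.YZ).subgroupOf P ≤ Subgroup.center ↥P := by
    rintro x ⟨hx1, hx2⟩
    rw [center_iff_ctr]
    refine ⟨x.2, fun y hy => ?_⟩
    have h1 : (x : LAut W) * y * (x : LAut W)⁻¹ * y⁻¹ = 1 := by
      apply hall
      intro t ht
      rcases Nat.eq_zero_or_pos t with rfl | htpos
      · rw [pow_zero, cjS_one]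
        exact (Subgroup.mem_subgroupOf.1 hx2).2 y hy
      · exact hmemRs x t htpos ht (fun i => (Subgroup.mem_iInf.1 hx1) i) y hy
    calc y * (x : LAut W) = ((x : LAut W) * y * (x : LAut W)⁻¹ * y⁻¹)⁻¹ * ((x : LAut W) * y) := by
          group
      _ = (x : LAut W) * y := by rw [h1, inv_one, one_mul]
  have hZbig : (2 ^ (2 * d)) ^ (m - 1) < (Subgroup.center ↥P).index := by
    rw [ha, ← pow_mul]
    apply Nat.pow_lt_pow_right (by norm_num)
    have h1 : 2 * d * (m - 1) < 2 * d * m :=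
      (Nat.mul_lt_mul_left (by omega : 0 < 2 * d)).2 (by omega : m - 1 < m)
    omega
  obtain ⟨x, hxR, hx0⟩ := exists_not_mem_of_index Rs ((Rsub P Y h.YZ).subgroupOf P)
    (Subgroup.center ↥P) hle hRs hZbig
  have hx0' : ¬ ∀ y ∈ P, (x : LAut W) * y * (x : LAut W)⁻¹ * y⁻¹ ∈ Y := by
    intro hall'
    exact hx0 (Subgroup.mem_subgroupOf.2 ⟨x.2, hall'⟩)
  push Not at hx0'
  obtain ⟨y, hy, hcY⟩ := hx0'
  obtain ⟨c, hc⟩ : ∃ c : LAut W, c = (x : LAut W) * y * (x : LAut W)⁻¹ * y⁻¹ := ⟨_, rfl⟩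
  rw [← hc] at hcY
  have hcZ : c ∈ ctr P := by rw [hc]; exact h.c1 _ x.2 _ hy
  have hcP : c ∈ P := hcZ.1
  have hct : ∀ t, 0 < t → t < m → c ∈ cjS (σ ^ t) Y := by
    intro t ht0 htm
    rw [hc]
    exact hmemRs x t ht0 htm hxR y hy
  have hct' : ∀ t, ¬ m ∣ t → c ∈ cjS (σ ^ t) Y := by
    intro t ht
    rw [h.per t, ← hm]
    apply hct
    · exact Nat.pos_of_ne_zero (fun h0 => ht (Nat.dvd_of_mod_eq_zero h0))
    · exact Nat.mod_lt _ hm0
  have hc2 : c ^ 2 = 1 := hexp2 c hcZ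
  have hcneg : ∀ w ∈ FixSp Y, c w = -w := by
    intro w hw
    have hcw : c w ∈ FixSp Y := FixSp_comm (fun y' hy' => (h.YZ hy').2 c hcP) hw
    have h0 : c (c w) = w := by
      have h1 := congrArg (fun e : LAut W => e w) hc2
      rw [pow_two] at h1
      exact h1
    have h1 : c (w + c w) = w + c w := by
      rw [map_add, h0, add_comm]
    have h2 := h.hY.fpf hcZ hcY (w + c w) ((FixSp Y).add_mem hw hcw) h1
    exact eq_neg_of_add_eq_zero_right h2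
  have hcj_neg : ∀ j, ∀ w ∈ FixSp (cjS (σ ^ j) Y), (σ ^ j * c * (σ ^ j)⁻¹) w = -w := by
    intro j w hw
    have hw' := FixSp_cjS.1 hw
    show (σ ^ j) (c ((σ ^ j)⁻¹ w)) = -w
    rw [hcneg _ hw', map_neg, app_inv]
  have hcj_fix : ∀ i j, i < m → j < m → i ≠ j → ∀ w ∈ FixSp (cjS (σ ^ i) Y),
      (σ ^ j * c * (σ ^ j)⁻¹) w = w := by
    intro i j hi hj hij w hw
    apply hw
    have h1 : c ∈ cjS (σ ^ (i + m - j)) Y := by
      apply hct'
      rintro ⟨q, hq⟩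
      rcases Nat.lt_or_ge q 2 with hq2 | hq2
      · interval_cases q
        · rw [mul_zero] at hq; omega
        · rw [mul_one] at hq; omega
      · have h3 : m * 2 ≤ m * q := Nat.mul_le_mul_left m hq2
        omega
    have h2 : σ ^ j * c * (σ ^ j)⁻¹ ∈ cjS (σ ^ j) (cjS (σ ^ (i + m - j)) Y) := conj_mem_cjS h1
    rw [← cjS_mul, ← pow_add] at h2
    have e1 : j + (i + m - j) = i + m := by omega
    rw [e1, pow_add, cjS_mul, hm, h.per1] at h2
    exact h2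
  obtain ⟨B, hB0, hBs⟩ : ∃ B : ℕ → LAut W, B 0 = 1 ∧
      ∀ j, B (j + 1) = (σ ^ j * c * (σ ^ j)⁻¹) * B j :=
    ⟨fun j => Nat.rec 1 (fun j b => (σ ^ j * c * (σ ^ j)⁻¹) * b) j, rfl, fun j => rfl⟩
  have hBP : ∀ j, B j ∈ P := by
    intro j
    induction j with
    | zero => rw [hB0]; exact P.one_mem
    | succ j ih => rw [hBs]; exact P.mul_mem (hsg.Ppow j c hcP) ih
  have hBact : ∀ j, j ≤ m → ∀ i, i < m → ∀ w ∈ FixSp (cjS (σ ^ i) Y),
      B j w = if i < j then -w else w := by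
    intro j
    induction j with
    | zero =>
      intro _ i _ w _
      rw [hB0, if_neg (Nat.not_lt_zero i)]
      rfl
    | succ j ih =>
      intro hj i hi w hw
      have ih' := ih (by omega) i hi w hw
      rw [hBs]
      show (σ ^ j * c * (σ ^ j)⁻¹) (B j w) = _
      rw [ih']
      rcases Nat.lt_trichotomy i j with hlt | heq | hgt
      · rw [if_pos hlt, if_pos (by omega), map_neg,
          hcj_fix i j hi (by omega) (by omega) w hw]
      · rw [if_neg (by omega), if_pos (by omega)]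
        subst heq
        exact hcj_neg i w hw
      · rw [if_neg (by omega), if_neg (by omega),
          hcj_fix i j hi (by omega) (by omega) w hw]
  have hBneg : ∀ w : W, B m w = -w := by
    let S : AddSubgroup W :=
      { carrier := {w | B m w = -w}
        add_mem' := by
          intro a b ha hb
          show B m (a + b) = -(a + b)
          rw [map_add, ha, hb, neg_add]
        zero_mem' := by
          show B m 0 = -0
          rw [map_zero, neg_zero]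
        neg_mem' := by
          intro a ha
          show B m (-a) = - -a
          rw [map_neg, ha] }
    have hleS : WpF (fun Y' => ∃ i : ℕ, Y' = cjS (σ ^ i) Y) ≤ S := by
      refine iSup₂_le (fun Y' hY' => ?_)
      obtain ⟨i, rfl⟩ := hY'
      intro w hw
      rw [h.per i, ← hm] at hw
      have h1 := hBact m le_rfl (i % m) (Nat.mod_lt _ hm0) w hw
      rw [if_pos (Nat.mod_lt _ hm0)] at h1
      exact h1
    intro w
    have hw : w ∈ WpF (fun Y' => ∃ i : ℕ, Y' = cjS (σ ^ i) Y) := by rw [h.top]; trivial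
    exact hleS hw
  have hB1 : B m = 1 := by
    apply hfp _ (hBP m)
    refine LinearEquiv.ext (fun w => ?_)
    show σ (B m (σ⁻¹ w)) = B m w
    rw [hBneg, hBneg, map_neg, app_inv]
  apply h.M0
  rw [eq_bot_iff]
  intro w _
  rw [AddSubgroup.mem_bot]
  have h1 := hBneg w
  rw [hB1] at h1
  have h1' : w = -w := h1
  have h2 : (2 : ℕ) • w = 0 := by
    rw [two_nsmul]
    have h3 := congrArg (fun z => z + w) h1'
    simp only [neg_add_cancel] at h3
    exact h3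
  exact eq_zero_of_nsmul 2 hcop2 w h2

end

end Cfsg.Agent.Lib.Helper63.SG
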