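import Mathlib
import Cfsg.Agent.Lib.Helper63.SGTwo

set_option autoImplicit false

namespace Cfsg.Agent.Lib.Helper63.SG

open Cfsg.Agent.Lib.Helper63.S3A
open Cfsg.Agent.Lib.Helper63.Fpq

universe u

/-- the module theorem, by induction -/
theorem thmM_aux : ∀ N : ℕ, ∀ (W : Type u) [AddCommGroup W] [Finite W] (ℓ r p n : ℕ)
    (σ : LAut W) (P : Subgroup (LAut W)), Nat.card W + Nat.card P ≤ N → SG ℓ r p n σ P →
    (∀ x ∈ P, σ * x * σ⁻¹ = x → x = 1) →
    ∀ x ∈ P, σ ^ p ^ (n - 1) * x = x * σ ^ p ^ (n - 1) := by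
  intro N
  induction N with
  | zero =>
    intro W _ _ ℓ r p n σ P hcard
    have := Nat.card_pos (α := W)
    omega
  | succ N ih =>
    intro W _ _ ℓ r p n σ P hcard hsg hfp
    have hmn : Mn ℓ r p n σ P := by
      refine ⟨hsg, ?_, ?_⟩
      · intro U hU hσU hPU x hx w hw
        have hσs : σ ∈ stabU U := stabU_of_maps U σ hσU
        have hPs : P ≤ stabU U := fun y hy => stabU_of_maps U y (hPU y hy)
        have hcU : Nat.card U < Nat.card W := by
          rcases lt_or_eq_of_le (Nat.le_of_dvd Nat.card_pos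
            (AddSubgroup.card_addSubgroup_dvd_card U)) with h1 | h1
          · exact h1
          · exact absurd (AddSubgroup.eq_top_of_card_eq U h1) hU
        have hsg' := hsg.res U σ n hsg.hn hsg.sp hσs (fun w _ hw' => hsg.fp w hw') P le_rfl
          hsg.Pσ
        have hfp' := hsg.img_fpf U σ n hsg.sp hσs P le_rfl hsg.Pσ hfp
        have hc := ih U ℓ r p n _ _ (by have := card_img_le U P hPs; omega) hsg' hfp' _
          (mem_img.2 ⟨⟨x, hPs hx⟩, hx, rfl⟩)
        rw [← map_pow, ← map_mul, ← map_mul] at hc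
        have h2 := congrArg (fun e : LAut U => ((e ⟨w, hw⟩ : U) : W)) hc
        exact h2
      · intro Q hQP hQne hQσ
        have hc : Nat.card Q < Nat.card P := by
          by_contra hge
          push Not at hge
          exact hQne (Subgroup.eq_of_le_of_card_ge hQP hge)
        have hsg' : SG ℓ r p n σ Q := { hsg with Pr := hsg.Pr.to_le hQP, Pσ := hQσ }
        exact ih W ℓ r p n σ Q (by omega) hsg' (fun x hx hxσ => hfp x (hQP hx) hxσ)
    by_contra hnc
    by_cases hab : ∀ x ∈ P, ∀ y ∈ P, x * y = y * x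
    · exact hnc (hmn.abelian hab)
    · obtain ⟨Y, M, k, e, hna⟩ := hmn.exists_NA hnc hab
      exact hna.false hfp

/-- **The module theorem.** In the configuration `SG`, if `σ` has no fixed points on `P`,
then `σ ^ p ^ (n - 1)` centralizes `P`. -/
theorem thmM {W : Type u} [AddCommGroup W] [Finite W] {ℓ r p n : ℕ} {σ : LAut W}
    {P : Subgroup (LAut W)} (h : SG ℓ r p n σ P) (hfp : ∀ x ∈ P, σ * x * σ⁻¹ = x → x = 1) :
    ∀ x ∈ P, σ ^ p ^ (n - 1) * x = x * σ ^ p ^ (n - 1) :=
  thmM_aux _ W ℓ r p n σ P le_rfl h hfp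

end Cfsg.Agent.Lib.Helper63.SG
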