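import Mathlib
import Cfsg.Agent.Lib.Helper63.FpqTop4
import Cfsg.Agent.Lib.Helper63.SGThm

set_option autoImplicit false
open Cfsg

namespace Cfsg.Agent.Lib.Helper63.SG

open Cfsg.Agent.Lib.Helper63.S3A
open Cfsg.Agent.Lib.Helper63.Fpq

universe u

/-- a fixed-point-free automorphism of prime power order acts on a group of coprime order -/
theorem fpf_not_dvd {G : Type*} [Group G] [Finite G] {p n : ℕ} (hp : p.Prime) (σ : MulAut G)
    (hσ : σ ^ p ^ n = 1) (hfpf : ∀ g : G, σ g = g → g = 1) : ¬ p ∣ Nat.card G := by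
  classical
  haveI : Fact p.Prime := ⟨hp⟩
  letI : Fintype G := Fintype.ofFinite G
  let F : Function.End G := (σ : G → G)
  have hpow : ∀ j : ℕ, ∀ x, (F ^ j) x = (σ ^ j) x := by
    intro j
    induction j with
    | zero => intro x; rfl
    | succ j ih =>
      intro x
      rw [pow_succ, pow_succ]
      show (F ^ j) (F x) = (σ ^ j) (σ x)
      exact ih (σ x)
  have hF : F ^ p ^ n = 1 := by
    funext x; rw [hpow, hσ]; rfl
  have hmod := Equiv.Perm.card_fixedPoints_modEq (p := p) (n := n) hF
  have h1 : Fintype.card (Function.fixedPoints F) = 1 := by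
    rw [Fintype.card_eq_one_iff]
    exact ⟨⟨1, map_one σ⟩, fun y => Subtype.ext (hfpf y.1 y.2)⟩
  rw [h1] at hmod
  intro hd
  rw [Nat.card_eq_fintype_card] at hd
  have h2 : Fintype.card G ≡ 0 [MOD p] := (Nat.modEq_zero_iff_dvd).2 hd
  have h3 : 1 ≡ 0 [MOD p] := hmod.symm.trans h2
  have h4 : p ∣ 1 := (Nat.modEq_zero_iff_dvd).1 h3
  exact hp.one_lt.ne' (Nat.dvd_one.1 h4)

/-- fixed points in invariant cosets -/
theorem fpf_lift {G : Type*} [Group G] [Finite G] {p n : ℕ} (hp : p.Prime) (σ : MulAut G)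
    (hσ : σ ^ p ^ n = 1) (hpG : ¬ p ∣ Nat.card G) (N : Subgroup G) (hN : ∀ k ∈ N, σ k ∈ N)
    (y : G) (hy : y⁻¹ * σ y ∈ N) : ∃ k ∈ N, σ (y * k) = y * k := by
  haveI : Fact p.Prime := ⟨hp⟩
  have hit : ∀ j : ℕ, ∀ x : G, (σ.toMonoidHom)^[j] x = (σ ^ j) x := by
    intro j
    induction j with
    | zero => intro x; rfl
    | succ j ih =>
      intro x
      rw [Function.iterate_succ_apply, ih, pow_succ]
      rfl
  exact fp_cosetN p n σ.toMonoidHom (fun x => by rw [hit, hσ]; rfl) N
    (fun hd => hpG (hd.trans (Subgroup.card_subgroup_dvd_card N))) hN y hy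

theorem aut_pow_inv {G : Type*} [Group G] (σ : MulAut G) (T : Subgroup G)
    (hT : ∀ x ∈ T, σ x ∈ T) (j : ℕ) : ∀ x ∈ T, (σ ^ j) x ∈ T := by
  induction j with
  | zero => intro x hx; exact hx
  | succ j ih =>
    intro x hx
    rw [pow_succ']
    exact hT _ (ih x hx)

/-- the automorphism induced on the quotient by a characteristic subgroup -/
noncomputable def qAutHom {G : Type*} [Group G] (N : Subgroup G) [hN : N.Characteristic] :
    MulAut G →* MulAut (G ⧸ N) where
  toFun σ := QuotientGroup.congr N N σ (Subgroup.characteristic_iff_map_eq.mp hN σ)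
  map_one' := by
    refine MulEquiv.ext (fun x => ?_)
    induction x using QuotientGroup.induction_on with
    | H x => rfl
  map_mul' := fun σ τ => by
    refine MulEquiv.ext (fun x => ?_)
    induction x using QuotientGroup.induction_on with
    | H x => rfl

theorem qAutHom_mk {G : Type*} [Group G] (N : Subgroup G) [hN : N.Characteristic]
    (σ : MulAut G) (x : G) :
    qAutHom N σ (QuotientGroup.mk x) = QuotientGroup.mk (σ x) := rfl

theorem char_inv {G : Type*} [Group G] (N : Subgroup G) [hN : N.Characteristic]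
    (σ : MulAut G) : ∀ k ∈ N, σ k ∈ N := fun k hk =>
  (Subgroup.characteristic_iff_map_le.1 hN σ) ⟨k, hk, rfl⟩

/-- the induced automorphism of the quotient has no fixed points -/
theorem fpf_quot {G : Type*} [Group G] [Finite G] {p n : ℕ} (hp : p.Prime) (σ : MulAut G)
    (hσ : σ ^ p ^ n = 1) (hfpf : ∀ g : G, σ g = g → g = 1) (N : Subgroup G)
    [hN : N.Characteristic] : ∀ y : G ⧸ N, qAutHom N σ y = y → y = 1 := by
  have hpG := fpf_not_dvd hp σ hσ hfpf
  intro y
  induction y using QuotientGroup.induction_on with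
  | H x =>
    intro h1
    rw [qAutHom_mk] at h1
    have e1 : x⁻¹ * σ x ∈ N := by rw [← QuotientGroup.eq]; exact h1.symm
    obtain ⟨k, hk, hk1⟩ := fpf_lift hp σ hσ hpG N (char_inv N σ) x e1
    have hxk : x * k = 1 := hfpf _ hk1
    have h2 : x = k⁻¹ := eq_inv_of_mul_eq_one_left hxk
    rw [h2]
    exact (QuotientGroup.eq_one_iff _).2 (N.inv_mem hk)

/-- an automorphism of coprime order of a finite solvable group fixing the cores is trivial -/
theorem aut_trivial_of_cores {H : Type*} [Group H] [Finite H] [Group.IsSolvable H]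
    (β : MulAut H) (m : ℕ) (hβ : β ^ m = 1) (hm : m.Coprime (Nat.card H))
    (hcore : ∀ r : ℕ, r.Prime → ∀ x ∈ pCore r H, β x = x) : ∀ g : H, β g = g := by
  have hFit : fittingSubgroup H = ⨆ q : Nat.Primes, pCore (q : ℕ) H := Cfsg.Agent.S0009.result
  have hCF : Subgroup.centralizer (fittingSubgroup H : Set H) ≤ fittingSubgroup H :=
    Cfsg.Agent.S0044.result
  haveI hFn : (fittingSubgroup H).Normal := Cfsg.Agent.Lib.Helper71.fittingSubgroup_normal
  let Fx : Subgroup H :=
    { carrier := {x | β x = x}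
      mul_mem' := by
        intro a b ha hb
        show β (a * b) = a * b
        rw [map_mul, ha, hb]
      one_mem' := map_one β
      inv_mem' := by
        intro a ha
        show β a⁻¹ = a⁻¹
        rw [map_inv, ha] }
  have hle : fittingSubgroup H ≤ Fx := by
    rw [hFit]
    exact iSup_le (fun q x hx => hcore q q.2 x hx)
  intro g
  obtain ⟨c, hc⟩ : ∃ c, c = g⁻¹ * β g := ⟨_, rfl⟩
  have hcF : c ∈ fittingSubgroup H := by
    apply hCF
    rw [Subgroup.mem_centralizer_iff]
    intro f hf
    have h1 : β (g * f * g⁻¹) = g * f * g⁻¹ := hle (hFn.conj_mem f hf g)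
    have h2 : β f = f := hle hf
    rw [map_mul, map_mul, map_inv, h2] at h1
    rw [hc]
    calc f * (g⁻¹ * β g) = g⁻¹ * (g * f * g⁻¹) * β g := by group
      _ = g⁻¹ * (β g * f * (β g)⁻¹) * β g := by rw [h1]
      _ = g⁻¹ * β g * f := by group
  have hβc : β c = c := hle hcF
  have hpow : ∀ j : ℕ, (β ^ j) g = g * c ^ j := by
    intro j
    induction j with
    | zero => rw [pow_zero, pow_zero, mul_one]; rfl
    | succ j ih =>
      have e1 : (β ^ (j + 1)) g = β ((β ^ j) g) := by rw [pow_succ']; rfl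
      rw [e1, ih, map_mul, map_pow, hβc]
      calc β g * c ^ j = g * (g⁻¹ * β g) * c ^ j := by group
        _ = g * (c * c ^ j) := by rw [← hc, mul_assoc]
        _ = g * c ^ (j + 1) := by rw [← pow_succ']
  have h1 := hpow m
  rw [hβ] at h1
  have hcm : c ^ m = 1 := by
    have h2 : g = g * c ^ m := h1
    have h3 := congrArg (fun z => g⁻¹ * z) h2
    simp only [inv_mul_cancel, inv_mul_cancel_left] at h3
    exact h3.symm
  have hc1 : c ∈ (⊥ : Subgroup H) := root_mem ⊥ c m (Nat.card H) hcm hm
    (by rw [pow_card_eq_one']; exact Subgroup.one_mem _)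
  rw [Subgroup.mem_bot, hc] at hc1
  exact (inv_mul_eq_one.1 hc1).symm

/-- the lower central series of a preimage -/
theorem lcs_comap_le {G G' : Type*} [Group G] [Group G'] (f : G →* G') (K : Subgroup G')
    (k : ℕ) : (K.comap f).lowerCentralSeries k ≤ (K.lowerCentralSeries k).comap f := by
  induction k with
  | zero => exact le_rfl
  | succ k ih =>
    rw [Subgroup.lowerCentralSeries_succ, Subgroup.lowerCentralSeries_succ,
      Subgroup.commutator_le]
    intro g₁ hg₁ g₂ hg₂
    rw [Subgroup.mem_comap, map_commutatorElement]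
    exact Subgroup.commutator_mem_commutator (ih hg₁) hg₂

end Cfsg.Agent.Lib.Helper63.SG
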