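import Mathlib
import Cfsg.Agent.Lib.Helper63.SGTop1

set_option autoImplicit false
open Cfsg

namespace Cfsg.Agent.Lib.Helper63.SG

open Cfsg.Agent.Lib.Helper63.S3A
open Cfsg.Agent.Lib.Helper63.Fpq

universe u

section

variable {G : Type u} [Group G] [Finite G] {p n : ℕ}

/-- the module theorem, applied to an elementary abelian section -/
theorem ctgSG (hp : p.Prime) (hp2 : p ≠ 2) (hn : 0 < n) (σ : MulAut G) (hσ : σ ^ p ^ n = 1)
    (hfpf : ∀ g : G, σ g = g → g = 1)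
    (F : Subgroup G) [hFn : F.Normal] (hFab : ∀ x ∈ F, ∀ y ∈ F, x * y = y * x)
    (hFA : ∀ e : MulAut G, ∀ g ∈ F, e g ∈ F)
    {r ℓ : ℕ} (hr : r.Prime) (hℓ : ℓ.Prime) (hrℓ : r ≠ ℓ) (hrp : r ≠ p) (hℓp : ℓ ≠ p)
    (T : Subgroup G) (hTσ : ∀ x ∈ T, σ x ∈ T) (hTr : ∀ y ∈ T, ∃ j : ℕ, y ^ r ^ j ∈ F) :
    ∀ x ∈ T, ∀ v ∈ F, v ^ ℓ = 1 →
      (x⁻¹ * (σ ^ p ^ (n - 1)) x) * v = v * (x⁻¹ * (σ ^ p ^ (n - 1)) x) := by
  classical
  have hpG := fpf_not_dvd hp σ hσ hfpf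
  let V : Subgroup G :=
    { carrier := {v | v ∈ F ∧ v ^ ℓ = 1}
      mul_mem' := by
        rintro x y ⟨hx, hx'⟩ ⟨hy, hy'⟩
        refine ⟨F.mul_mem hx hy, ?_⟩
        have hc : Commute x y := hFab x hx y hy
        rw [hc.mul_pow, hx', hy', one_mul]
      one_mem' := ⟨F.one_mem, one_pow ℓ⟩
      inv_mem' := by
        rintro x ⟨hx, hx'⟩
        exact ⟨F.inv_mem hx, by rw [inv_pow, hx', inv_one]⟩ }
  haveI hVn : V.Normal := ⟨by
    intro v hv g
    refine ⟨hFn.conj_mem v hv.1 g, ?_⟩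
    rw [conj_pow, hv.2, mul_one, mul_inv_cancel]⟩
  have hVA : ∀ e : MulAut G, ∀ v ∈ V, e v ∈ V :=
    fun e v hv => ⟨hFA e v hv.1, by rw [← map_pow, hv.2, map_one]⟩
  have hVab : ∀ x ∈ V, ∀ y ∈ V, x * y = y * x := fun x hx y hy => hFab x hx.1 y hy.1
  obtain ⟨ρ, hρ⟩ : ∃ ρ : G →* LAut (AbMod V hVab), ρ = AbMod.conjHom := ⟨_, rfl⟩
  have hρval : ∀ (g : G) (w : AbMod V hVab), (ρ g w).val = g * w.val * g⁻¹ := by
    intro g w; rw [hρ]; rfl
  let ρA : MulAut G →* LAut (AbMod V hVab) := MonoidHom.mk'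
    (fun e => AbMod.aut (fun g => e g) (fun g => e⁻¹ g) (hVA e) (hVA e⁻¹)
      (fun v _ w _ => map_mul e v w) (fun v _ => MulAut.inv_apply_self _ e v)
      (fun v _ => MulAut.apply_inv_self _ e v))
    (by
      intro x y
      refine LinearEquiv.ext (fun w => AbMod.ext ?_)
      rfl)
  have hρAval : ∀ (e : MulAut G) (w : AbMod V hVab), (ρA e w).val = e w.val := fun e w => rfl
  have hρAinv : ∀ (e : MulAut G) (w : AbMod V hVab), ((ρA e)⁻¹ w).val = e⁻¹ w.val :=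
    fun e w => rfl
  have hρAρ : ∀ (e : MulAut G) (g : G), ρA e * ρ g * (ρA e)⁻¹ = ρ (e g) := by
    intro e g
    refine LinearEquiv.ext (fun w => AbMod.ext ?_)
    have h1 : ((ρA e * ρ g * (ρA e)⁻¹) w).val = e (g * (e⁻¹ w.val) * g⁻¹) := by
      show (ρA e (ρ g ((ρA e)⁻¹ w))).val = _
      rw [hρAval, hρval, hρAinv]
    rw [h1, hρval, map_mul, map_mul, map_inv, MulAut.apply_inv_self]
  have hker : ∀ g, ρ g = 1 ↔ ∀ v ∈ V, g * v = v * g := by
    intro g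
    constructor
    · intro hg v hv
      have h0 := congrArg (fun e : LAut (AbMod V hVab) => (e (AbMod.mk v hv)).val) hg
      have h1 : g * v * g⁻¹ = v := by
        have h2 := hρval g (AbMod.mk v hv)
        rw [AbMod.val_mk] at h2
        rw [← h2]; exact h0
      exact mul_inv_eq_iff_eq_mul.1 h1
    · intro hg
      refine LinearEquiv.ext (fun x => AbMod.ext ?_)
      rw [hρval]
      exact mul_inv_eq_iff_eq_mul.2 (hg _ x.val_mem)
  have hFker : ∀ f ∈ F, ρ f = 1 := fun f hf => (hker f).2 (fun v hv => hFab f hf v hv.1)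
  have hfix : ∀ x ∈ T.map ρ, ρA σ * x * (ρA σ)⁻¹ = x → x = 1 := by
    rintro _ ⟨g, hg, rfl⟩ h1
    rw [hρAρ] at h1
    have hN₁ : ∀ k ∈ T ⊓ ρ.ker, σ k ∈ T ⊓ ρ.ker := by
      intro k hk
      refine ⟨hTσ k hk.1, ?_⟩
      have hk2 : ρ k = 1 := hk.2
      show ρ (σ k) = 1
      rw [← hρAρ, hk2]; group
    have hga : g⁻¹ * σ g ∈ T ⊓ ρ.ker := by
      refine ⟨T.mul_mem (T.inv_mem hg) (hTσ g hg), ?_⟩
      show ρ (g⁻¹ * σ g) = 1
      rw [map_mul, map_inv, h1]; group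
    obtain ⟨k, hk, hk1⟩ := fpf_lift hp σ hσ hpG (T ⊓ ρ.ker) hN₁ g hga
    have hgk : g * k = 1 := hfpf _ hk1
    have hk' : ρ k = 1 := hk.2
    have h3 : ρ (g * k) = 1 := by rw [hgk, map_one]
    rw [map_mul, hk', mul_one] at h3
    exact h3
  have hsg : SG ℓ r p n (ρA σ) (T.map ρ) :=
    { hℓ := hℓ, hr := hr, hp := hp, hp2 := hp2, hrℓ := hrℓ, hrp := hrp, hℓp := hℓp, hn := hn
      sp := by rw [← map_pow, hσ, map_one]
      exp := by
        intro w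
        apply AbMod.ext
        rw [val_nsmul]
        exact w.val_mem.2
      fp := by
        intro w h1
        apply AbMod.ext
        have e1 : σ w.val = w.val := congrArg AbMod.val h1
        exact hfpf _ e1
      Pr := by
        rintro ⟨_, y, hy, rfl⟩
        obtain ⟨j, hj⟩ := hTr y hy
        refine ⟨j, Subtype.ext ?_⟩
        show ρ y ^ r ^ j = 1
        rw [← map_pow]; exact hFker _ hj
      Pσ := by
        rintro _ ⟨g, hg, rfl⟩
        rw [hρAρ]; exact ⟨σ g, hTσ g hg, rfl⟩ }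
  have hM := thmM hsg hfix
  intro x hx v hv hvℓ
  have h1 := hM (ρ x) ⟨x, hx, rfl⟩
  rw [← map_pow] at h1
  have h2 := hρAρ (σ ^ p ^ (n - 1)) x
  rw [h1, mul_inv_cancel_right] at h2
  have h3 : ρ (x⁻¹ * (σ ^ p ^ (n - 1)) x) = 1 := by
    rw [map_mul, map_inv, ← h2, inv_mul_cancel]
  exact (hker _).1 h3 v ⟨hv, hvℓ⟩

/-- the automorphism `σ ^ p ^ (n - 1)` is trivial on the preimage of a core modulo `F` -/
theorem coreSG (hp : p.Prime) (hp2 : p ≠ 2) (hn : 0 < n) (σ : MulAut G) (hσ : σ ^ p ^ n = 1)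
    (hfpf : ∀ g : G, σ g = g → g = 1)
    (F : Subgroup G) [hFn : F.Normal] (hFab : ∀ x ∈ F, ∀ y ∈ F, x * y = y * x)
    (hFA : ∀ e : MulAut G, ∀ g ∈ F, e g ∈ F)
    (hFmax : ∀ C : Subgroup G, C.Normal → Group.IsNilpotent C → C ≤ F)
    (hFel : ∀ d : ℕ, d.Prime → ∀ v ∈ F, ∀ j : ℕ, v ^ d ^ j = 1 → v ^ d = 1)
    {r : ℕ} (hr : r.Prime) (T : Subgroup G) [hTn : T.Normal] (hTσ : ∀ x ∈ T, σ x ∈ T)
    (hTr : ∀ y ∈ T, ∃ j : ℕ, y ^ r ^ j ∈ F) :
    ∀ x ∈ T, x⁻¹ * (σ ^ p ^ (n - 1)) x ∈ F := by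
  classical
  have hpG := fpf_not_dvd hp σ hσ hfpf
  intro x hx
  by_cases hrG : r ∣ Nat.card G
  swap
  · obtain ⟨i, hi⟩ := hTr x hx
    have hxF : x ∈ F := root_mem F x (Nat.card G) (r ^ i) pow_card_eq_one'
      (Nat.Coprime.pow_right _ ((Nat.Prime.coprime_iff_not_dvd hr).2 hrG).symm) hi
    exact F.mul_mem (F.inv_mem hxF) (hFA _ x hxF)
  have hrp : r ≠ p := fun h => hpG (h ▸ hrG)
  obtain ⟨K, hK⟩ : ∃ K : Subgroup G, K = T ⊓ Subgroup.centralizer
      {v | v ∈ F ∧ ∃ d : ℕ, d.Prime ∧ d ≠ r ∧ v ^ d = 1} := ⟨_, rfl⟩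
  have hKmem : ∀ z, z ∈ K ↔ z ∈ T ∧
      ∀ v ∈ F, ∀ d : ℕ, d.Prime → d ≠ r → v ^ d = 1 → v * z = z * v := by
    intro z
    rw [hK, Subgroup.mem_inf, Subgroup.mem_centralizer_iff]
    constructor
    · rintro ⟨h1, h2⟩
      exact ⟨h1, fun v hv d hd hdr hvd => h2 v ⟨hv, d, hd, hdr, hvd⟩⟩
    · rintro ⟨h1, h2⟩
      exact ⟨h1, fun v ⟨hv, d, hd, hdr, hvd⟩ => h2 v hv d hd hdr hvd⟩
  have hKn : K.Normal := ⟨by
    intro z hz g
    rw [hKmem] at hz ⊢
    refine ⟨hTn.conj_mem z hz.1 g, ?_⟩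
    intro v hv d hd hdr hvd
    have e : g⁻¹ * v * g = g⁻¹ * v * g⁻¹⁻¹ := by rw [inv_inv]
    have h0 : g⁻¹ * v * g ∈ F := by rw [e]; exact hFn.conj_mem v hv g⁻¹
    have h0' : (g⁻¹ * v * g) ^ d = 1 := by
      rw [e, conj_pow, hvd, mul_one, mul_inv_cancel]
    have h1 := hz.2 (g⁻¹ * v * g) h0 d hd hdr h0'
    calc v * (g * z * g⁻¹) = g * (g⁻¹ * v * g * z) * g⁻¹ := by group
      _ = g * (z * (g⁻¹ * v * g)) * g⁻¹ := by rw [h1]
      _ = g * z * g⁻¹ * v := by group⟩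
  have hcK : x⁻¹ * (σ ^ p ^ (n - 1)) x ∈ K := by
    rw [hKmem]
    refine ⟨T.mul_mem (T.inv_mem hx) (aut_pow_inv σ T hTσ _ x hx), ?_⟩
    intro v hv d hd hdr hvd
    by_cases hdG : d ∣ Nat.card G
    · have hdp : d ≠ p := fun h => hpG (h ▸ hdG)
      exact (ctgSG hp hp2 hn σ hσ hfpf F hFab hFA hr hd (Ne.symm hdr) hrp hdp T hTσ hTr
        x hx v hv hvd).symm
    · have hv1 : v ∈ (⊥ : Subgroup G) := root_mem ⊥ v d (Nat.card G) hvd
        ((Nat.Prime.coprime_iff_not_dvd hd).2 hdG)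
        (by rw [pow_card_eq_one']; exact Subgroup.one_mem _)
      rw [Subgroup.mem_bot] at hv1
      rw [hv1, one_mul, mul_one]
  have hKnil : Group.IsNilpotent K := by
    haveI : Fact r.Prime := ⟨hr⟩
    have hcard : ∃ e, Nat.card (↥K ⧸ Subgroup.center ↥K) = r ^ e := by
      refine ⟨_, Nat.eq_prime_pow_of_unique_prime_dvd Nat.card_pos.ne' ?_⟩
      intro d hd hdvd
      by_contra hdr
      haveI : Fact d.Prime := ⟨hd⟩
      obtain ⟨yb, hyb⟩ := exists_prime_orderOf_dvd_card' d hdvd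
      obtain ⟨y, rfl⟩ := QuotientGroup.mk_surjective yb
      obtain ⟨k, hk⟩ : ∃ k : ℕ, k = (Nat.card G).factorization d := ⟨_, rfl⟩
      obtain ⟨m, hm⟩ : ∃ m : ℕ, m = Nat.card G / d ^ k := ⟨_, rfl⟩
      have hnm : d ^ k * m = Nat.card G := by
        rw [hm, hk]; exact Nat.ordProj_mul_ordCompl_eq_self (Nat.card G) d
      have hdm : Nat.Coprime d m := by
        rw [hm, hk]; exact Nat.coprime_ordCompl hd Nat.card_pos.ne'
      have hy'd : ((y : G) ^ m) ^ d ^ k = 1 := by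
        rw [← pow_mul, mul_comm, hnm]; exact pow_card_eq_one'
      have hyK := (hKmem (y : G)).1 y.2
      obtain ⟨i, hi⟩ := hTr (y : G) hyK.1
      have hy'F : (y : G) ^ m ∈ F := by
        refine root_mem F _ (d ^ k) (r ^ i) hy'd
          (Nat.Coprime.pow _ _ ((Nat.coprime_primes hd hr).2 hdr)) ?_
        rw [← pow_mul, mul_comm, pow_mul]
        exact F.pow_mem hi m
      have hy'1 : ((y : G) ^ m) ^ d = 1 := hFel d hd _ hy'F k hy'd
      have hy'c : y ^ m ∈ Subgroup.center ↥K := by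
        rw [Subgroup.mem_center_iff]
        intro z
        apply Subtype.ext
        show (z : G) * (y : G) ^ m = (y : G) ^ m * z
        exact (((hKmem (z : G)).1 z.2).2 _ hy'F d hd hdr hy'1).symm
      have h3 : (QuotientGroup.mk y : ↥K ⧸ Subgroup.center ↥K) ^ m = 1 := by
        rw [← QuotientGroup.mk_pow]; exact (QuotientGroup.eq_one_iff _).2 hy'c
      have h4 : d ∣ m := by rw [← hyb]; exact orderOf_dvd_of_pow_eq_one h3
      exact (Nat.Prime.coprime_iff_not_dvd hd).1 hdm h4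
    obtain ⟨e, he⟩ := hcard
    haveI : Group.IsNilpotent (↥K ⧸ Subgroup.center ↥K) := (IsPGroup.of_card he).isNilpotent
    refine Subgroup.isNilpotent_of_ker_le_center (QuotientGroup.mk' (Subgroup.center ↥K)) ?_
    rw [QuotientGroup.ker_mk']
  exact hFmax K hKn hKnil hcK

/-- the Frattini-free case -/
theorem fratFree_K [Group.IsSolvable G] (hp : p.Prime) (hp2 : p ≠ 2) (hn : 0 < n)
    (σ : MulAut G) (hσ : σ ^ p ^ n = 1) (hfpf : ∀ g : G, σ g = g → g = 1)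
    (hΦ : frattini G = ⊥) : ∀ g : G, g⁻¹ * (σ ^ p ^ (n - 1)) g ∈ fittingSubgroup G := by
  classical
  have hpG := fpf_not_dvd hp σ hσ hfpf
  obtain ⟨F, hF⟩ : ∃ F : Subgroup G, F = fittingSubgroup G := ⟨_, rfl⟩
  rw [← hF]
  haveI hFn : F.Normal := by
    rw [hF]; exact Cfsg.Agent.Lib.Helper71.fittingSubgroup_normal
  have hFnil : Group.IsNilpotent F := by
    rw [hF]; exact Cfsg.Agent.Lib.Helper71.fittingSubgroup_isNilpotent
  have hFab := Cfsg.Agent.Lib.Helper90.comm_of_nilpotent_normal_of_frattini_eq_bot hΦ F hFnil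
  have hFmax : ∀ C : Subgroup G, C.Normal → Group.IsNilpotent C → C ≤ F := fun C hC hn => by
    haveI := hC; rw [hF]; exact Cfsg.Agent.Lib.Helper71.le_fittingSubgroup C hn
  have hFe : ∀ e : MulAut G, ∀ x ∈ F, e x ∈ F := by
    intro e x hx
    have hmapn : (F.map e.toMonoidHom).Normal := hFn.map e.toMonoidHom e.surjective
    have hmapnil : Group.IsNilpotent (F.map e.toMonoidHom) :=
      Group.nilpotent_of_mulEquiv (F.equivMapOfInjective e.toMonoidHom e.injective)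
    exact hFmax _ hmapn hmapnil ⟨x, hx, rfl⟩
  haveI hFchar : F.Characteristic :=
    Subgroup.characteristic_iff_map_le.mpr (fun φ => by
      rintro _ ⟨x, hx, rfl⟩
      exact hFe φ x hx)
  have hFel : ∀ d : ℕ, d.Prime → ∀ v ∈ F, ∀ j : ℕ, v ^ d ^ j = 1 → v ^ d = 1 := by
    intro d hd v hv j hvj
    haveI : Fact d.Prime := ⟨hd⟩
    let Pd : Subgroup G :=
      { carrier := {v | v ∈ F ∧ ∃ j : ℕ, v ^ d ^ j = 1}
        mul_mem' := by
          rintro x y ⟨hx, i, hxi⟩ ⟨hy, k, hyk⟩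
          refine ⟨F.mul_mem hx hy, i + k, ?_⟩
          have hc : Commute x y := hFab x hx y hy
          rw [hc.mul_pow, pow_add, pow_mul, hxi, one_pow, one_mul, mul_comm, pow_mul, hyk,
            one_pow]
        one_mem' := ⟨F.one_mem, 0, one_pow _⟩
        inv_mem' := by
          rintro x ⟨hx, i, hxi⟩
          exact ⟨F.inv_mem hx, i, by rw [inv_pow, hxi, inv_one]⟩ }
    haveI hPdn : Pd.Normal := ⟨by
      rintro v ⟨hv, i, hvi⟩ g
      refine ⟨hFn.conj_mem v hv g, i, ?_⟩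
      rw [conj_pow, hvi, mul_one, mul_inv_cancel]⟩
    have hPd : IsPGroup d Pd := by
      rintro ⟨v, hv, i, hvi⟩
      exact ⟨i, Subtype.ext hvi⟩
    have h1 := Cfsg.Agent.Lib.Helper90.frattini_map_subtype_le Pd
    rw [hΦ, le_bot_iff, Subgroup.map_eq_bot_iff_of_injective _ Pd.subtype_injective] at h1
    have h2 := Cfsg.Agent.Lib.Helper1.pow_mem_frattini_of_pGroup d hPd ⟨v, hv, j, hvj⟩
    rw [h1, Subgroup.mem_bot] at h2
    exact congrArg Subtype.val h2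
  haveI : Group.IsSolvable (G ⧸ F) := inferInstance
  obtain ⟨ψ, hψ⟩ : ∃ ψ : MulAut G, ψ = σ ^ p ^ (n - 1) := ⟨_, rfl⟩
  have hψp : ψ ^ p = 1 := by
    rw [hψ, ← pow_mul, ← pow_succ, Nat.sub_add_cancel hn, hσ]
  have hcopQ : p.Coprime (Nat.card (G ⧸ F)) := by
    rw [Nat.Prime.coprime_iff_not_dvd hp]
    exact fun hd => hpG (hd.trans (Subgroup.card_quotient_dvd_card F))
  have key := aut_trivial_of_cores (H := G ⧸ F) (qAutHom F ψ) p
    (by rw [← map_pow, hψp, map_one]) hcopQ ?_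
  · intro g
    have h1 := key (QuotientGroup.mk g)
    rw [qAutHom_mk] at h1
    rw [← hψ]
    exact (QuotientGroup.eq).1 h1.symm
  · intro r hr xb hxb
    haveI hchar : (pCore r (G ⧸ F)).Characteristic :=
      Cfsg.Agent.Lib.Helper63.pCore_characteristic' _ _
    haveI hPn : (pCore r (G ⧸ F)).Normal := Subgroup.normal_of_characteristic _
    haveI : Fact r.Prime := ⟨hr⟩
    have hPr := Cfsg.Agent.Lib.Helper63.pCore_isPGroup' r (G ⧸ F)
    obtain ⟨T, hT⟩ : ∃ T : Subgroup G, T = (pCore r (G ⧸ F)).comap (QuotientGroup.mk' F) :=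
      ⟨_, rfl⟩
    haveI hTn : T.Normal := by rw [hT]; exact hPn.comap _
    have hTσ : ∀ y ∈ T, σ y ∈ T := by
      intro y hy
      rw [hT] at hy ⊢
      have h1 : qAutHom F σ (QuotientGroup.mk y) ∈ pCore r (G ⧸ F) :=
        char_inv (pCore r (G ⧸ F)) (qAutHom F σ) _ hy
      exact h1
    have hTr : ∀ y ∈ T, ∃ j : ℕ, y ^ r ^ j ∈ F := by
      intro y hy
      rw [hT] at hy
      obtain ⟨j, hj⟩ := hPr ⟨QuotientGroup.mk' F y, hy⟩
      refine ⟨j, ?_⟩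
      have h1 : (QuotientGroup.mk' F y) ^ (r ^ j) = 1 := congrArg Subtype.val hj
      rw [← map_pow] at h1
      exact (QuotientGroup.eq_one_iff _).1 h1
    obtain ⟨x, rfl⟩ := QuotientGroup.mk_surjective xb
    have hxT : x ∈ T := by rw [hT]; exact hxb
    have hc := coreSG hp hp2 hn σ hσ hfpf F hFab hFe hFmax hFel hr T hTσ hTr x hxT
    rw [qAutHom_mk]
    exact ((QuotientGroup.eq).2 (by rw [hψ]; exact hc)).symm

end

end Cfsg.Agent.Lib.Helper63.SG
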