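import Mathlib
import Cfsg.Agent.Lib.Helper63.SGTop2

set_option autoImplicit false
open Cfsg

namespace Cfsg.Agent.Lib.Helper63.SG

open Cfsg.Agent.Lib.Helper63.S3A
open Cfsg.Agent.Lib.Helper63.Fpq

universe u

/-- the Fitting subgroup of a finite group is characteristic -/
theorem fitting_char (G : Type*) [Group G] [Finite G] : (fittingSubgroup G).Characteristic := by
  refine Subgroup.characteristic_iff_map_le.mpr (fun φ => ?_)
  haveI hFn : (fittingSubgroup G).Normal := Cfsg.Agent.Lib.Helper71.fittingSubgroup_normal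
  have hFnil : Group.IsNilpotent (fittingSubgroup G) :=
    Cfsg.Agent.Lib.Helper71.fittingSubgroup_isNilpotent
  haveI hmapn : ((fittingSubgroup G).map φ.toMonoidHom).Normal :=
    hFn.map φ.toMonoidHom φ.surjective
  have hmapnil : Group.IsNilpotent ((fittingSubgroup G).map φ.toMonoidHom) :=
    Group.nilpotent_of_mulEquiv ((fittingSubgroup G).equivMapOfInjective φ.toMonoidHom φ.injective)
  exact Cfsg.Agent.Lib.Helper71.le_fittingSubgroup _ hmapnil

/-- the last nontrivial power of the automorphism is trivial modulo the Fitting subgroup -/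
theorem K_aux {p : ℕ} (hp : p.Prime) (hp2 : p ≠ 2) : ∀ N : ℕ, ∀ (G : Type u) [Group G] [Finite G],
    Nat.card G ≤ N → Group.IsSolvable G → ∀ (n : ℕ) (σ : MulAut G), 0 < n → σ ^ p ^ n = 1 →
    (∀ g : G, σ g = g → g = 1) →
    ∀ g : G, g⁻¹ * (σ ^ p ^ (n - 1)) g ∈ fittingSubgroup G := by
  intro N
  induction N with
  | zero =>
    intro G _ _ hc
    have := Nat.card_pos (α := G)
    omega
  | succ N ih =>
    intro G _ _ hcard hG n σ hn hσ hfpf
    haveI := hG
    by_cases hΦ : frattini G = ⊥
    · exact fratFree_K hp hp2 hn σ hσ hfpf hΦ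
    · haveI hΦn : (frattini G).Normal := Subgroup.normal_of_characteristic _
      have hcardlt : Nat.card (G ⧸ frattini G) ≤ N := by
        have h1 := Subgroup.card_eq_card_quotient_mul_card_subgroup (frattini G)
        have h2 : 1 < Nat.card (frattini G) := (Subgroup.one_lt_card_iff_ne_bot _).2 hΦ
        have h3 : 0 < Nat.card (G ⧸ frattini G) := Nat.card_pos
        nlinarith
      have hfpfb := fpf_quot hp σ hσ hfpf (frattini G)
      have hσb : (qAutHom (frattini G) σ) ^ p ^ n = 1 := by rw [← map_pow, hσ, map_one]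
      have hK := ih (G ⧸ frattini G) hcardlt inferInstance n (qAutHom (frattini G) σ) hn hσb
        hfpfb
      obtain ⟨Nn, hNn⟩ : ∃ Nn : Subgroup G,
          Nn = (fittingSubgroup (G ⧸ frattini G)).comap (QuotientGroup.mk' (frattini G)) :=
        ⟨_, rfl⟩
      haveI hFbn : (fittingSubgroup (G ⧸ frattini G)).Normal :=
        Cfsg.Agent.Lib.Helper71.fittingSubgroup_normal
      haveI hNnn : Nn.Normal := by rw [hNn]; exact hFbn.comap _
      have hΦle : frattini G ≤ Nn := by
        rw [hNn]
        intro x hx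
        rw [Subgroup.mem_comap, QuotientGroup.mk'_apply, (QuotientGroup.eq_one_iff x).2 hx]
        exact Subgroup.one_mem _
      have hmap : Nn.map (QuotientGroup.mk' (frattini G)) = fittingSubgroup (G ⧸ frattini G) := by
        rw [hNn]
        exact Subgroup.map_comap_eq_self_of_surjective (QuotientGroup.mk'_surjective _) _
      have hNnil : Group.IsNilpotent Nn := by
        apply Cfsg.Agent.S0070.nilpotent_of_frattini_quotient Nn hΦle
        rw [hmap]; exact Cfsg.Agent.Lib.Helper71.fittingSubgroup_isNilpotent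
      have hle := Cfsg.Agent.Lib.Helper71.le_fittingSubgroup Nn hNnil
      intro g
      apply hle
      rw [hNn, Subgroup.mem_comap]
      have h1 := hK (QuotientGroup.mk g)
      rw [← map_pow, qAutHom_mk] at h1
      rw [map_mul, map_inv]
      exact h1

/-- the chain of normal subgroups with nilpotent factors -/
theorem chain_aux {p : ℕ} (hp : p.Prime) (hp2 : p ≠ 2) : ∀ n : ℕ, ∀ (G : Type u) [Group G]
    [Finite G], Group.IsSolvable G → ∀ σ : MulAut G, σ ^ p ^ n = 1 →
    (∀ g : G, σ g = g → g = 1) →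
    ∃ F : Fin (n + 1) → Subgroup G, F 0 = ⊥ ∧ F (Fin.last n) = ⊤ ∧ Monotone F ∧
      (∀ i, (F i).Normal) ∧
      ∀ i : Fin n, ∃ k : ℕ, (F i.succ).lowerCentralSeries k ≤ F i.castSucc := by
  intro n
  induction n with
  | zero =>
    intro G _ _ hG σ hσ hfpf
    have htriv : ∀ g : G, g = 1 := by
      intro g
      apply hfpf
      rw [pow_zero, pow_one] at hσ
      rw [hσ]; rfl
    refine ⟨fun _ => ⊥, rfl, ?_, monotone_const,
      fun _ => (inferInstance : (⊥ : Subgroup G).Normal), fun i => i.elim0⟩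
    show (⊥ : Subgroup G) = ⊤
    rw [eq_comm, eq_bot_iff]
    intro g _
    rw [htriv g]; exact Subgroup.one_mem _
  | succ n ih =>
    intro G _ _ hG σ hσ hfpf
    haveI := hG
    haveI hFchar : (fittingSubgroup G).Characteristic := fitting_char G
    have hK := K_aux hp hp2 (Nat.card G) G le_rfl hG (n + 1) σ (Nat.succ_pos n) hσ hfpf
    rw [Nat.add_sub_cancel] at hK
    have hfpfb := fpf_quot hp σ hσ hfpf (fittingSubgroup G)
    have hσb : (qAutHom (fittingSubgroup G) σ) ^ p ^ n = 1 := by
      refine MulEquiv.ext (fun y => ?_)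
      induction y using QuotientGroup.induction_on with
      | H x =>
        rw [← map_pow, qAutHom_mk]
        exact ((QuotientGroup.eq).2 (hK x)).symm
    obtain ⟨Fb, hFb0, hFbl, hFbm, hFbn, hFbc⟩ := ih (G ⧸ fittingSubgroup G) inferInstance
      (qAutHom (fittingSubgroup G) σ) hσb hfpfb
    obtain ⟨π, hπ⟩ : ∃ π : G →* G ⧸ fittingSubgroup G,
        π = QuotientGroup.mk' (fittingSubgroup G) := ⟨_, rfl⟩
    obtain ⟨F, hF0, hFs⟩ : ∃ F : Fin (n + 1 + 1) → Subgroup G, F 0 = ⊥ ∧
        ∀ i : Fin (n + 1), F i.succ = (Fb i).comap π :=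
      ⟨Fin.cons ⊥ (fun i => (Fb i).comap π), Fin.cons_zero _ _, fun i => Fin.cons_succ _ _ i⟩
    refine ⟨F, hF0, ?_, ?_, ?_, ?_⟩
    · rw [← Fin.succ_last, hFs, hFbl, Subgroup.comap_top]
    · rw [Fin.monotone_iff_le_succ]
      intro i
      refine Fin.cases ?_ (fun i' => ?_) i
      · rw [Fin.castSucc_zero, hF0]; exact bot_le
      · rw [← Fin.succ_castSucc, hFs, hFs]
        exact Subgroup.comap_mono (hFbm (Fin.castSucc_le_succ i'))
    · intro i
      refine Fin.cases ?_ (fun i' => ?_) i
      · rw [hF0]; infer_instance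
      · rw [hFs]; exact (hFbn i').comap π
    · intro i
      refine Fin.cases ?_ (fun i' => ?_) i
      · have e1 : F (Fin.succ 0) = fittingSubgroup G := by
          rw [hFs, hFb0, hπ, MonoidHom.comap_bot, QuotientGroup.ker_mk']
        rw [e1]
        obtain ⟨k, hk⟩ := (Subgroup.isNilpotent_iff_lowerCentralSeries (fittingSubgroup G)).1
          Cfsg.Agent.Lib.Helper71.fittingSubgroup_isNilpotent
        exact ⟨k, by rw [hk]; exact bot_le⟩
      · obtain ⟨k, hk⟩ := hFbc i'
        refine ⟨k, ?_⟩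
        rw [← Fin.succ_castSucc, hFs, hFs]
        exact (lcs_comap_le π (Fb i'.succ) k).trans (Subgroup.comap_mono hk)

/-- **Shult–Gross.** A finite solvable group with a fixed-point-free automorphism of order
`p ^ n`, `p` an odd prime, has Fitting height at most `n`. -/
theorem shult_gross {G : Type u} [Group G] [Finite G] (hG : Group.IsSolvable G) {p : ℕ}
    (hp : p.Prime) (hp2 : p ≠ 2) (σ : MulAut G) (n : ℕ) (hσ : orderOf σ = p ^ n)
    (hfpf : ∀ g : G, σ g = g → g = 1) :
    ∃ F : Fin (n + 1) → Subgroup G, F 0 = ⊥ ∧ F (Fin.last n) = ⊤ ∧ Monotone F ∧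
      (∀ i, (F i).Normal) ∧
      ∀ i : Fin n, ∃ k : ℕ, (F i.succ).lowerCentralSeries k ≤ F i.castSucc :=
  chain_aux hp hp2 n G hG σ (by rw [← hσ]; exact pow_orderOf_eq_one σ) hfpf

end Cfsg.Agent.Lib.Helper63.SG
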