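import Mathlib
import Cfsg.Agent.Lib.Helper63.SGBase

set_option autoImplicit false

namespace Cfsg.Agent.Lib.Helper63.SH

open Cfsg.Agent.Lib.Helper63.S3A
open Cfsg.Agent.Lib.Helper63.Fpq

universe u

section

variable {W : Type u} [AddCommGroup W] [Finite W]

/-- the configuration: an automorphism `σ` of order dividing `p ^ n` without fixed points on
the module `W` of exponent `ℓ`, normalizing the `r`-group `P` -/
structure SH (ℓ r p n : ℕ) (σ : LAut W) (P : Subgroup (LAut W)) : Prop where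
  hℓ : ℓ.Prime
  hr : r.Prime
  hp : p.Prime
  hrℓ : r ≠ ℓ
  hrp : r ≠ p
  hℓp : ℓ ≠ p
  hn : 0 < n
  sp : σ ^ p ^ n = 1
  exp : ∀ w : W, ℓ • w = 0
  fp : ∀ w : W, σ w = w → w = 0
  Pr : IsPGroup r P
  Pσ : ∀ x ∈ P, σ * x * σ⁻¹ ∈ P

variable {ℓ r p n : ℕ} {σ : LAut W} {P : Subgroup (LAut W)}

theorem SH.copW (h : SH ℓ r p n σ P) (N : Subgroup (LAut W)) (hN : N ≤ P) :
    (Nat.card N).Coprime (Nat.card W) := by
  haveI : Fact r.Prime := ⟨h.hr⟩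
  obtain ⟨k, hk⟩ := card_W h.hℓ h.exp
  obtain ⟨i, hi⟩ := (h.Pr.to_le hN).exists_card_eq
  rw [hk, hi]
  exact Nat.Coprime.pow _ _ ((Nat.coprime_primes h.hr h.hℓ).2 h.hrℓ)

theorem SH.rW (h : SH ℓ r p n σ P) : r.Coprime (Nat.card W) := by
  obtain ⟨k, hk⟩ := card_W h.hℓ h.exp
  rw [hk]
  exact Nat.Coprime.pow_right _ ((Nat.coprime_primes h.hr h.hℓ).2 h.hrℓ)

theorem SH.notp (h : SH ℓ r p n σ P) (N : Subgroup (LAut W)) (hN : N ≤ P) :
    ¬ p ∣ Nat.card N :=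
  not_dvd_pgroup h.hr h.hp h.hrp N (h.Pr.to_le hN)

theorem SH.Ppow (h : SH ℓ r p n σ P) (j : ℕ) : ∀ x ∈ P, σ ^ j * x * (σ ^ j)⁻¹ ∈ P :=
  SG.pow_norm σ P h.Pσ j

theorem SH.psi_pow (h : SH ℓ r p n σ P) : (σ ^ p ^ (n - 1)) ^ p = 1 := by
  rw [← pow_mul, ← pow_succ, Nat.sub_add_cancel h.hn, h.sp]

theorem SH.psi_comm (_h : SH ℓ r p n σ P) : σ * σ ^ p ^ (n - 1) = σ ^ p ^ (n - 1) * σ :=
  ((Commute.refl σ).pow_right _).eq

/-- the restriction of a configuration to an invariant subgroup of the module, for a power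
of the automorphism -/
theorem SH.res (h : SH ℓ r p n σ P) (U : AddSubgroup W) (t : LAut W) (n' : ℕ) (hn' : 0 < n')
    (ht : t ^ p ^ n' = 1) (htU : t ∈ stabU U) (hfix : ∀ w ∈ U, t w = w → w = 0)
    (Q : Subgroup (LAut W)) (hQP : Q ≤ P) (hQt : ∀ x ∈ Q, t * x * t⁻¹ ∈ Q) :
    SH ℓ r p n' (resHom U ⟨t, htU⟩) (img U Q) :=
  { hℓ := h.hℓ, hr := h.hr, hp := h.hp, hrℓ := h.hrℓ, hrp := h.hrp, hℓp := h.hℓp
    hn := hn'
    sp := by
      rw [← map_pow]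
      have e : (⟨t, htU⟩ : stabU U) ^ p ^ n' = 1 := Subtype.ext ht
      rw [e, map_one]
    exp := fun w => Subtype.ext (h.exp w)
    fp := by
      intro w hw
      have h1 : t (w : W) = w := congrArg Subtype.val hw
      exact Subtype.ext (hfix _ w.2 h1)
    Pr := ((h.Pr.to_le hQP).comap_subtype).map _
    Pσ := img_conj ⟨t, htU⟩ hQt }

/-- fixed points of the restricted group lift -/
theorem SH.img_fpf (h : SH ℓ r p n σ P) (U : AddSubgroup W) (t : LAut W) (n' : ℕ)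
    (ht : t ^ p ^ n' = 1) (htU : t ∈ stabU U)
    (Q : Subgroup (LAut W)) (hQP : Q ≤ P) (hQt : ∀ x ∈ Q, t * x * t⁻¹ ∈ Q)
    (hQfp : ∀ x ∈ Q, t * x * t⁻¹ = x → x = 1) :
    ∀ y ∈ img U Q, resHom U ⟨t, htU⟩ * y * (resHom U ⟨t, htU⟩)⁻¹ = y → y = 1 := by
  intro y hy hyt
  obtain ⟨x, hx, rfl⟩ := mem_img.1 hy
  rw [← map_inv, ← map_mul, ← map_mul] at hyt
  have h1 : (x : LAut W)⁻¹ * (t * x * t⁻¹) ∈ Q ⊓ fixer U := by
    refine ⟨Q.mul_mem (Q.inv_mem hx) (hQt _ hx), ?_⟩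
    intro w hw
    have h3 := congrArg (fun e : LAut U => ((e ⟨w, hw⟩ : U) : W)) hyt
    have h4 : (t * x * t⁻¹) w = (x : LAut W) w := h3
    show (x : LAut W)⁻¹ ((t * x * t⁻¹) w) = w
    rw [h4, inv_app]
  obtain ⟨k, hk, hk1⟩ := SG.liftN t p n' h.hp ht (Q ⊓ fixer U)
    (h.notp _ (inf_le_left.trans hQP))
    (fun k hk => ⟨hQt k hk.1, fixer_conj htU hk.2⟩) x h1
  have h3 : (x : LAut W) * k = 1 := hQfp _ (Q.mul_mem hx hk.1) hk1
  have h4 : (x : LAut W) = k⁻¹ := eq_inv_of_mul_eq_one_left h3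
  apply res_eq_one
  rw [h4]; exact Subgroup.inv_mem _ hk.2

end

end Cfsg.Agent.Lib.Helper63.SH
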