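import Mathlib
import Cfsg.Agent.Lib.Helper63.SHOrb
import Cfsg.Agent.Lib.Helper63.SHCount
import Cfsg.Agent.Lib.Helper63.SHArith2
import Cfsg.Agent.Lib.Helper63.SGNa2

set_option autoImplicit false

namespace Cfsg.Agent.Lib.Helper63.SH

open Cfsg.Agent.Lib.Helper63.S3A
open Cfsg.Agent.Lib.Helper63.Fpq
open Cfsg.Agent.Lib.Helper97.HH
open scoped commutatorElement

universe u

section

variable {W : Type u} [AddCommGroup W] [Finite W]
variable {ℓ r n : ℕ} {σ : LAut W} {P : Subgroup (LAut W)}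

theorem c2_base (h : SH ℓ r 2 n σ P)
    (hc1 : ∀ x ∈ P, ∀ y ∈ P, x * y * x⁻¹ * y⁻¹ ∈ SG.ctr P)
    (hc5 : ∀ x ∈ P, x ^ r ∈ SG.ctr P)
    (hirr : ∀ U : AddSubgroup W, (∀ x ∈ P, ∀ w ∈ U, x w ∈ U) → (∀ w ∈ U, σ w ∈ U) →
      U = ⊥ ∨ U = ⊤)
    (hnc : ¬ ∀ x ∈ P, σ ^ 2 ^ (n - 1) * x = x * σ ^ 2 ^ (n - 1))
    (hσZ : ∀ z ∈ SG.ctr P, σ * z = z * σ) (hW : ∃ w : W, w ≠ 0) :
    r + 1 = 2 ^ n ∧ ∀ x ∈ P, σ ^ 2 ^ (n - 1) * x = x * σ ^ 2 ^ (n - 1) → σ * x = x * σ := by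
  classical
  haveI hnt : Nontrivial W := by
    obtain ⟨w, hw⟩ := hW
    exact ⟨⟨w, 0, hw⟩⟩
  have hσN : σ ∈ nzr P := mem_nz P σ h.Pσ
  have hnorm' : ∀ e' ∈ nzr P, ∀ z ∈ P, e' * z * e'⁻¹ ∈ P := fun e' he z hz => nz_conj he z hz
  obtain ⟨cc, hcc⟩ : ∃ cc : ↥(nzr P) →* MulAut ↥P,
      cc = Cfsg.Agent.Lib.Helper97.FrobCount.conjOn (nzr P) P hnorm' := ⟨_, rfl⟩
  have hccv : ∀ (e' : nzr P) (g : ↥P),
      ((cc e' g : ↥P) : LAut W) = e' * g * (e' : LAut W)⁻¹ := by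
    intro e' g; rw [hcc]; rfl
  obtain ⟨α, hα⟩ : ∃ α : MulAut ↥P, α = cc ⟨σ, hσN⟩ := ⟨_, rfl⟩
  have hαpow : ∀ (j : ℕ) (g : ↥P), (((α ^ j) g : ↥P) : LAut W) = σ ^ j * g * (σ ^ j)⁻¹ := by
    intro j g
    rw [hα, ← map_pow, hccv]
    rfl
  have hαN : α ^ 2 ^ n = 1 := by
    refine MulEquiv.ext (fun g => Subtype.ext ?_)
    rw [hαpow, h.sp, one_mul, inv_one, mul_one]
    rfl
  have hcomm : ∀ g k : ↥P, ⁅g, k⁆ ∈ Subgroup.center ↥P := by
    intro g k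
    rw [SG.center_iff_ctr]
    exact hc1 g g.2 k k.2
  have hpow : ∀ g : ↥P, g ^ r ∈ Subgroup.center ↥P := by
    intro g
    rw [SG.center_iff_ctr, Subgroup.coe_pow]
    exact hc5 g g.2
  have hαZ : ∀ z ∈ Subgroup.center ↥P, α z = z := by
    intro z hz
    rw [SG.center_iff_ctr] at hz
    apply Subtype.ext
    have h1 := hαpow 1 z
    rw [pow_one, pow_one] at h1
    rw [h1, hσZ _ hz, mul_inv_cancel_right]
  have hψ' : ∃ g : ↥P, (α ^ 2 ^ (n - 1)) g ≠ g := by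
    by_contra hno
    push Not at hno
    apply hnc
    intro x hx
    have h1 := congrArg Subtype.val (hno ⟨x, hx⟩)
    rw [hαpow] at h1
    exact mul_inv_eq_iff_eq_mul.mp h1
  have hQcop : ¬ ℓ ∣ Nat.card ↥P := not_dvd_pgroup h.hr h.hℓ h.hrℓ P h.Pr
  have hcop : Nat.Coprime (2 ^ n) ℓ :=
    Nat.Coprime.pow_left _ ((Nat.coprime_primes Nat.prime_two h.hℓ).2 (Ne.symm h.hℓp))
  have hirr' : ∀ V : AddSubgroup W,
      (∀ g : ↥P, ∀ x ∈ V, ((SG.toEnd W).comp P.subtype) g x ∈ V) →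
      (∀ x ∈ V, SG.toEnd W σ x ∈ V) → V = ⊥ ∨ V = ⊤ := by
    intro V hVρ hVξ
    exact hirr V (fun x hx w hw => hVρ ⟨x, hx⟩ w hw) hVξ
  obtain ⟨-, hbound⟩ := hh_core_gen2 (M := W) ((SG.toEnd W).comp P.subtype) α
    (SG.toEnd W σ) (SG.toEnd W σ⁻¹)
    (by rw [← map_mul, mul_inv_cancel, map_one])
    (by rw [← map_mul, inv_mul_cancel, map_one])
    (by
      intro g
      show SG.toEnd W σ * SG.toEnd W (g : LAut W) =
        SG.toEnd W ((α g : ↥P) : LAut W) * SG.toEnd W σ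
      rw [← map_mul, ← map_mul]
      congr 1
      have h1 := hαpow 1 g
      rw [pow_one, pow_one] at h1
      rw [h1, inv_mul_cancel_right])
    h.hℓ (pow_pos (by norm_num) n) hcop hQcop hcomm hαZ
    (by rw [← map_pow, h.sp, map_one])
    h.exp
    (by
      intro z _ hz1
      apply Subtype.ext
      refine LinearEquiv.ext (fun w => ?_)
      have h1 := congrArg (fun E : AddMonoid.End W => E w) hz1
      exact h1)
    (by
      intro m hm
      exact h.fp m hm)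
    hirr'
  obtain ⟨hres, hfix⟩ := arith_core h.hr h.hrp h.Pr hcomm hpow α h.hn hαN hαZ hψ' hbound
  refine ⟨hres, ?_⟩
  intro x hx hxψ
  have h1 : (α ^ 2 ^ (n - 1)) ⟨x, hx⟩ = ⟨x, hx⟩ := by
    apply Subtype.ext
    rw [hαpow]
    exact mul_inv_eq_iff_eq_mul.mpr hxψ
  have h2 := congrArg Subtype.val (hfix _ h1)
  have h3 := hαpow 1 ⟨x, hx⟩
  rw [pow_one, pow_one] at h3
  rw [h3] at h2
  exact mul_inv_eq_iff_eq_mul.mp h2

end

theorem thmC2_aux : ∀ N : ℕ, ∀ (W : Type u) [AddCommGroup W] [Finite W] (ℓ r n : ℕ)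
    (σ : LAut W) (P : Subgroup (LAut W)), n ≤ N → SH ℓ r 2 n σ P →
    (∀ x ∈ P, ∀ y ∈ P, x * y * x⁻¹ * y⁻¹ ∈ SG.ctr P) →
    (∀ x ∈ P, x ^ r ∈ SG.ctr P) →
    (∀ U : AddSubgroup W, (∀ x ∈ P, ∀ w ∈ U, x w ∈ U) → (∀ w ∈ U, σ w ∈ U) → U = ⊥ ∨ U = ⊤) →
    (¬ ∀ x ∈ P, σ ^ 2 ^ (n - 1) * x = x * σ ^ 2 ^ (n - 1)) →
    ∃ m, m ≤ n ∧ r + 1 = 2 ^ m ∧
      (∀ x ∈ P, σ ^ 2 ^ (n - 1) * x = x * σ ^ 2 ^ (n - 1) →
        σ ^ 2 ^ (n - m) * x = x * σ ^ 2 ^ (n - m)) ∧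
      ∃ M : AddSubgroup W, M ≠ ⊥ ∧ (∀ x ∈ P, ∀ w ∈ M, x w ∈ M) ∧
        (∀ w ∈ M, (σ ^ 2 ^ (n - m)) w ∈ M) ∧
        (∀ w ∈ M, (σ ^ 2 ^ (n - m)) w = w → w = 0) ∧
        ∃ x ∈ P, ∃ w ∈ M, (σ ^ 2 ^ (n - 1)) (x w) ≠ x ((σ ^ 2 ^ (n - 1)) w) := by
  intro N
  induction N with
  | zero =>
    intro W _ _ ℓ r n σ P hnN h
    have := h.hn
    omega
  | succ N ih =>
    intro W _ _ ℓ r n σ P hnN h hc1 hc5 hirr hnc
    classical
    have hW : ∃ w : W, w ≠ 0 := by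
      by_contra hno
      push Not at hno
      apply hnc
      intro x _
      refine LinearEquiv.ext (fun w => ?_)
      rw [hno ((σ ^ 2 ^ (n - 1) * x) w), hno ((x * σ ^ 2 ^ (n - 1)) w)]
    have hσN : σ ∈ nzr P := mem_nz P σ h.Pσ
    have hCab : ∀ x ∈ SG.ctr P, ∀ y ∈ SG.ctr P, x * y = y * x := fun x hx y hy => hy.2 x hx.1
    let Z : Subgroup (LAut W) :=
      { carrier := {z | z ∈ SG.ctr P ∧ z ^ r = 1}
        mul_mem' := by
          rintro a b ⟨ha, ha'⟩ ⟨hb, hb'⟩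
          refine ⟨(SG.ctr P).mul_mem ha hb, ?_⟩
          have hcm : Commute a b := hCab a ha b hb
          rw [hcm.mul_pow, ha', hb', one_mul]
        one_mem' := ⟨(SG.ctr P).one_mem, one_pow r⟩
        inv_mem' := by
          rintro a ⟨ha, ha'⟩
          exact ⟨(SG.ctr P).inv_mem ha, by rw [inv_pow, ha', inv_one]⟩ }
    have hZP : Z ≤ P := fun z hz => hz.1.1
    have hZab : ∀ x ∈ Z, ∀ y ∈ Z, x * y = y * x := fun x hx y hy => hCab x hx.1 y hy.1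
    have hZexp : ∀ z ∈ Z, z ^ r = 1 := fun z hz => hz.2
    have hZσ : ∀ z ∈ Z, σ * z * σ⁻¹ ∈ Z := by
      intro z hz
      refine ⟨SG.ctr_conj hσN z hz.1, ?_⟩
      rw [conj_pow, hz.2, mul_one, mul_inv_cancel]
    obtain ⟨Y, hY⟩ := MaxFix.exists Z hW
    obtain ⟨k, hk, hper1, hper2⟩ := exists_period h Y
    obtain ⟨e, hke, hen, hcz, hfixe, hek⟩ :=
      cent_period h hZP hZab hZexp hZσ hY k hk hper1 hper2
    have hUP : ∀ x ∈ P, ∀ w ∈ FixSp Y, x w ∈ FixSp Y := by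
      intro x hx w hw
      exact FixSp_comm (fun y hy => (hY.1 hy).1.2 x hx) hw
    have hUτ : ∀ w ∈ FixSp Y, (σ ^ 2 ^ e) w ∈ FixSp Y := by
      intro w hw
      have h1 : (σ ^ 2 ^ e) w ∈ FixSp (cjS (σ ^ 2 ^ e) Y) := FixSp_cjS' hw
      rw [cjS_eq_of_nz hcz.2.1] at h1
      exact h1
    rcases Nat.eq_zero_or_pos e with he0 | he0
    · -- the base case
      rw [he0, pow_zero, pow_one] at hcz hUτ
      have hUtop : FixSp Y = ⊤ := by
        rcases hirr (FixSp Y) hUP hUτ with h0 | h0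
        · exact absurd h0 hY.2.1
        · exact h0
      have hYbot : ∀ y ∈ Y, y = 1 := by
        intro y hy
        refine LinearEquiv.ext (fun w => ?_)
        have hw : w ∈ FixSp Y := by rw [hUtop]; trivial
        exact hw y hy
      have hσZ' : ∀ z ∈ Z, σ * z = z * σ := by
        intro z hz
        have h1 := hYbot _ (hcz.2.2 z hz)
        have h2 : σ * z * σ⁻¹ = z := mul_inv_eq_one.mp h1
        exact mul_inv_eq_iff_eq_mul.mp h2
      have hctr : SH ℓ r 2 n σ (SG.ctr P) :=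
        { hℓ := h.hℓ, hr := h.hr, hp := h.hp, hrℓ := h.hrℓ, hrp := h.hrp, hℓp := h.hℓp
          hn := h.hn, sp := h.sp, exp := h.exp, fp := h.fp, Pr := h.Pr.to_le (SG.ctr_le P)
          Pσ := SG.ctr_conj hσN }
      have hσC : ∀ z ∈ SG.ctr P, σ * z = z * σ :=
        omega_comm hctr hCab σ ⟨n, h.sp⟩ (SG.ctr_conj hσN) (fun x hx hxr => hσZ' x ⟨hx, hxr⟩)
      obtain ⟨hres, hfix⟩ := c2_base h hc1 hc5 hirr hnc hσC hW
      refine ⟨n, le_rfl, hres, ?_, ⊤, ?_, ?_, ?_, ?_, ?_⟩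
      · intro x hx hxψ
        rw [Nat.sub_self, pow_zero, pow_one]
        exact hfix x hx hxψ
      · intro htb
        obtain ⟨w, hw⟩ := hW
        apply hw
        have : w ∈ (⊤ : AddSubgroup W) := trivial
        rw [htb] at this
        exact AddSubgroup.mem_bot.mp this
      · intro x _ w _; trivial
      · intro w _; trivial
      · intro w _ hw
        rw [Nat.sub_self, pow_zero, pow_one] at hw
        exact h.fp w hw
      · by_contra hno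
        push Not at hno
        apply hnc
        intro x hx
        refine LinearEquiv.ext (fun w => ?_)
        exact hno x hx w trivial
    · -- the inductive case
      obtain ⟨τ, hτ⟩ : ∃ τ : LAut W, τ = σ ^ 2 ^ e := ⟨_, rfl⟩
      rw [← hτ] at hcz hfixe hUτ
      have hτP : τ ∈ nzr P := by rw [hτ]; exact Subgroup.pow_mem _ hσN _
      have hτpow : τ ^ 2 ^ (n - e) = 1 := by
        have e2 : e + (n - e) = n := by omega
        rw [hτ, ← pow_mul, ← pow_add, e2, h.sp]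
      have hψτ : τ ^ 2 ^ (n - e - 1) = σ ^ 2 ^ (n - 1) := by
        have e2 : e + (n - e - 1) = n - 1 := by omega
        rw [hτ, ← pow_mul, ← pow_add, e2]
      have hp0 : FixSp Y ≤ FixSp Y ∧ FixSp Y ≠ ⊥ ∧ (∀ x ∈ P, ∀ w ∈ FixSp Y, x w ∈ FixSp Y) ∧
          (∀ w ∈ FixSp Y, τ w ∈ FixSp Y) := ⟨le_rfl, hY.2.1, hUP, hUτ⟩
      obtain ⟨M₁, -, hM⟩ := Finite.exists_le_minimal
        (p := fun V : AddSubgroup W => V ≤ FixSp Y ∧ V ≠ ⊥ ∧ (∀ x ∈ P, ∀ w ∈ V, x w ∈ V) ∧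
          (∀ w ∈ V, τ w ∈ V)) hp0
      have hMU : M₁ ≤ FixSp Y := hM.1.1
      have hM0 : M₁ ≠ ⊥ := hM.1.2.1
      have hMP : ∀ x ∈ P, ∀ w ∈ M₁, x w ∈ M₁ := hM.1.2.2.1
      have hMτ : ∀ w ∈ M₁, τ w ∈ M₁ := hM.1.2.2.2
      have hMmin : ∀ V : AddSubgroup W, V ≤ M₁ → V ≠ ⊥ → (∀ x ∈ P, ∀ w ∈ V, x w ∈ V) →
          (∀ w ∈ V, τ w ∈ V) → M₁ ≤ V := by
        intro V hVM hV0 hVP hVτ
        exact hM.2 ⟨hVM.trans hMU, hV0, hVP, hVτ⟩ hVM
      have hPM : P ≤ stabU M₁ := fun x hx => stabU_of_maps M₁ x (hMP x hx)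
      have hτM : τ ∈ stabU M₁ := stabU_of_maps M₁ τ hMτ
      have hsub : SH ℓ r 2 (n - e) (resHom M₁ ⟨τ, hτM⟩) (img M₁ P) :=
        h.res M₁ τ (n - e) (by omega) hτpow hτM (fun w hw => hfixe w (hMU hw)) P le_rfl
          (fun x hx => nz_conj hτP x hx)
      obtain ⟨tM, htM⟩ : ∃ tM : LAut M₁, tM = resHom M₁ ⟨τ, hτM⟩ := ⟨_, rfl⟩
      rw [← htM] at hsub
      have htMv : ∀ w : M₁, ((tM w : M₁) : W) = τ (w : W) := by intro w; rw [htM]; rfl
      have htMpow : ∀ (j : ℕ) (w : M₁), (((tM ^ j) w : M₁) : W) = (τ ^ j) (w : W) := by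
        intro j
        induction j with
        | zero => intro w; rw [pow_zero, pow_zero]; rfl
        | succ j ih2 =>
          intro w
          rw [pow_succ, pow_succ]
          show (((tM ^ j) (tM w) : M₁) : W) = (τ ^ j) (τ (w : W))
          rw [ih2, htMv]
      have himgctr : ∀ c : stabU M₁, (c : LAut W) ∈ SG.ctr P →
          resHom M₁ c ∈ SG.ctr (img M₁ P) := by
        intro c hc
        refine ⟨mem_img.2 ⟨c, hc.1, rfl⟩, ?_⟩
        intro z' hz'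
        obtain ⟨z, hz, rfl⟩ := mem_img.1 hz'
        rw [← map_mul, ← map_mul]
        congr 1
        exact Subtype.ext (hc.2 z hz)
      have hc1' : ∀ x' ∈ img M₁ P, ∀ y' ∈ img M₁ P,
          x' * y' * x'⁻¹ * y'⁻¹ ∈ SG.ctr (img M₁ P) := by
        intro x' hx' y' hy'
        obtain ⟨x, hx, rfl⟩ := mem_img.1 hx'
        obtain ⟨y, hy, rfl⟩ := mem_img.1 hy'
        rw [← map_inv, ← map_inv, ← map_mul, ← map_mul, ← map_mul]
        exact himgctr _ (hc1 x hx y hy)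
      have hc5' : ∀ x' ∈ img M₁ P, x' ^ r ∈ SG.ctr (img M₁ P) := by
        intro x' hx'
        obtain ⟨x, hx, rfl⟩ := mem_img.1 hx'
        rw [← map_pow]
        exact himgctr _ (hc5 x hx)
      have hirr' : ∀ V : AddSubgroup ↥M₁, (∀ x' ∈ img M₁ P, ∀ w ∈ V, x' w ∈ V) →
          (∀ w ∈ V, tM w ∈ V) → V = ⊥ ∨ V = ⊤ := by
        intro V hVP hVτ
        by_cases hV0 : V = ⊥
        · exact Or.inl hV0
        right
        have h1 : M₁ ≤ V.map M₁.subtype := hMmin (V.map M₁.subtype) (by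
            rintro _ ⟨v, -, rfl⟩
            exact v.2) (by
            intro hbot
            apply hV0
            rw [eq_bot_iff]
            intro v hv
            have h2 : (v : W) ∈ V.map M₁.subtype := ⟨v, hv, rfl⟩
            rw [hbot, AddSubgroup.mem_bot] at h2
            rw [AddSubgroup.mem_bot]
            exact Subtype.ext h2) (by
            rintro x hx _ ⟨v, hv, rfl⟩
            exact ⟨(resHom M₁ ⟨x, hPM hx⟩) v,
              hVP _ (mem_img.2 ⟨⟨x, hPM hx⟩, hx, rfl⟩) v hv, rfl⟩) (by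
            rintro _ ⟨v, hv, rfl⟩
            exact ⟨tM v, hVτ v hv, htMv v⟩)
        rw [eq_top_iff]
        intro m _
        have h2 : (m : W) ∈ V.map M₁.subtype := h1 m.2
        obtain ⟨v, hv, hvm⟩ := h2
        have : v = m := Subtype.ext hvm
        rw [← this]; exact hv
      have hnc' : ¬ ∀ x' ∈ img M₁ P,
          tM ^ 2 ^ (n - e - 1) * x' = x' * tM ^ 2 ^ (n - e - 1) := by
        intro hall
        apply hnc
        let W₀ : AddSubgroup W :=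
          { carrier := {w | ∀ x ∈ P, (σ ^ 2 ^ (n - 1)) (x w) = x ((σ ^ 2 ^ (n - 1)) w)}
            add_mem' := by
              intro a b ha hb x hx
              rw [map_add, map_add, map_add, map_add, ha x hx, hb x hx]
            zero_mem' := by
              intro x hx
              rw [map_zero, map_zero, map_zero]
            neg_mem' := by
              intro a ha x hx
              rw [map_neg, map_neg, map_neg, map_neg, ha x hx] }
        have hW₀P : ∀ y ∈ P, ∀ w ∈ W₀, y w ∈ W₀ := by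
          intro y hy w hw x hx
          have h1 := hw (x * y) (P.mul_mem hx hy)
          have h2 := hw y hy
          show (σ ^ 2 ^ (n - 1)) (x (y w)) = x ((σ ^ 2 ^ (n - 1)) (y w))
          rw [h2]
          exact h1
        have hcomm : ∀ v, (σ ^ 2 ^ (n - 1)) (σ v) = σ ((σ ^ 2 ^ (n - 1)) v) := by
          intro v
          have : σ ^ 2 ^ (n - 1) * σ = σ * σ ^ 2 ^ (n - 1) := (h.psi_comm).symm
          exact congrArg (fun e : LAut W => e v) this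
        have hW₀σ : ∀ w ∈ W₀, σ w ∈ W₀ := by
          intro w hw x hx
          have hx' : σ⁻¹ * x * σ ∈ P := nz_conj' hσN x hx
          have h1 := hw _ hx'
          have h2 : σ ((σ⁻¹ * x * σ) w) = x (σ w) := by
            show σ (σ⁻¹ (x (σ w))) = x (σ w)
            rw [app_inv]
          show (σ ^ 2 ^ (n - 1)) (x (σ w)) = x ((σ ^ 2 ^ (n - 1)) (σ w))
          rw [← h2, hcomm ((σ⁻¹ * x * σ) w), h1, hcomm w]
          show σ (σ⁻¹ (x (σ ((σ ^ 2 ^ (n - 1)) w)))) = _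
          rw [app_inv]
        have hM₁W₀ : M₁ ≤ W₀ := by
          intro w hw x hx
          have h3 := hall _ (mem_img.2 ⟨⟨x, hPM hx⟩, hx, rfl⟩)
          have h4 : (((tM ^ 2 ^ (n - e - 1)) ((resHom M₁ ⟨x, hPM hx⟩) ⟨w, hw⟩) : M₁) : W) =
              (((resHom M₁ ⟨x, hPM hx⟩) ((tM ^ 2 ^ (n - e - 1)) ⟨w, hw⟩) : M₁) : W) :=
            congrArg (fun e : LAut M₁ => ((e ⟨w, hw⟩ : M₁) : W)) h3
          rw [htMpow] at h4
          have h5 : (((resHom M₁ ⟨x, hPM hx⟩) ((tM ^ 2 ^ (n - e - 1)) ⟨w, hw⟩) : M₁) : W) =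
              x ((((tM ^ 2 ^ (n - e - 1)) ⟨w, hw⟩ : M₁) : W)) := rfl
          rw [h5, htMpow, hψτ] at h4
          exact h4
        rcases hirr W₀ hW₀P hW₀σ with h0 | h0
        · exfalso
          apply hM0
          rw [eq_bot_iff, ← h0]
          exact hM₁W₀
        · intro x hx
          refine LinearEquiv.ext (fun w => ?_)
          have hw : w ∈ W₀ := by rw [h0]; trivial
          exact hw x hx
      obtain ⟨m, hm, hres, hi, M, hM0', hMP', hMg, hMfp, x', hx', w', hw', hne⟩ :=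
        ih ↥M₁ ℓ r (n - e) tM (img M₁ P) (by omega) hsub hc1' hc5' hirr' hnc'
      have hgτ : τ ^ 2 ^ (n - e - m) = σ ^ 2 ^ (n - m) := by
        have e2 : e + (n - e - m) = n - m := by omega
        rw [hτ, ← pow_mul, ← pow_add, e2]
      refine ⟨m, by omega, hres, ?_, M.map M₁.subtype, ?_, ?_, ?_, ?_, ?_⟩
      · intro x hx hxψ
        obtain ⟨g, hg⟩ : ∃ g : LAut W, g = σ ^ 2 ^ (n - m) := ⟨_, rfl⟩
        obtain ⟨ψ, hψ⟩ : ∃ ψ : LAut W, ψ = σ ^ 2 ^ (n - 1) := ⟨_, rfl⟩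
        rw [← hψ] at hxψ hψτ
        rw [← hg] at hgτ ⊢
        have hgσ : ∀ (i : ℕ) (v : W), g ((σ ^ i) v) = (σ ^ i) (g v) := by
          intro i v
          have : g * σ ^ i = σ ^ i * g := by
            rw [hg]
            exact ((Commute.refl σ).pow_pow _ _).eq
          exact congrArg (fun e : LAut W => e v) this
        have hψσ : ∀ (i : ℕ), Commute ψ (σ ^ i) := by
          intro i
          rw [hψ]
          exact (Commute.refl σ).pow_pow _ _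
        have hgen : ∀ (i : ℕ) (u : W), u ∈ M₁ → g (x ((σ ^ i) u)) = x (g ((σ ^ i) u)) := by
          intro i u hu
          have hx'' : (σ ^ i)⁻¹ * x * σ ^ i ∈ P := norm_inv P (σ ^ i) (h.Ppow i) x hx
          have hxC : Commute ψ x := hxψ
          have hx''ψ : ψ * ((σ ^ i)⁻¹ * x * σ ^ i) = ((σ ^ i)⁻¹ * x * σ ^ i) * ψ :=
            (((hψσ i).inv_right.mul_right hxC).mul_right (hψσ i)).eq
          have h3 := hi (resHom M₁ ⟨_, hPM hx''⟩) (mem_img.2 ⟨⟨_, hPM hx''⟩, hx'', rfl⟩) (by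
            rw [htM, ← map_pow, ← map_mul, ← map_mul]
            congr 1
            apply Subtype.ext
            show τ ^ 2 ^ (n - e - 1) * ((σ ^ i)⁻¹ * x * σ ^ i) =
              ((σ ^ i)⁻¹ * x * σ ^ i) * τ ^ 2 ^ (n - e - 1)
            rw [hψτ]
            exact hx''ψ)
          have h4 : (((tM ^ 2 ^ (n - e - m)) ((resHom M₁ ⟨_, hPM hx''⟩) ⟨u, hu⟩) : M₁) : W) =
              (((resHom M₁ ⟨_, hPM hx''⟩) ((tM ^ 2 ^ (n - e - m)) ⟨u, hu⟩) : M₁) : W) :=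
            congrArg (fun e : LAut M₁ => ((e ⟨u, hu⟩ : M₁) : W)) h3
          rw [htMpow] at h4
          have h5 : (((resHom M₁ ⟨_, hPM hx''⟩) ((tM ^ 2 ^ (n - e - m)) ⟨u, hu⟩) : M₁) : W) =
              ((σ ^ i)⁻¹ * x * σ ^ i) ((((tM ^ 2 ^ (n - e - m)) ⟨u, hu⟩ : M₁) : W)) := rfl
          rw [h5, htMpow, hgτ] at h4
          have h6 : g (((σ ^ i)⁻¹ * x * σ ^ i) u) = ((σ ^ i)⁻¹ * x * σ ^ i) (g u) := h4
          have e1 : ∀ v : W, x ((σ ^ i) v) = (σ ^ i) (((σ ^ i)⁻¹ * x * σ ^ i) v) := by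
            intro v
            show x ((σ ^ i) v) = (σ ^ i) ((σ ^ i)⁻¹ (x ((σ ^ i) v)))
            rw [app_inv]
          rw [e1 u, hgσ i (((σ ^ i)⁻¹ * x * σ ^ i) u), h6, ← e1 (g u), hgσ i u]
        have hS_P : ∀ y ∈ P, ∀ w ∈ AddSubgroup.closure {w : W | ∃ i : ℕ, ∃ u ∈ M₁, w = (σ ^ i) u},
            y w ∈ AddSubgroup.closure {w : W | ∃ i : ℕ, ∃ u ∈ M₁, w = (σ ^ i) u} := by
          intro y hy
          have h1 : AddSubgroup.closure {w : W | ∃ i : ℕ, ∃ u ∈ M₁, w = (σ ^ i) u} ≤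
              (AddSubgroup.closure {w : W | ∃ i : ℕ, ∃ u ∈ M₁, w = (σ ^ i) u}).comap
                (y.toLinearMap.toAddMonoidHom) := by
            rw [AddSubgroup.closure_le]
            rintro _ ⟨i, u, hu, rfl⟩
            show y ((σ ^ i) u) ∈ AddSubgroup.closure {w : W | ∃ i : ℕ, ∃ u ∈ M₁, w = (σ ^ i) u}
            apply AddSubgroup.subset_closure
            have hy'' : (σ ^ i)⁻¹ * y * σ ^ i ∈ P := norm_inv P (σ ^ i) (h.Ppow i) y hy
            refine ⟨i, ((σ ^ i)⁻¹ * y * σ ^ i) u, hMP _ hy'' u hu, ?_⟩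
            show y ((σ ^ i) u) = (σ ^ i) ((σ ^ i)⁻¹ (y ((σ ^ i) u)))
            rw [app_inv]
          exact fun w hw => h1 hw
        have hS_σ : ∀ w ∈ AddSubgroup.closure {w : W | ∃ i : ℕ, ∃ u ∈ M₁, w = (σ ^ i) u},
            σ w ∈ AddSubgroup.closure {w : W | ∃ i : ℕ, ∃ u ∈ M₁, w = (σ ^ i) u} := by
          have h1 : AddSubgroup.closure {w : W | ∃ i : ℕ, ∃ u ∈ M₁, w = (σ ^ i) u} ≤
              (AddSubgroup.closure {w : W | ∃ i : ℕ, ∃ u ∈ M₁, w = (σ ^ i) u}).comap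
                (σ.toLinearMap.toAddMonoidHom) := by
            rw [AddSubgroup.closure_le]
            rintro _ ⟨i, u, hu, rfl⟩
            show σ ((σ ^ i) u) ∈ AddSubgroup.closure {w : W | ∃ i : ℕ, ∃ u ∈ M₁, w = (σ ^ i) u}
            apply AddSubgroup.subset_closure
            refine ⟨i + 1, u, hu, ?_⟩
            rw [pow_succ']
            rfl
          exact fun w hw => h1 hw
        have hS_top : AddSubgroup.closure {w : W | ∃ i : ℕ, ∃ u ∈ M₁, w = (σ ^ i) u} = ⊤ := by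
          rcases hirr _ hS_P hS_σ with h0 | h0
          · exfalso
            apply hM0
            rw [eq_bot_iff, ← h0]
            intro u hu
            apply AddSubgroup.subset_closure
            exact ⟨0, u, hu, by rw [pow_zero]; rfl⟩
          · exact h0
        refine LinearEquiv.ext (fun w => ?_)
        have hw : w ∈ AddSubgroup.closure {w : W | ∃ i : ℕ, ∃ u ∈ M₁, w = (σ ^ i) u} := by
          rw [hS_top]; trivial
        show g (x w) = x (g w)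
        refine AddSubgroup.closure_induction (p := fun w _ => g (x w) = x (g w)) ?_ ?_ ?_ ?_ hw
        · rintro _ ⟨i, u, hu, rfl⟩
          exact hgen i u hu
        · rw [map_zero, map_zero, map_zero]
        · intro a b _ _ ha hb
          rw [map_add, map_add, map_add, map_add, ha, hb]
        · intro a _ ha
          rw [map_neg, map_neg, map_neg, map_neg, ha]
      · intro hbot
        apply hM0'
        rw [eq_bot_iff]
        intro v hv
        have h2 : (v : W) ∈ M.map M₁.subtype := ⟨v, hv, rfl⟩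
        rw [hbot, AddSubgroup.mem_bot] at h2
        rw [AddSubgroup.mem_bot]
        exact Subtype.ext h2
      · rintro x hx _ ⟨v, hv, rfl⟩
        exact ⟨(resHom M₁ ⟨x, hPM hx⟩) v, hMP' _ (mem_img.2 ⟨⟨x, hPM hx⟩, hx, rfl⟩) v hv, rfl⟩
      · rintro _ ⟨v, hv, rfl⟩
        refine ⟨(tM ^ 2 ^ (n - e - m)) v, hMg v hv, ?_⟩
        show (((tM ^ 2 ^ (n - e - m)) v : M₁) : W) = (σ ^ 2 ^ (n - m)) (v : W)
        rw [htMpow, hgτ]
      · rintro _ ⟨v, hv, rfl⟩ hfix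
        have h2 : (tM ^ 2 ^ (n - e - m)) v = v := by
          apply Subtype.ext
          rw [htMpow, hgτ]
          exact hfix
        have h3 := hMfp v hv h2
        rw [h3]; rfl
      · obtain ⟨x, hx, rfl⟩ := mem_img.1 hx'
        refine ⟨x, hx, (w' : W), ⟨w', hw', rfl⟩, ?_⟩
        intro heq
        apply hne
        apply Subtype.ext
        rw [htMpow]
        have h5 : ((resHom M₁ x ((tM ^ 2 ^ (n - e - 1)) w') : M₁) : W) =
            (x : LAut W) (((tM ^ 2 ^ (n - e - 1)) w' : M₁) : W) := rfl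
        rw [h5, htMpow, hψτ]
        exact heq

theorem thmC2 {W : Type u} [AddCommGroup W] [Finite W] {ℓ r n : ℕ} {σ : LAut W}
    {P : Subgroup (LAut W)} (h : SH ℓ r 2 n σ P)
    (hc1 : ∀ x ∈ P, ∀ y ∈ P, x * y * x⁻¹ * y⁻¹ ∈ SG.ctr P)
    (hc5 : ∀ x ∈ P, x ^ r ∈ SG.ctr P)
    (hirr : ∀ U : AddSubgroup W, (∀ x ∈ P, ∀ w ∈ U, x w ∈ U) → (∀ w ∈ U, σ w ∈ U) →
      U = ⊥ ∨ U = ⊤)
    (hnc : ¬ ∀ x ∈ P, σ ^ 2 ^ (n - 1) * x = x * σ ^ 2 ^ (n - 1)) :
    ∃ m, m ≤ n ∧ r + 1 = 2 ^ m ∧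
      (∀ x ∈ P, σ ^ 2 ^ (n - 1) * x = x * σ ^ 2 ^ (n - 1) →
        σ ^ 2 ^ (n - m) * x = x * σ ^ 2 ^ (n - m)) ∧
      ∃ M : AddSubgroup W, M ≠ ⊥ ∧ (∀ x ∈ P, ∀ w ∈ M, x w ∈ M) ∧
        (∀ w ∈ M, (σ ^ 2 ^ (n - m)) w ∈ M) ∧
        (∀ w ∈ M, (σ ^ 2 ^ (n - m)) w = w → w = 0) ∧
        ∃ x ∈ P, ∃ w ∈ M, (σ ^ 2 ^ (n - 1)) (x w) ≠ x ((σ ^ 2 ^ (n - 1)) w) :=
  thmC2_aux n W ℓ r n σ P le_rfl h hc1 hc5 hirr hnc

end Cfsg.Agent.Lib.Helper63.SH
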