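import Mathlib
import Cfsg.Agent.Lib.Helper63.SHAb
import Cfsg.Agent.Lib.Helper63.SHC2

set_option autoImplicit false

namespace Cfsg.Agent.Lib.Helper63.SH

open Cfsg.Agent.Lib.Helper63.S3A
open Cfsg.Agent.Lib.Helper63.Fpq
open scoped commutatorElement

universe u

section

variable {W : Type u} [AddCommGroup W] [Finite W]
variable {ℓ r p n : ℕ} {σ : LAut W} {P : Subgroup (LAut W)}

/-- the structure of a nonabelian group which is minimal subject to not being centralized -/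
theorem special_of_min (h : SH ℓ r p n σ P)
    (hsub : ∀ Q : Subgroup (LAut W), Q ≤ P → Q ≠ P → (∀ x ∈ Q, σ * x * σ⁻¹ ∈ Q) →
      ∀ x ∈ Q, σ ^ p ^ (n - 1) * x = x * σ ^ p ^ (n - 1))
    (hnc : ¬ ∀ x ∈ P, σ ^ p ^ (n - 1) * x = x * σ ^ p ^ (n - 1))
    (hnab : ¬ ∀ x ∈ P, ∀ y ∈ P, x * y = y * x) :
    (∀ x ∈ P, ∀ y ∈ P, x * y * x⁻¹ * y⁻¹ ∈ SG.ctr P) ∧
    (∀ z ∈ SG.ctr P, σ ^ p ^ (n - 1) * z = z * σ ^ p ^ (n - 1)) ∧
    (∀ x ∈ P, x⁻¹ * (σ ^ p ^ (n - 1) * x * (σ ^ p ^ (n - 1))⁻¹) ∈ SG.ctr P → x ∈ SG.ctr P) ∧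
    (∀ z ∈ SG.ctr P, z ^ r = 1) := by
  have hsg := h
  obtain ⟨ψ, hψ⟩ : ∃ ψ : LAut W, ψ = σ ^ p ^ (n - 1) := ⟨_, rfl⟩
  rw [← hψ] at hnc ⊢
  have hnorm : ∀ e ∈ nzr P, ∀ z ∈ P, e * z * e⁻¹ ∈ P := fun e he z hz => nz_conj he z hz
  have hσN : σ ∈ nzr P := mem_nz P σ hsg.Pσ
  have hψN : ψ ∈ nzr P := by rw [hψ]; exact Subgroup.pow_mem _ hσN _
  obtain ⟨c, hc⟩ : ∃ c : ↥(nzr P) →* MulAut ↥P,
      c = Cfsg.Agent.Lib.Helper97.FrobCount.conjOn (nzr P) P hnorm := ⟨_, rfl⟩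
  have hcv : ∀ (e : nzr P) (g : ↥P), ((c e g : ↥P) : LAut W) = e * g * (e : LAut W)⁻¹ := by
    intro e g; rw [hc]; rfl
  have hβp : (c ⟨ψ, hψN⟩) ^ p = 1 := by
    rw [← map_pow]
    have e : (⟨ψ, hψN⟩ : nzr P) ^ p = 1 := Subtype.ext (by
      show ψ ^ p = 1
      rw [hψ]; exact hsg.psi_pow)
    rw [e, map_one]
  have hαβ : ∀ g, (c ⟨ψ, hψN⟩) ((c ⟨σ, hσN⟩) g) = (c ⟨σ, hσN⟩) ((c ⟨ψ, hψN⟩) g) := by
    intro g
    have e : (⟨ψ, hψN⟩ : nzr P) * ⟨σ, hσN⟩ = ⟨σ, hσN⟩ * ⟨ψ, hψN⟩ := Subtype.ext (by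
      show ψ * σ = σ * ψ
      rw [hψ]; exact hsg.psi_comm.symm)
    show ((c ⟨ψ, hψN⟩) * (c ⟨σ, hσN⟩)) g = ((c ⟨σ, hσN⟩) * (c ⟨ψ, hψN⟩)) g
    rw [← map_mul, ← map_mul, e]
  have hmin : ∀ N : Subgroup ↥P, (∀ g ∈ N, (c ⟨σ, hσN⟩) g ∈ N) → N ≠ ⊤ →
      ∀ g ∈ N, (c ⟨ψ, hψN⟩) g = g := by
    intro N hNinv hNne g hg
    have h1 := hsub (N.map P.subtype) (by
        rintro _ ⟨m, -, rfl⟩
        exact m.2) (by
        intro h'
        apply hNne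
        rw [eq_top_iff]
        intro y _
        have h2 : (y : LAut W) ∈ N.map P.subtype := by rw [h']; exact y.2
        obtain ⟨m, hm, hmy⟩ := h2
        have : m = y := Subtype.ext hmy
        rw [← this]
        exact hm) (by
        rintro _ ⟨m, hm, rfl⟩
        exact ⟨(c ⟨σ, hσN⟩) m, hNinv m hm, hcv _ m⟩) (g : LAut W) ⟨g, hg, rfl⟩
    rw [← hψ] at h1
    apply Subtype.ext
    rw [hcv]
    show ψ * (g : LAut W) * ψ⁻¹ = g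
    rw [h1, mul_inv_cancel_right]
  have hβ1 : ∃ g, (c ⟨ψ, hψN⟩) g ≠ g := by
    push Not at hnc
    obtain ⟨x, hx, hne⟩ := hnc
    refine ⟨⟨x, hx⟩, fun heq => hne ?_⟩
    have h1 := congrArg Subtype.val heq
    rw [hcv] at h1
    have h2 : ψ * x * ψ⁻¹ = x := h1
    calc ψ * x = (ψ * x * ψ⁻¹) * ψ := by group
      _ = x * ψ := by rw [h2]
  have hnab' : ∃ a b : ↥P, a * b ≠ b * a := by
    push Not at hnab
    obtain ⟨x, hx, y, hy, hne⟩ := hnab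
    exact ⟨⟨x, hx⟩, ⟨y, hy⟩, fun heq => hne (congrArg Subtype.val heq)⟩
  obtain ⟨h1, h2, h3, h4⟩ := SG.min_struct2 hsg.hr hsg.hp hsg.hrp hsg.Pr (c ⟨σ, hσN⟩)
    (c ⟨ψ, hψN⟩) hβp hαβ hmin hβ1 hnab'
  refine ⟨?_, ?_, ?_, ?_⟩
  · intro x hx y hy
    have := (SG.center_iff_ctr _).1 (h1 ⟨x, hx⟩ ⟨y, hy⟩)
    rw [commutatorElement_def] at this
    exact this
  · intro z hz
    have h5 := h2 ⟨z, hz.1⟩ ((SG.center_iff_ctr _).2 hz)
    have h6 := congrArg Subtype.val h5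
    rw [hcv] at h6
    have h7 : ψ * z * ψ⁻¹ = z := h6
    calc ψ * z = (ψ * z * ψ⁻¹) * ψ := by group
      _ = z * ψ := by rw [h7]
  · intro x hx hmem
    have h5 := h3 ⟨x, hx⟩ ((SG.center_iff_ctr _).2 (by
      show (x : LAut W)⁻¹ * ((c ⟨ψ, hψN⟩ ⟨x, hx⟩ : ↥P) : LAut W) ∈ SG.ctr P
      rw [hcv]
      exact hmem))
    exact (SG.center_iff_ctr _).1 h5
  · intro z hz
    have h5 := h4 ⟨z, hz.1⟩ ((SG.center_iff_ctr _).2 hz)
    exact congrArg Subtype.val h5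

/-- in a group with central commutators and a centre of exponent `r`, the `r`-th powers are
central -/
theorem pow_central {Q : Subgroup (LAut W)} {r : ℕ}
    (c1 : ∀ x ∈ Q, ∀ y ∈ Q, x * y * x⁻¹ * y⁻¹ ∈ SG.ctr Q)
    (c4 : ∀ z ∈ SG.ctr Q, z ^ r = 1) : ∀ x ∈ Q, x ^ r ∈ SG.ctr Q := by
  intro x hx
  refine ⟨Q.pow_mem hx r, ?_⟩
  intro y hy
  obtain ⟨c, hc⟩ : ∃ c : LAut W, c = x * y * x⁻¹ * y⁻¹ := ⟨_, rfl⟩
  have hcC : c ∈ SG.ctr Q := by rw [hc]; exact c1 x hx y hy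
  have hxy : x * y = c * y * x := by rw [hc]; group
  have hcx : x * c = c * x := hcC.2 x hx
  have key : ∀ j : ℕ, x ^ j * y = c ^ j * y * x ^ j := by
    intro j
    induction j with
    | zero => simp
    | succ j ih =>
      have hcjx : x * c ^ j = c ^ j * x := by
        have : Commute x c := hcx
        exact (this.pow_right j).eq
      calc x ^ (j + 1) * y = x * (x ^ j * y) := by rw [pow_succ']; group
        _ = x * (c ^ j * y * x ^ j) := by rw [ih]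
        _ = (x * c ^ j) * y * x ^ j := by group
        _ = c ^ j * (x * y) * x ^ j := by rw [hcjx]; group
        _ = c ^ j * (c * y * x) * x ^ j := by rw [hxy]
        _ = c ^ (j + 1) * y * x ^ (j + 1) := by rw [pow_succ, pow_succ']; group
  have h1 := key r
  rw [c4 c hcC, one_mul] at h1
  exact h1.symm

/-- an irreducible submodule on which a given normalized subgroup acts nontrivially -/
theorem exists_irr_nontriv (D Q : Subgroup (LAut W)) (t : LAut W)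
    (hDQ : ∀ x ∈ Q, cjS x D = D) (hDt : cjS t D = D)
    (hcop : (Nat.card D).Coprime (Nat.card W)) (hD1 : ∃ d ∈ D, d ≠ 1) :
    ∃ M₁ : AddSubgroup W, M₁ ≠ ⊥ ∧ (∀ x ∈ Q, ∀ w ∈ M₁, x w ∈ M₁) ∧ (∀ w ∈ M₁, t w ∈ M₁) ∧
      (∀ V : AddSubgroup W, V ≤ M₁ → V ≠ ⊥ → (∀ x ∈ Q, ∀ w ∈ V, x w ∈ V) →
        (∀ w ∈ V, t w ∈ V) → M₁ ≤ V) ∧
      ∃ d ∈ D, ∃ w ∈ M₁, d w ≠ w := by
  classical
  let U₁ : AddSubgroup W :=
    { carrier := {w | trY D w = 0}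
      add_mem' := by
        intro a b ha hb
        show trY D (a + b) = 0
        rw [map_add, ha, hb, add_zero]
      zero_mem' := map_zero _
      neg_mem' := by
        intro a ha
        show trY D (-a) = 0
        rw [map_neg, ha, neg_zero] }
  have hU₁ : ∀ g : LAut W, cjS g D = D → ∀ w ∈ U₁, g w ∈ U₁ := by
    intro g hg w hw
    have h1 := trY_cjS D g w
    rw [hg] at h1
    show trY D (g w) = 0
    rw [← h1, hw, map_zero]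
  have hU₁0 : U₁ ≠ ⊥ := by
    obtain ⟨d, hd, hd1⟩ := hD1
    have hex : ∃ w : W, d w ≠ w := by
      by_contra hno
      push Not at hno
      exact hd1 (LinearEquiv.ext hno)
    obtain ⟨w, hw⟩ := hex
    intro hbot
    apply hw
    have hdD : cjS d D = D := cjS_eq_of_nz ((Subgroup.le_normalizer) hd)
    have h1 := trY_cjS D d w
    rw [hdD, trY_fix D w d hd] at h1
    have h2 : d w - w ∈ U₁ := by
      show trY D (d w - w) = 0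
      rw [map_sub, ← h1, sub_self]
    rw [hbot, AddSubgroup.mem_bot] at h2
    exact sub_eq_zero.mp h2
  have hp0 : U₁ ≤ U₁ ∧ U₁ ≠ ⊥ ∧ (∀ x ∈ Q, ∀ w ∈ U₁, x w ∈ U₁) ∧ (∀ w ∈ U₁, t w ∈ U₁) :=
    ⟨le_rfl, hU₁0, fun x hx => hU₁ x (hDQ x hx), hU₁ t hDt⟩
  obtain ⟨M₁, -, hM⟩ := Finite.exists_le_minimal
    (p := fun V : AddSubgroup W => V ≤ U₁ ∧ V ≠ ⊥ ∧ (∀ x ∈ Q, ∀ w ∈ V, x w ∈ V) ∧
      (∀ w ∈ V, t w ∈ V)) hp0
  refine ⟨M₁, hM.1.2.1, hM.1.2.2.1, hM.1.2.2.2, ?_, ?_⟩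
  · intro V hVM hV0 hVP hVτ
    exact hM.2 ⟨hVM.trans hM.1.1, hV0, hVP, hVτ⟩ hVM
  · by_contra hno
    push Not at hno
    apply hM.1.2.1
    rw [eq_bot_iff]
    intro w hw
    rw [AddSubgroup.mem_bot]
    have h1 : w ∈ FixSp D := fun d hd => hno d hd w hw
    have h2 := trY_of_fix D w h1
    have h3 : trY D w = 0 := hM.1.1 hw
    rw [h3] at h2
    exact eq_zero_of_nsmul _ hcop w h2.symm

end

end Cfsg.Agent.Lib.Helper63.SH

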