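import Mathlib
import Cfsg.Agent.Lib.Helper63.SHTop

set_option autoImplicit false

namespace Cfsg.Agent.Lib.Helper63.SH

open Cfsg.Agent.Lib.Helper63.S3A
open Cfsg.Agent.Lib.Helper63.Fpq
open scoped commutatorElement

universe u

/-- the module theorem for the top group: an `s`-group of automorphisms of a module of
characteristic `ℓ` with `ℓ + 1 = 2 ^ m`, normalized by `ξ`, is centralized by the involution of
`ξ` provided the fixed points of the involution are fixed by `ξ²` -/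
theorem top_mod {W : Type u} [AddCommGroup W] [Finite W] {ℓ s m : ℕ} {ξ : LAut W}
    {P : Subgroup (LAut W)} (h : SH ℓ s 2 m ξ P) (hℓm : ℓ + 1 = 2 ^ m)
    (hκ : ∀ w : W, (ξ ^ 2 ^ (m - 1)) w = w → ξ (ξ w) = w) :
    ∀ x ∈ P, ξ ^ 2 ^ (m - 1) * x = x * ξ ^ 2 ^ (m - 1) := by
  classical
  by_contra hnc
  have hp0 : P ≤ P ∧ (∀ x ∈ P, ξ * x * ξ⁻¹ ∈ P) ∧
      ¬ (∀ x ∈ P, ξ ^ 2 ^ (m - 1) * x = x * ξ ^ 2 ^ (m - 1)) := ⟨le_rfl, h.Pσ, hnc⟩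
  obtain ⟨Q, -, hQ⟩ := Finite.exists_le_minimal
    (p := fun Q : Subgroup (LAut W) => Q ≤ P ∧ (∀ x ∈ Q, ξ * x * ξ⁻¹ ∈ Q) ∧
      ¬ (∀ x ∈ Q, ξ ^ 2 ^ (m - 1) * x = x * ξ ^ 2 ^ (m - 1))) hp0
  have hQP : Q ≤ P := hQ.1.1
  have hQξ : ∀ x ∈ Q, ξ * x * ξ⁻¹ ∈ Q := hQ.1.2.1
  have hQnc : ¬ (∀ x ∈ Q, ξ ^ 2 ^ (m - 1) * x = x * ξ ^ 2 ^ (m - 1)) := hQ.1.2.2
  have hQsub : ∀ Q' : Subgroup (LAut W), Q' ≤ Q → Q' ≠ Q → (∀ x ∈ Q', ξ * x * ξ⁻¹ ∈ Q') →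
      ∀ x ∈ Q', ξ ^ 2 ^ (m - 1) * x = x * ξ ^ 2 ^ (m - 1) := by
    intro Q' hle hne hinv
    by_contra hc
    exact hne (le_antisymm hle (hQ.2 ⟨hle.trans hQP, hinv, hc⟩ hle))
  have hcfg : SH ℓ s 2 m ξ Q :=
    { hℓ := h.hℓ, hr := h.hr, hp := h.hp, hrℓ := h.hrℓ, hrp := h.hrp, hℓp := h.hℓp
      hn := h.hn, sp := h.sp, exp := h.exp, fp := h.fp, Pr := h.Pr.to_le hQP, Pσ := hQξ }
  have hnab : ¬ ∀ x ∈ Q, ∀ y ∈ Q, x * y = y * x := fun hab => hQnc (thmA hcfg hab)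
  obtain ⟨c1, c2, c3, c4⟩ := special_of_min hcfg hQsub hQnc hnab
  have c5 := pow_central c1 c4
  obtain ⟨ψ, hψ⟩ : ∃ ψ : LAut W, ψ = ξ ^ 2 ^ (m - 1) := ⟨_, rfl⟩
  have hψ2 : ψ * ψ = 1 := by
    have := hcfg.psi_pow
    rw [← hψ, pow_two] at this
    exact this
  have hψinv : ψ⁻¹ = ψ := inv_eq_of_mul_eq_one_left hψ2
  have hψQ : ∀ x ∈ Q, ψ * x * ψ⁻¹ ∈ Q := by
    rw [hψ]; exact hcfg.Ppow _
  -- products with the conjugate are central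
  have hprod : ∀ x ∈ Q, x * (ψ * x * ψ⁻¹) ∈ SG.ctr Q := by
    intro x hx
    have hu : x * (ψ * x * ψ⁻¹) ∈ Q := Q.mul_mem hx (hψQ x hx)
    have h1 := c3 _ hu
    rw [← hψ] at h1
    apply h1
    have e : (x * (ψ * x * ψ⁻¹))⁻¹ * (ψ * (x * (ψ * x * ψ⁻¹)) * ψ⁻¹) =
        (ψ * x * ψ⁻¹)⁻¹ * x⁻¹ * (ψ * x * ψ⁻¹)⁻¹⁻¹ * x⁻¹⁻¹ := by
      have e2 : ψ * (x * (ψ * x * ψ⁻¹)) * ψ⁻¹ = (ψ * x * ψ⁻¹) * ((ψ * ψ) * x * (ψ * ψ)⁻¹) := by
        group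
      rw [e2, hψ2]
      group
    rw [e]
    exact c1 _ (Q.inv_mem (hψQ x hx)) _ (Q.inv_mem hx)
  -- the commutator subgroup
  obtain ⟨D, hD⟩ : ∃ D : Subgroup (LAut W),
      D = Subgroup.closure {c | ∃ x ∈ Q, ∃ y ∈ Q, c = x * y * x⁻¹ * y⁻¹} := ⟨_, rfl⟩
  have hDC : D ≤ SG.ctr Q := by
    rw [hD, Subgroup.closure_le]
    rintro _ ⟨x, hx, y, hy, rfl⟩
    exact c1 x hx y hy
  have hDQ : D ≤ Q := hDC.trans (SG.ctr_le Q)
  have hDx : ∀ x ∈ Q, cjS x D = D := fun x hx => SG.cjS_cent (fun d hd => (hDC hd).2 x hx)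
  have hDξ : cjS ξ D = D := by
    apply cjS_eq_of_nz
    apply mem_nz D ξ
    rw [hD]
    apply closure_conj_mem
    rintro _ ⟨x, hx, y, hy, rfl⟩
    apply Subgroup.subset_closure
    exact ⟨ξ * x * ξ⁻¹, hQξ x hx, ξ * y * ξ⁻¹, hQξ y hy, by group⟩
  have hD1 : ∃ d ∈ D, d ≠ 1 := by
    push Not at hnab
    obtain ⟨x, hx, y, hy, hne⟩ := hnab
    refine ⟨x * y * x⁻¹ * y⁻¹, ?_, ?_⟩
    · rw [hD]; exact Subgroup.subset_closure ⟨x, hx, y, hy, rfl⟩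
    · intro h1
      apply hne
      calc x * y = (x * y * x⁻¹ * y⁻¹) * (y * x) := by group
        _ = y * x := by rw [h1, one_mul]
  obtain ⟨M₁, hM0, hMQ, hMξ, hMmin, d, hd, w₀, hw₀, hdw⟩ :=
    exists_irr_nontriv D Q ξ hDx hDξ (hcfg.copW D hDQ) hD1
  obtain ⟨x₀, hx₀, y₀, hy₀, hc₀⟩ : ∃ x ∈ Q, ∃ y ∈ Q, x * y * x⁻¹ * y⁻¹ ∉ fixer M₁ := by
    by_contra hno
    push Not at hno
    have hle : D ≤ fixer M₁ := by
      rw [hD, Subgroup.closure_le]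
      rintro _ ⟨x, hx, y, hy, rfl⟩
      exact hno x hx y hy
    exact hdw (hle hd w₀ hw₀)
  have hQM : Q ≤ stabU M₁ := fun x hx => stabU_of_maps M₁ x (hMQ x hx)
  have hξM : ξ ∈ stabU M₁ := stabU_of_maps M₁ ξ hMξ
  have hsub : SH ℓ s 2 m (resHom M₁ ⟨ξ, hξM⟩) (img M₁ Q) :=
    hcfg.res M₁ ξ m h.hn h.sp hξM (fun w _ hw => h.fp w hw) Q le_rfl hQξ
  obtain ⟨tM, htM⟩ : ∃ tM : LAut M₁, tM = resHom M₁ ⟨ξ, hξM⟩ := ⟨_, rfl⟩
  rw [← htM] at hsub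
  have htMv : ∀ w : M₁, ((tM w : M₁) : W) = ξ (w : W) := by intro w; rw [htM]; rfl
  have htMpow : ∀ (j : ℕ) (w : M₁), (((tM ^ j) w : M₁) : W) = (ξ ^ j) (w : W) := by
    intro j
    induction j with
    | zero => intro w; rw [pow_zero, pow_zero]; rfl
    | succ j ih2 =>
      intro w
      rw [pow_succ, pow_succ]
      show (((tM ^ j) (tM w) : M₁) : W) = (ξ ^ j) (ξ (w : W))
      rw [ih2, htMv]
  have himgctr : ∀ c : stabU M₁, (c : LAut W) ∈ SG.ctr Q →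
      resHom M₁ c ∈ SG.ctr (img M₁ Q) := by
    intro c hc
    refine ⟨mem_img.2 ⟨c, hc.1, rfl⟩, ?_⟩
    intro z' hz'
    obtain ⟨z, hz, rfl⟩ := mem_img.1 hz'
    rw [← map_mul, ← map_mul]
    congr 1
    exact Subtype.ext (hc.2 z hz)
  have hc1' : ∀ x' ∈ img M₁ Q, ∀ y' ∈ img M₁ Q,
      x' * y' * x'⁻¹ * y'⁻¹ ∈ SG.ctr (img M₁ Q) := by
    intro x' hx' y' hy'
    obtain ⟨x, hx, rfl⟩ := mem_img.1 hx'
    obtain ⟨y, hy, rfl⟩ := mem_img.1 hy'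
    rw [← map_inv, ← map_inv, ← map_mul, ← map_mul, ← map_mul]
    exact himgctr _ (c1 x hx y hy)
  have hc5' : ∀ x' ∈ img M₁ Q, x' ^ s ∈ SG.ctr (img M₁ Q) := by
    intro x' hx'
    obtain ⟨x, hx, rfl⟩ := mem_img.1 hx'
    rw [← map_pow]
    exact himgctr _ (c5 x hx)
  have hirr' : ∀ V : AddSubgroup ↥M₁, (∀ x' ∈ img M₁ Q, ∀ w ∈ V, x' w ∈ V) →
      (∀ w ∈ V, tM w ∈ V) → V = ⊥ ∨ V = ⊤ := by
    intro V hVP hVτ
    by_cases hV0 : V = ⊥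
    · exact Or.inl hV0
    right
    have h1 : M₁ ≤ V.map M₁.subtype := hMmin (V.map M₁.subtype) (by
        rintro _ ⟨v, -, rfl⟩
        exact v.2) (by
        intro hbot
        apply hV0
        rw [eq_bot_iff]
        intro v hv
        have h2 : (v : W) ∈ V.map M₁.subtype := ⟨v, hv, rfl⟩
        rw [hbot, AddSubgroup.mem_bot] at h2
        rw [AddSubgroup.mem_bot]
        exact Subtype.ext h2) (by
        rintro x hx _ ⟨v, hv, rfl⟩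
        exact ⟨(resHom M₁ ⟨x, hQM hx⟩) v,
          hVP _ (mem_img.2 ⟨⟨x, hQM hx⟩, hx, rfl⟩) v hv, rfl⟩) (by
        rintro _ ⟨v, hv, rfl⟩
        exact ⟨tM v, hVτ v hv, htMv v⟩)
    rw [eq_top_iff]
    intro u _
    have h2 : (u : W) ∈ V.map M₁.subtype := h1 u.2
    obtain ⟨v, hv, hvm⟩ := h2
    have : v = u := Subtype.ext hvm
    rw [← this]; exact hv
  have hψM : ψ ∈ stabU M₁ := by rw [hψ]; exact Subgroup.pow_mem _ hξM _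
  have htMψ : tM ^ 2 ^ (m - 1) = resHom M₁ ⟨ψ, hψM⟩ := by
    rw [htM, ← map_pow]
    congr 1
    exact Subtype.ext hψ.symm
  have hnc' : ¬ ∀ x' ∈ img M₁ Q, tM ^ 2 ^ (m - 1) * x' = x' * tM ^ 2 ^ (m - 1) := by
    intro hall
    apply hc₀
    rw [htMψ] at hall
    -- claim A
    have hA : ∀ (x : LAut W) (hx : x ∈ Q),
        resHom M₁ ⟨ψ * x * ψ⁻¹, hQM (hψQ x hx)⟩ = resHom M₁ ⟨x, hQM hx⟩ := by
      intro x hx
      have h1 := hall _ (mem_img.2 ⟨⟨x, hQM hx⟩, hx, rfl⟩)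
      have e : (⟨ψ * x * ψ⁻¹, hQM (hψQ x hx)⟩ : stabU M₁) =
          ⟨ψ, hψM⟩ * ⟨x, hQM hx⟩ * (⟨ψ, hψM⟩ : stabU M₁)⁻¹ := rfl
      rw [e, map_mul, map_mul, map_inv, h1, mul_inv_cancel_right]
    have hB : ∀ (x : LAut W) (hx : x ∈ Q) (y : LAut W) (hy : y ∈ Q),
        Commute (resHom M₁ ⟨x, hQM hx⟩ * resHom M₁ ⟨x, hQM hx⟩) (resHom M₁ ⟨y, hQM hy⟩) := by
      intro x hx y hy
      have hz := hprod x hx
      have e : resHom M₁ ⟨x, hQM hx⟩ * resHom M₁ ⟨x, hQM hx⟩ =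
          resHom M₁ ⟨x * (ψ * x * ψ⁻¹), hQM hz.1⟩ := by
        have e2 : (⟨x * (ψ * x * ψ⁻¹), hQM hz.1⟩ : stabU M₁) =
            ⟨x, hQM hx⟩ * ⟨ψ * x * ψ⁻¹, hQM (hψQ x hx)⟩ := rfl
        rw [e2, map_mul, hA x hx]
      rw [e]
      show resHom M₁ ⟨x * (ψ * x * ψ⁻¹), hQM hz.1⟩ * resHom M₁ ⟨y, hQM hy⟩ =
        resHom M₁ ⟨y, hQM hy⟩ * resHom M₁ ⟨x * (ψ * x * ψ⁻¹), hQM hz.1⟩
      rw [← map_mul, ← map_mul]
      congr 1
      exact Subtype.ext (hz.2 y hy).symm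
    have hC : ∀ (x : LAut W) (hx : x ∈ Q) (y : LAut W) (hy : y ∈ Q),
        Commute (resHom M₁ ⟨x, hQM hx⟩) (resHom M₁ ⟨y, hQM hy⟩) := by
      intro x hx y hy
      obtain ⟨k, hk⟩ := h.Pr ⟨x, hQP hx⟩
      have hxk : x ^ s ^ k = 1 := congrArg Subtype.val hk
      have hsodd : Odd (s ^ k) := (h.hr.odd_of_ne_two h.hrp).pow
      obtain ⟨t, ht⟩ := hsodd
      have h1 : resHom M₁ ⟨x, hQM hx⟩ ^ (2 * t + 1) = 1 := by
        rw [← map_pow]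
        have e : (⟨x, hQM hx⟩ : stabU M₁) ^ (2 * t + 1) = 1 := Subtype.ext (by
          show x ^ (2 * t + 1) = 1
          rw [← ht]; exact hxk)
        rw [e, map_one]
      have h2 : resHom M₁ ⟨x, hQM hx⟩ =
          (resHom M₁ ⟨x, hQM hx⟩ * resHom M₁ ⟨x, hQM hx⟩) ^ (t + 1) := by
        rw [← pow_two, ← pow_mul]
        have e : 2 * (t + 1) = (2 * t + 1) + 1 := by ring
        rw [e, pow_succ, h1, one_mul]
      rw [h2]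
      exact (hB x hx y hy).pow_left (t + 1)
    intro w hw
    have h1 : resHom M₁ ⟨x₀ * y₀ * x₀⁻¹ * y₀⁻¹,
        hQM (Q.mul_mem (Q.mul_mem (Q.mul_mem hx₀ hy₀) (Q.inv_mem hx₀)) (Q.inv_mem hy₀))⟩ = 1 := by
      have e : (⟨x₀ * y₀ * x₀⁻¹ * y₀⁻¹,
          hQM (Q.mul_mem (Q.mul_mem (Q.mul_mem hx₀ hy₀) (Q.inv_mem hx₀)) (Q.inv_mem hy₀))⟩ :
            stabU M₁) = ⟨x₀, hQM hx₀⟩ * ⟨y₀, hQM hy₀⟩ * (⟨x₀, hQM hx₀⟩ : stabU M₁)⁻¹ *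
              (⟨y₀, hQM hy₀⟩ : stabU M₁)⁻¹ := rfl
      rw [e, map_mul, map_mul, map_mul, map_inv, map_inv, (hC x₀ hx₀ y₀ hy₀).eq]
      group
    have h2 := congrArg (fun e : LAut M₁ => ((e ⟨w, hw⟩ : M₁) : W)) h1
    exact h2
  obtain ⟨m', hm', hres, hi, M, hM0', hMP', hMg, hMfp, x', hx', w', hw', hne⟩ :=
    thmC2 hsub hc1' hc5' hirr' hnc'
  rcases Nat.lt_or_ge m' m with hlt | hge
  swap
  · have hmm : m' = m := le_antisymm hm' hge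
    rw [hmm, ← hℓm] at hres
    exact h.hrℓ (by omega)
  have hm'1 : 1 ≤ m' := by
    rcases Nat.eq_zero_or_pos m' with h0 | h0
    · rw [h0, pow_zero] at hres
      have := h.hr.pos
      omega
    · exact h0
  -- the fixed points of the involution on `M`
  have hfixψ : ∀ w ∈ M, (tM ^ 2 ^ (m - 1)) w = w → w = 0 := by
    intro w hw hfix
    apply hMfp w hw
    apply Subtype.ext
    rw [htMpow]
    have h1 : (ξ ^ 2 ^ (m - 1)) (w : W) = w := by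
      have := congrArg Subtype.val hfix
      rw [htMpow] at this
      exact this
    have h2 := hκ _ h1
    have h3 : ∀ j : ℕ, ((ξ * ξ) ^ j) (w : W) = w := by
      intro j
      induction j with
      | zero => rfl
      | succ j ih2 =>
        rw [pow_succ]
        show ((ξ * ξ) ^ j) (ξ (ξ (w : W))) = w
        rw [h2, ih2]
    have e : ξ ^ 2 ^ (m - m') = (ξ * ξ) ^ 2 ^ (m - m' - 1) := by
      rw [← pow_two, ← pow_mul, ← pow_succ']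
      congr 2
      omega
    rw [e]
    exact h3 _
  have hψgM : tM ^ 2 ^ (m - 1) = (tM ^ 2 ^ (m - m')) ^ 2 ^ (m' - 1) := by
    rw [← pow_mul, ← pow_add]
    congr 2
    omega
  have hMψ : ∀ w ∈ M, (tM ^ 2 ^ (m - 1)) w ∈ M := by
    intro w hw
    rw [hψgM]
    have : ∀ j : ℕ, ∀ v ∈ M, ((tM ^ 2 ^ (m - m')) ^ j) v ∈ M := by
      intro j
      induction j with
      | zero => intro v hv; exact hv
      | succ j ih2 =>
        intro v hv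
        rw [pow_succ]
        exact ih2 _ (hMg v hv)
    exact this _ w hw
  have hψψM : ∀ w : M₁, (tM ^ 2 ^ (m - 1)) ((tM ^ 2 ^ (m - 1)) w) = w := by
    intro w
    have h1 := hsub.psi_pow
    rw [pow_two] at h1
    exact congrArg (fun e : LAut M₁ => e w) h1
  have hneg : ∀ w ∈ M, (tM ^ 2 ^ (m - 1)) w = -w := by
    intro w hw
    have h1 : w + (tM ^ 2 ^ (m - 1)) w = 0 := by
      apply hfixψ _ (M.add_mem hw (hMψ w hw))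
      rw [map_add, hψψM, add_comm]
    exact (neg_eq_of_add_eq_zero_right h1).symm
  apply hne
  rw [hneg _ (hMP' x' hx' w' hw'), hneg w' hw', map_neg]

end Cfsg.Agent.Lib.Helper63.SH
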