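import Mathlib
import Cfsg.Agent.Lib.Helper63.SHTop2
import Cfsg.Agent.Lib.Helper63.SGTop2

set_option autoImplicit false

namespace Cfsg.Agent.Lib.Helper63.SH

open Cfsg.Agent.Lib.Helper63.S3A
open Cfsg.Agent.Lib.Helper63.Fpq
open scoped commutatorElement

universe u

/-- the top theorem: an `s`-group of automorphisms of an `r`-group of class two with
`r + 1 = 2 ^ m`, normalized by `σR`, commutes with the involution of `σR` modulo the centre -/
theorem top_thm {R : Type u} [Group R] [Finite R] {r s n m : ℕ} (hr : r.Prime) (hs : s.Prime)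
    (hrs : r ≠ s) (hr2 : r ≠ 2) (hs2 : s ≠ 2)
    (hcl : ∀ a b : R, ⁅a, b⁆ ∈ Subgroup.center R)
    (hpw : ∀ a : R, a ^ r ∈ Subgroup.center R)
    (σR : MulAut R) (hσR : σR ^ 2 ^ n = 1)
    (𝔖 : Subgroup (MulAut R)) (h𝔖 : IsPGroup s 𝔖) (h𝔖σ : ∀ φ ∈ 𝔖, σR * φ * σR⁻¹ ∈ 𝔖)
    (hm2 : 2 ≤ m) (hmn : m ≤ n) (hrm : r + 1 = 2 ^ m)
    (ht1 : ∀ x : R, x⁻¹ * (σR ^ 2 ^ (n - 1)) x ∈ Subgroup.center R →
      x⁻¹ * (σR ^ 2 ^ (n - m)) x ∈ Subgroup.center R) :
    ∀ φ ∈ 𝔖, ∀ x : R,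
      ((σR ^ 2 ^ (n - 1)) (φ x))⁻¹ * φ ((σR ^ 2 ^ (n - 1)) x) ∈ Subgroup.center R := by
  classical
  have hΩcomm : ∀ x y : R ⧸ Subgroup.center R, x * y = y * x := by
    intro x y
    obtain ⟨a, rfl⟩ := QuotientGroup.mk_surjective x
    obtain ⟨b, rfl⟩ := QuotientGroup.mk_surjective y
    rw [← QuotientGroup.mk_mul, ← QuotientGroup.mk_mul, QuotientGroup.eq]
    have := hcl b⁻¹ a⁻¹
    rw [commutatorElement_def, inv_inv, inv_inv] at this
    have e : (a * b)⁻¹ * (b * a) = b⁻¹ * a⁻¹ * b * a := by group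
    rw [e]
    exact this
  have hab : ∀ x ∈ (⊤ : Subgroup (R ⧸ Subgroup.center R)),
      ∀ y ∈ (⊤ : Subgroup (R ⧸ Subgroup.center R)), x * y = y * x := fun x _ y _ => hΩcomm x y
  let ρ : MulAut R →* LAut (AbMod (⊤ : Subgroup (R ⧸ Subgroup.center R)) hab) := MonoidHom.mk'
    (fun e => AbMod.aut (fun q => SG.qAutHom (Subgroup.center R) e q)
      (fun q => SG.qAutHom (Subgroup.center R) e⁻¹ q)
      (fun _ _ => Subgroup.mem_top _) (fun _ _ => Subgroup.mem_top _)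
      (fun v _ w _ => map_mul _ v w)
      (fun v _ => by rw [map_inv]; exact MulAut.inv_apply_self _ _ v)
      (fun v _ => by rw [map_inv]; exact MulAut.apply_inv_self _ _ v))
    (by
      intro x y
      refine LinearEquiv.ext (fun w => AbMod.ext ?_)
      show SG.qAutHom (Subgroup.center R) (x * y) w.val =
        SG.qAutHom (Subgroup.center R) x (SG.qAutHom (Subgroup.center R) y w.val)
      rw [map_mul]
      rfl)
  have hρval : ∀ (e : MulAut R) (w : AbMod (⊤ : Subgroup (R ⧸ Subgroup.center R)) hab),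
      (ρ e w).val = SG.qAutHom (Subgroup.center R) e w.val := fun e w => rfl
  obtain ⟨ν, hν⟩ : ∃ ν : LAut (AbMod (⊤ : Subgroup (R ⧸ Subgroup.center R)) hab),
      ∀ w, ν w = -w := ⟨LinearEquiv.neg ℤ, fun w => LinearEquiv.neg_apply w⟩
  have hν2 : ν * ν = 1 := by
    refine LinearEquiv.ext (fun w => ?_)
    show ν (ν w) = w
    rw [hν, hν, neg_neg]
  have hνc : ∀ e : LAut (AbMod (⊤ : Subgroup (R ⧸ Subgroup.center R)) hab), ν * e = e * ν := by
    intro e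
    refine LinearEquiv.ext (fun w => ?_)
    show ν (e w) = e (ν w)
    rw [hν, hν, map_neg]
  have hν2pow : ∀ k : ℕ, 1 ≤ k → ν ^ 2 ^ k = 1 := by
    intro k hk
    have e : 2 ^ k = 2 * 2 ^ (k - 1) := by
      rw [← pow_succ']; congr 1; omega
    rw [e, pow_mul, pow_two, hν2, one_pow]
  obtain ⟨g, hg⟩ : ∃ g : MulAut R, g = σR ^ 2 ^ (n - m) := ⟨_, rfl⟩
  obtain ⟨ψ, hψ⟩ : ∃ ψ : MulAut R, ψ = σR ^ 2 ^ (n - 1) := ⟨_, rfl⟩
  rw [← hg, ← hψ] at ht1
  rw [← hψ]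
  obtain ⟨ξ, hξ⟩ : ∃ ξ : LAut (AbMod (⊤ : Subgroup (R ⧸ Subgroup.center R)) hab),
      ξ = ν * ρ g := ⟨_, rfl⟩
  have hξpow : ∀ j : ℕ, ξ ^ j = ν ^ j * ρ (g ^ j) := by
    intro j
    have hc : Commute ν (ρ g) := hνc (ρ g)
    rw [hξ, hc.mul_pow, map_pow]
  have hξm : ξ ^ 2 ^ m = 1 := by
    rw [hξpow, hν2pow m (by omega), one_mul, hg, ← pow_mul, ← pow_add]
    have e : n - m + m = n := by omega
    rw [e, hσR, map_one]
  have hξψ : ξ ^ 2 ^ (m - 1) = ρ ψ := by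
    rw [hξpow, hν2pow (m - 1) (by omega), one_mul, hg, ← pow_mul, ← pow_add]
    have e : n - m + (m - 1) = n - 1 := by omega
    rw [e, hψ]
  have hexp : ∀ w : AbMod (⊤ : Subgroup (R ⧸ Subgroup.center R)) hab, r • w = 0 := by
    intro w
    apply AbMod.ext
    rw [val_nsmul]
    obtain ⟨x, hx⟩ := QuotientGroup.mk_surjective w.val
    rw [← hx, ← QuotientGroup.mk_pow]
    exact (QuotientGroup.eq_one_iff _).mpr (hpw x)
  have hkey : ∀ w : AbMod (⊤ : Subgroup (R ⧸ Subgroup.center R)) hab, ρ ψ w = w → ρ g w = w := by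
    intro w hw
    obtain ⟨x, hx⟩ := QuotientGroup.mk_surjective w.val
    have h1 := congrArg AbMod.val hw
    rw [hρval, ← hx, SG.qAutHom_mk] at h1
    have h2 : x⁻¹ * ψ x ∈ Subgroup.center R := QuotientGroup.eq.mp h1.symm
    have h3 := ht1 x h2
    apply AbMod.ext
    rw [hρval, ← hx, SG.qAutHom_mk]
    exact (QuotientGroup.eq.mpr h3).symm
  have hfixpow : ∀ (e : LAut (AbMod (⊤ : Subgroup (R ⧸ Subgroup.center R)) hab))
      (w : AbMod (⊤ : Subgroup (R ⧸ Subgroup.center R)) hab), e w = w → ∀ j : ℕ, (e ^ j) w = w := by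
    intro e w hw j
    induction j with
    | zero => rfl
    | succ j ih =>
      rw [pow_succ]
      show (e ^ j) (e w) = w
      rw [hw, ih]
  have hκ : ∀ w : AbMod (⊤ : Subgroup (R ⧸ Subgroup.center R)) hab,
      (ξ ^ 2 ^ (m - 1)) w = w → ξ (ξ w) = w := by
    intro w hw
    rw [hξψ] at hw
    have hgw := hkey w hw
    rw [hξ]
    show ν (ρ g (ν (ρ g w))) = w
    rw [hgw, hν w, map_neg, hgw, hν, neg_neg]
  have hcop2 : (2 : ℕ).Coprime (Nat.card (AbMod (⊤ : Subgroup (R ⧸ Subgroup.center R)) hab)) := by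
    obtain ⟨k, hk⟩ := card_W hr hexp
    rw [hk]
    exact Nat.Coprime.pow_right _ ((Nat.coprime_primes Nat.prime_two hr).2 (Ne.symm hr2))
  have hcfg : SH r s 2 m ξ (𝔖.map ρ) :=
    { hℓ := hr, hr := hs, hp := Nat.prime_two, hrℓ := Ne.symm hrs, hrp := hs2, hℓp := hr2
      hn := by omega
      sp := hξm
      exp := hexp
      fp := by
        intro w hw
        have h1 := hfixpow ξ w hw (2 ^ (m - 1))
        rw [hξψ] at h1
        have hgw := hkey w h1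
        rw [hξ] at hw
        have h2 : ν (ρ g w) = w := hw
        rw [hgw, hν] at h2
        apply eq_zero_of_nsmul 2 hcop2 w
        rw [two_nsmul]
        nth_rewrite 1 [← h2]
        exact neg_add_cancel w
      Pr := h𝔖.map ρ
      Pσ := by
        rintro _ ⟨φ, hφ, rfl⟩
        have hgφ : g * φ * g⁻¹ ∈ 𝔖 := by
          rw [hg]; exact SG.pow_norm σR 𝔖 h𝔖σ _ φ hφ
        refine ⟨g * φ * g⁻¹, hgφ, ?_⟩
        have hc := hνc (ρ g * ρ φ * (ρ g)⁻¹)
        rw [hξ, map_mul, map_mul, map_inv]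
        calc ρ g * ρ φ * (ρ g)⁻¹ = ((ρ g * ρ φ * (ρ g)⁻¹) * ν) * ν⁻¹ := by group
          _ = (ν * (ρ g * ρ φ * (ρ g)⁻¹)) * ν⁻¹ := by rw [hc]
          _ = ν * ρ g * ρ φ * (ν * ρ g)⁻¹ := by group }
  have hmain := top_mod hcfg hrm hκ
  intro φ hφ x
  have h1 := hmain (ρ φ) ⟨φ, hφ, rfl⟩
  rw [hξψ] at h1
  have h2 := congrArg (fun e : LAut (AbMod (⊤ : Subgroup (R ⧸ Subgroup.center R)) hab) =>
    (e (AbMod.mk (QuotientGroup.mk x) (Subgroup.mem_top _))).val) h1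
  have h3 : (QuotientGroup.mk (ψ (φ x)) : R ⧸ Subgroup.center R) = QuotientGroup.mk (φ (ψ x)) :=
    h2
  exact QuotientGroup.eq.mp h3

end Cfsg.Agent.Lib.Helper63.SH
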