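import Mathlib
import Cfsg.Agent.Lib.Helper63.SHTop3
import Cfsg.Agent.Lib.Helper97.SectMod

set_option autoImplicit false

namespace Cfsg.Agent.Lib.Helper63.SH

open Cfsg.Agent.Lib.Helper63.S3A
open Cfsg.Agent.Lib.Helper63.Fpq
open Cfsg.Agent.Lib.Helper97.SectMod
open scoped commutatorElement

universe u

section Res

variable {H : Type*} [Group H]

/-- automorphisms mapping a subgroup onto itself -/
def stabA (X : Subgroup H) : Subgroup (MulAut H) where
  carrier := {e | ∀ x, e x ∈ X ↔ x ∈ X}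
  mul_mem' := by
    intro e f he hf x
    show e (f x) ∈ X ↔ x ∈ X
    rw [he, hf]
  one_mem' := fun x => Iff.rfl
  inv_mem' := by
    intro e he x
    have := he (e⁻¹ x)
    rw [MulAut.apply_inv_self] at this
    exact this.symm

/-- the restriction of an automorphism to a stable subgroup -/
def resAut (X : Subgroup H) (e : stabA X) : MulAut ↥X where
  toFun x := ⟨(e : MulAut H) x, (e.2 x).2 x.2⟩
  invFun x := ⟨(e : MulAut H)⁻¹ x, ((stabA X).inv_mem e.2 x).2 x.2⟩
  left_inv x := Subtype.ext (MulAut.inv_apply_self _ _ _)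
  right_inv x := Subtype.ext (MulAut.apply_inv_self _ _ _)
  map_mul' x y := Subtype.ext (map_mul (e : MulAut H) (x : H) (y : H))

/-- restriction as a homomorphism -/
def resA (X : Subgroup H) : stabA X →* MulAut ↥X where
  toFun := resAut X
  map_one' := by ext x; rfl
  map_mul' e f := by ext x; rfl

theorem resA_apply (X : Subgroup H) (e : stabA X) (x : ↥X) :
    ((resA X e x : ↥X) : H) = (e : MulAut H) x := rfl

theorem stabA_of_maps [Finite H] (X : Subgroup H) (e : MulAut H) (he : ∀ x ∈ X, e x ∈ X) :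
    e ∈ stabA X := by
  intro w
  refine ⟨fun hw => ?_, he w⟩
  have hinj : Function.Injective (fun u : X => (⟨e u, he u u.2⟩ : X)) := by
    intro u u' huu
    have h1 : e (u : H) = e (u' : H) := congrArg Subtype.val huu
    exact Subtype.ext (e.injective h1)
  obtain ⟨u, hu⟩ := Finite.surjective_of_injective hinj ⟨e w, hw⟩
  have h2 : e (u : H) = e w := congrArg Subtype.val hu
  rw [← e.injective h2]
  exact u.2

/-- the centre of a subgroup, as a subgroup of the ambient group -/
def ctrG (X : Subgroup H) : Subgroup H where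
  carrier := {z | z ∈ X ∧ ∀ x ∈ X, x * z = z * x}
  mul_mem' := by
    rintro a b ⟨ha, ha'⟩ ⟨hb, hb'⟩
    refine ⟨X.mul_mem ha hb, fun x hx => ?_⟩
    rw [← mul_assoc, ha' x hx, mul_assoc, hb' x hx, mul_assoc]
  one_mem' := ⟨X.one_mem, fun x _ => by rw [mul_one, one_mul]⟩
  inv_mem' := by
    rintro a ⟨ha, ha'⟩
    refine ⟨X.inv_mem ha, fun x hx => ?_⟩
    have h1 := ha' x hx
    calc x * a⁻¹ = a⁻¹ * (a * x) * a⁻¹ := by group
      _ = a⁻¹ * (x * a) * a⁻¹ := by rw [h1]
      _ = a⁻¹ * x := by group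

theorem center_iff_ctrG {X : Subgroup H} (z : ↥X) :
    z ∈ Subgroup.center ↥X ↔ (z : H) ∈ ctrG X := by
  constructor
  · intro hz
    exact ⟨z.2, fun x hx => congrArg Subtype.val (Subgroup.mem_center_iff.1 hz ⟨x, hx⟩)⟩
  · intro hz
    exact Subgroup.mem_center_iff.2 (fun g => Subtype.ext (hz.2 g g.2))

/-- coprime action: an element acting trivially on a subgroup containing its commutator with
`x` commutes with `x` -/
theorem coprime_cent (v x : H) (hc : v * (v * x * v⁻¹ * x⁻¹) = (v * x * v⁻¹ * x⁻¹) * v)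
    (k i : ℕ) (hv : v ^ k = 1) (hx : (v * x * v⁻¹ * x⁻¹) ^ i = 1) (hki : Nat.Coprime k i) :
    v * x = x * v := by
  obtain ⟨c, hcd⟩ : ∃ c : H, c = v * x * v⁻¹ * x⁻¹ := ⟨_, rfl⟩
  rw [← hcd] at hc hx
  have hvx : v * x = c * x * v := by rw [hcd]; group
  have key : ∀ j : ℕ, v ^ j * x = c ^ j * x * v ^ j := by
    intro j
    induction j with
    | zero => simp
    | succ j ih =>
      have hcj : v * c ^ j = c ^ j * v := by
        have : Commute v c := hc
        exact (this.pow_right j).eq
      calc v ^ (j + 1) * x = v * (v ^ j * x) := by rw [pow_succ']; group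
        _ = v * (c ^ j * x * v ^ j) := by rw [ih]
        _ = (v * c ^ j) * x * v ^ j := by group
        _ = c ^ j * (v * x) * v ^ j := by rw [hcj]; group
        _ = c ^ j * (c * x * v) * v ^ j := by rw [hvx]
        _ = c ^ (j + 1) * x * v ^ (j + 1) := by rw [pow_succ, pow_succ']; group
  have h1 := key k
  rw [hv, one_mul, mul_one] at h1
  have h2 : c ^ k = 1 := by
    have h3 : c ^ k * x = 1 * x := by rw [one_mul]; exact h1.symm
    exact mul_right_cancel h3
  have h4 : orderOf c ∣ Nat.gcd k i :=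
    Nat.dvd_gcd (orderOf_dvd_of_pow_eq_one h2) (orderOf_dvd_of_pow_eq_one hx)
  rw [hki.gcd_eq_one] at h4
  have h5 : c = 1 := orderOf_eq_one_iff.mp (Nat.dvd_one.mp h4)
  rw [hvx, h5, one_mul]

/-- an element of odd order whose square commutes with `x` commutes with `x` -/
theorem odd_root (u x : H) (k : ℕ) (hk : Odd k) (hu : u ^ k = 1)
    (h : u * u * x = x * (u * u)) : u * x = x * u := by
  obtain ⟨t, ht⟩ := hk
  have h2 : u = (u * u) ^ (t + 1) := by
    rw [← pow_two, ← pow_mul]
    have e : 2 * (t + 1) = k + 1 := by omega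
    rw [e, pow_succ, hu, one_mul]
  have hc : Commute (u * u) x := h
  have h3 : Commute ((u * u) ^ (t + 1)) x := hc.pow_left (t + 1)
  rw [← h2] at h3
  exact h3.eq

theorem conj_aut (φ : MulAut H) (a : H) : MulAut.conj (φ a) = φ * MulAut.conj a * φ⁻¹ := by
  refine MulEquiv.ext (fun x => ?_)
  show φ a * x * (φ a)⁻¹ = φ (a * φ⁻¹ x * a⁻¹)
  rw [map_mul, map_mul, map_inv, MulAut.apply_inv_self]

end Res

end Cfsg.Agent.Lib.Helper63.SH
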