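import Mathlib
import Cfsg.Agent.Lib.Helper63.SHGlue

set_option autoImplicit false

namespace Cfsg.Agent.Lib.Helper63.SH

open Cfsg.Agent.Lib.Helper63.S3A
open Cfsg.Agent.Lib.Helper63.Fpq
open Cfsg.Agent.Lib.Helper97.SectMod
open scoped commutatorElement

universe u

theorem frat_aut {H : Type*} [Group H] [Finite H] (ℓ : ℕ) (X : Subgroup H) (e : MulAut H)
    (he : ∀ x ∈ X, e x ∈ X) : ∀ d ∈ frat ℓ X, e d ∈ frat ℓ X := by
  have h1 : frat ℓ X ≤ (frat ℓ X).comap e.toMonoidHom := by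
    apply sup_le
    · rw [Subgroup.commutator_le]
      intro a ha b hb
      show e ⁅a, b⁆ ∈ frat ℓ X
      rw [map_commutatorElement]
      exact comm_le_frat ℓ X (Subgroup.commutator_mem_commutator (he a ha) (he b hb))
    · rw [Subgroup.closure_le]
      rintro _ ⟨x, hx, rfl⟩
      show e (x ^ ℓ) ∈ frat ℓ X
      rw [map_pow]
      exact pow_mem_frat ℓ X _ (he x hx)
  exact fun d hd => h1 hd

/-- the gluing theorem: the commutator of a `σ`-invariant `s`-subgroup with the involution of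
`σ` centralizes a normal `σ`-invariant `r`-subgroup -/
theorem glue {H : Type u} [Group H] [Finite H] [Group.IsSolvable H] {n : ℕ} (hn : 0 < n)
    (σH : MulAut H) (hσH : σH ^ 2 ^ n = 1) (hodd : ¬ 2 ∣ Nat.card H)
    {r s : ℕ} (hr : r.Prime) (hs : s.Prime) (hrs : r ≠ s) (hr2 : r ≠ 2) (hs2 : s ≠ 2)
    (R : Subgroup H) (hRr : IsPGroup r R) (hRn : R.Normal) (hRσ : ∀ x ∈ R, σH x ∈ R)
    (S₀ : Subgroup H) (hS₀ : IsPGroup s S₀) (hS₀σ : ∀ x ∈ S₀, σH x ∈ S₀)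
    (hA : ∀ X : Subgroup H, X ≤ R → (∀ x ∈ X, σH x ∈ X) →
      (∀ x ∈ X, ∀ y ∈ X, x * y = y * x) → ∀ x ∈ X, (σH ^ 2 ^ (n - 1)) x = x)
    (hB : ∀ X : Subgroup H, X ≤ R → (∀ x ∈ X, σH x ∈ X) →
      (∀ x ∈ X, ∀ y ∈ X, ∀ z ∈ X, (x * y * x⁻¹ * y⁻¹) * z = z * (x * y * x⁻¹ * y⁻¹)) →
      (∀ x ∈ X, ∀ z ∈ X, x ^ r * z = z * x ^ r) →
      (∃ x ∈ X, (σH ^ 2 ^ (n - 1)) x ≠ x) →
      ∃ m, 2 ≤ m ∧ m ≤ n ∧ r + 1 = 2 ^ m ∧ ∃ K : Subgroup H, K ≤ X ∧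
        (∀ k ∈ K, ∀ x ∈ X, x * k * x⁻¹ ∈ K) ∧ (∀ k ∈ K, σH k ∈ K) ∧
        (∃ x ∈ X, ∃ y ∈ X, x * y * x⁻¹ * y⁻¹ ∉ K) ∧
        ∀ x ∈ X, (σH ^ 2 ^ (n - 1)) x = x → x⁻¹ * (σH ^ 2 ^ (n - m)) x ∈ K) :
    ∀ y ∈ S₀, ∀ x ∈ R,
      (y⁻¹ * (σH ^ 2 ^ (n - 1)) y) * x = x * (y⁻¹ * (σH ^ 2 ^ (n - 1)) y) := by
  classical
  haveI : Fact r.Prime := ⟨hr⟩
  obtain ⟨ψ, hψd⟩ : ∃ ψ : MulAut H, ψ = σH ^ 2 ^ (n - 1) := ⟨_, rfl⟩
  rw [← hψd] at hA hB ⊢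
  have hψ2 : ψ * ψ = 1 := by
    rw [hψd, ← pow_add, ← two_mul, ← pow_succ', Nat.sub_add_cancel hn, hσH]
  have hψψ : ∀ x : H, ψ (ψ x) = x := by
    intro x
    have : (ψ * ψ) x = x := by rw [hψ2]; rfl
    exact this
  have hψσ : ∀ x : H, ψ (σH x) = σH (ψ x) := by
    intro x
    have h1 : ψ * σH = σH * ψ := by
      rw [hψd]
      exact ((Commute.refl σH).pow_left _).eq
    have : (ψ * σH) x = (σH * ψ) x := by rw [h1]
    exact this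
  have hoddH : Odd (Nat.card H) := by
    rcases Nat.even_or_odd (Nat.card H) with h | h
    · exact absurd (even_iff_two_dvd.1 h) hodd
    · exact h
  have hsq : ∀ z : H, z * z = 1 → z = 1 := by
    intro z hz
    have h1 : orderOf z ∣ 2 := orderOf_dvd_of_pow_eq_one (by rw [pow_two]; exact hz)
    have h2 : orderOf z ∣ Nat.card H := orderOf_dvd_natCard z
    have h3 : orderOf z ∣ Nat.gcd 2 (Nat.card H) := Nat.dvd_gcd h1 h2
    have h4 : Nat.gcd 2 (Nat.card H) = 1 :=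
      (Nat.Prime.coprime_iff_not_dvd Nat.prime_two).2 hodd
    rw [h4] at h3
    exact orderOf_eq_one_iff.mp (Nat.dvd_one.mp h3)
  -- the subgroup A
  let gen : Set H := {u | ∃ y ∈ S₀, u = y⁻¹ * ψ y}
  let A : Subgroup H := Subgroup.closure gen
  have hψS : ∀ y ∈ S₀, ψ y ∈ S₀ := by
    rw [hψd]
    exact SG.aut_pow_inv σH S₀ hS₀σ _
  have hAS : A ≤ S₀ := by
    rw [Subgroup.closure_le]
    rintro _ ⟨y, hy, rfl⟩
    exact S₀.mul_mem (S₀.inv_mem hy) (hψS y hy)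
  have hAσ : ∀ a ∈ A, σH a ∈ A := by
    have h1 : A ≤ A.comap σH.toMonoidHom := by
      rw [Subgroup.closure_le]
      rintro _ ⟨y, hy, rfl⟩
      show σH (y⁻¹ * ψ y) ∈ A
      rw [map_mul, map_inv, ← hψσ]
      exact Subgroup.subset_closure ⟨σH y, hS₀σ y hy, rfl⟩
    exact fun a ha => h1 ha
  have hgen_inv : ∀ u ∈ gen, ψ u = u⁻¹ := by
    rintro _ ⟨y, hy, rfl⟩
    rw [map_mul, map_inv, hψψ, mul_inv_rev, inv_inv]
  have hAord : ∀ a ∈ A, ∃ k : ℕ, a ^ s ^ k = 1 := by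
    intro a ha
    obtain ⟨k, hk⟩ := hS₀ ⟨a, hAS ha⟩
    refine ⟨k, ?_⟩
    have := congrArg Subtype.val hk
    rwa [Subgroup.coe_pow] at this
  have hRord : ∀ x ∈ R, ∃ k : ℕ, x ^ r ^ k = 1 := by
    intro x hx
    obtain ⟨k, hk⟩ := hRr ⟨x, hx⟩
    refine ⟨k, ?_⟩
    have := congrArg Subtype.val hk
    rwa [Subgroup.coe_pow] at this
  by_contra hcon
  push Not at hcon
  obtain ⟨y₀, hy₀, x₀, hx₀, hne₀⟩ := hcon
  let Pred : Subgroup H → Prop := fun X => X ≤ R ∧ (∀ x ∈ X, σH x ∈ X) ∧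
    (∀ a ∈ A, ∀ x ∈ X, a * x * a⁻¹ ∈ X) ∧ ¬ (∀ a ∈ A, ∀ x ∈ X, a * x = x * a)
  have hPR : Pred R := by
    refine ⟨le_rfl, hRσ, fun a _ x hx => hRn.conj_mem x hx a, fun hc => ?_⟩
    exact hne₀ (hc _ (Subgroup.subset_closure ⟨y₀, hy₀, rfl⟩) x₀ hx₀)
  obtain ⟨X, -, hXmin⟩ := Finite.exists_le_minimal hPR
  obtain ⟨hXR, hXσ, hXA, hXnc⟩ := hXmin.1
  have hmin : ∀ D : Subgroup H, D ≤ X → D ≠ X → (∀ x ∈ D, σH x ∈ D) →
      (∀ a ∈ A, ∀ x ∈ D, a * x * a⁻¹ ∈ D) → ∀ a ∈ A, ∀ x ∈ D, a * x = x * a := by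
    intro D hDX hDne hDσ hDA
    by_contra hnot
    have hPD : Pred D := ⟨hDX.trans hXR, hDσ, hDA, hnot⟩
    exact hDne (le_antisymm hDX (hXmin.2 hPD hDX))
  have hcc : ∀ a ∈ A, ∀ x ∈ X, a * (a * x * a⁻¹ * x⁻¹) = (a * x * a⁻¹ * x⁻¹) * a →
      a * x = x * a := by
    intro a ha x hx hc
    obtain ⟨k, hk⟩ := hAord a ha
    obtain ⟨i, hi⟩ := hRord (a * x * a⁻¹ * x⁻¹)
      (hXR (X.mul_mem (hXA a ha x hx) (X.inv_mem hx)))
    exact coprime_cent a x hc (s ^ k) (r ^ i) hk hi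
      (Nat.Coprime.pow _ _ ((Nat.coprime_primes hs hr).2 hrs.symm))
  have hσst : σH ∈ stabA X := stabA_of_maps X σH hXσ
  have hσsurj : ∀ x ∈ X, ∃ x' ∈ X, σH x' = x := by
    intro x hx
    refine ⟨σH⁻¹ x, ?_, MulAut.apply_inv_self _ _ _⟩
    have := hσst (σH⁻¹ x)
    rw [MulAut.apply_inv_self] at this
    exact this.1 hx
  have hψX : ∀ x ∈ X, ψ x ∈ X := by
    rw [hψd]
    exact SG.aut_pow_inv σH X hXσ _
  have hXA' : ∀ a ∈ A, ∀ x ∈ X, a⁻¹ * x * a ∈ X := by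
    intro a ha x hx
    have := hXA a⁻¹ (A.inv_mem ha) x hx
    rwa [inv_inv] at this
  -- Step 1
  let C : Subgroup H := Subgroup.closure {c | ∃ a ∈ A, ∃ x ∈ X, c = a * x * a⁻¹ * x⁻¹}
  have hCX : C ≤ X := by
    rw [Subgroup.closure_le]
    rintro _ ⟨a, ha, x, hx, rfl⟩
    exact X.mul_mem (hXA a ha x hx) (X.inv_mem hx)
  have hCσ : ∀ c ∈ C, σH c ∈ C := by
    have h1 : C ≤ C.comap σH.toMonoidHom := by
      rw [Subgroup.closure_le]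
      rintro _ ⟨a, ha, x, hx, rfl⟩
      show σH (a * x * a⁻¹ * x⁻¹) ∈ C
      rw [map_mul, map_mul, map_mul, map_inv, map_inv]
      exact Subgroup.subset_closure ⟨σH a, hAσ a ha, σH x, hXσ x hx, rfl⟩
    exact fun c hc => h1 hc
  have hCA : ∀ b ∈ A, ∀ c ∈ C, b * c * b⁻¹ ∈ C := by
    intro b hb
    apply closure_conj_mem
    rintro _ ⟨a, ha, x, hx, rfl⟩
    refine Subgroup.subset_closure ⟨b * a * b⁻¹, A.mul_mem (A.mul_mem hb ha) (A.inv_mem hb),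
      b * x * b⁻¹, hXA b hb x hx, ?_⟩
    group
  have hCeq : C = X := by
    by_contra hne
    have h1 := hmin C hCX hne hCσ hCA
    apply hXnc
    intro a ha x hx
    exact hcc a ha x hx (h1 a ha _ (Subgroup.subset_closure ⟨a, ha, x, hx, rfl⟩))
  -- Step 2
  have hP1 : ∀ D : Subgroup H, D ≤ X → D ≠ X → (∀ x ∈ D, σH x ∈ D) →
      (∀ a ∈ A, ∀ x ∈ D, a * x * a⁻¹ ∈ D) → (∀ x ∈ X, ∀ d ∈ D, x * d * x⁻¹ ∈ D) →
      ∀ d ∈ D, ∀ x ∈ X, x * d = d * x := by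
    intro D hDX hDne hDσ hDA hDn
    have hcent := hmin D hDX hDne hDσ hDA
    have hCc : C ≤ Subgroup.centralizer (D : Set H) := by
      rw [Subgroup.closure_le]
      rintro _ ⟨a, ha, x, hx, rfl⟩
      rw [SetLike.mem_coe, Subgroup.mem_centralizer_iff]
      intro d hd
      have h1 : x⁻¹ * d * x ∈ D := by
        have := hDn x⁻¹ (X.inv_mem hx) d hd
        rwa [inv_inv] at this
      have h2 := hcent a ha _ h1
      have h3 := hcent a ha d hd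
      have h2' : a⁻¹ * (x⁻¹ * d * x) = (x⁻¹ * d * x) * a⁻¹ := by
        calc a⁻¹ * (x⁻¹ * d * x) = a⁻¹ * ((x⁻¹ * d * x) * a) * a⁻¹ := by group
          _ = a⁻¹ * (a * (x⁻¹ * d * x)) * a⁻¹ := by rw [h2]
          _ = (x⁻¹ * d * x) * a⁻¹ := by group
      calc d * (a * x * a⁻¹ * x⁻¹) = (d * a) * x * a⁻¹ * x⁻¹ := by group
        _ = (a * d) * x * a⁻¹ * x⁻¹ := by rw [h3]
        _ = a * x * ((x⁻¹ * d * x) * a⁻¹) * x⁻¹ := by group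
        _ = a * x * (a⁻¹ * (x⁻¹ * d * x)) * x⁻¹ := by rw [h2']
        _ = (a * x * a⁻¹ * x⁻¹) * d := by group
    intro d hd x hx
    have hxC : x ∈ C := by rw [hCeq]; exact hx
    exact (Subgroup.mem_centralizer_iff.1 (hCc hxC) d hd).symm
  -- Step 3
  have hXbot : X ≠ ⊥ := by
    intro hbot
    apply hXnc
    intro a ha x hx
    rw [hbot, Subgroup.mem_bot] at hx
    rw [hx, mul_one, one_mul]
  have hXr : IsPGroup r X := hRr.to_le hXR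
  obtain ⟨ℓ, hℓ, hℓd, hfr⟩ := exists_frat_ne X inferInstance hXbot
  have hℓr : ℓ = r := by
    obtain ⟨k, hk⟩ := IsPGroup.iff_card.1 hXr
    rw [hk] at hℓd
    exact (Nat.prime_dvd_prime_iff_eq hℓ hr).1 (hℓ.dvd_of_dvd_pow hℓd)
  rw [hℓr] at hfr
  have hD₀A : ∀ a : H, (∀ x ∈ X, a * x * a⁻¹ ∈ X) → ∀ d ∈ frat r X, a * d * a⁻¹ ∈ frat r X := by
    intro a ha
    exact nz_conj (normalizer_le_normalizer_frat r X (mem_nz X a ha))
  have hfrc := hP1 (frat r X) (frat_le r X) hfr (frat_aut r X σH hXσ)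
    (fun a ha => hD₀A a (hXA a ha))
    (fun x hx => hD₀A x (fun y hy => X.mul_mem (X.mul_mem hx hy) (X.inv_mem hx)))
  have hcomm_central : ∀ x ∈ X, ∀ y ∈ X, ∀ z ∈ X,
      (x * y * x⁻¹ * y⁻¹) * z = z * (x * y * x⁻¹ * y⁻¹) := by
    intro x hx y hy z hz
    have h1 : x * y * x⁻¹ * y⁻¹ ∈ frat r X := by
      have := comm_le_frat r X (Subgroup.commutator_mem_commutator hx hy)
      rwa [commutatorElement_def] at this
    exact (hfrc _ h1 z hz).symm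
  have hpow_central : ∀ x ∈ X, ∀ z ∈ X, x ^ r * z = z * x ^ r := by
    intro x hx z hz
    exact (hfrc _ (pow_mem_frat r X x hx) z hz).symm
  -- Step 4
  have hgens : (∀ u ∈ gen, ∀ x ∈ X, u * x = x * u) → False := by
    intro hg
    apply hXnc
    have h1 : A ≤ Subgroup.centralizer (X : Set H) := by
      rw [Subgroup.closure_le]
      intro u hu
      rw [SetLike.mem_coe, Subgroup.mem_centralizer_iff]
      intro x hx
      exact (hg u hu x hx).symm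
    intro a ha x hx
    exact ((Subgroup.mem_centralizer_iff.1 (h1 ha)) x hx).symm
  have hfix : ¬ ∀ x ∈ X, ψ x = x := by
    intro hfix
    apply hgens
    intro u hu x hx
    have h1 : ψ (u * x * u⁻¹) = u * x * u⁻¹ := hfix _ (hXA u (Subgroup.subset_closure hu) x hx)
    rw [map_mul, map_mul, map_inv, hgen_inv u hu, hfix x hx, inv_inv] at h1
    have h2 : u * u * x = x * (u * u) := by
      calc u * u * x = u * (u * x * u⁻¹) * u := by group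
        _ = u * (u⁻¹ * x * u) * u := by rw [← h1]
        _ = x * (u * u) := by group
    exact odd_root u x (Nat.card H) hoddH pow_card_eq_one' h2
  have hnab : ¬ ∀ x ∈ X, ∀ y ∈ X, x * y = y * x := fun hab => hfix (hA X hXR hXσ hab)
  let Z₂ : Subgroup H := ctrG X
  have hZ₂X : Z₂ ≤ X := fun z hz => hz.1
  have hZ₂ne : Z₂ ≠ X := by
    intro heq
    apply hnab
    intro x hx y hy
    have hyZ : y ∈ Z₂ := by rw [heq]; exact hy
    exact hyZ.2 x hx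
  have hZ₂σ : ∀ z ∈ Z₂, σH z ∈ Z₂ := by
    intro z hz
    refine ⟨hXσ z hz.1, fun x hx => ?_⟩
    obtain ⟨x', hx', rfl⟩ := hσsurj x hx
    rw [← map_mul, ← map_mul, hz.2 x' hx']
  have hZ₂A : ∀ a ∈ A, ∀ z ∈ Z₂, a * z * a⁻¹ ∈ Z₂ := by
    intro a ha z hz
    refine ⟨hXA a ha z hz.1, fun x hx => ?_⟩
    have h1 := hz.2 _ (hXA' a ha x hx)
    calc x * (a * z * a⁻¹) = a * ((a⁻¹ * x * a) * z) * a⁻¹ := by group
      _ = a * (z * (a⁻¹ * x * a)) * a⁻¹ := by rw [h1]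
      _ = (a * z * a⁻¹) * x := by group
  have hAZ₂ := hmin Z₂ hZ₂X hZ₂ne hZ₂σ hZ₂A
  have hψZ₂ : ∀ z ∈ Z₂, ψ z = z :=
    hA Z₂ (hZ₂X.trans hXR) hZ₂σ (fun x hx y hy => hy.2 x hx.1)
  -- Step 5
  obtain ⟨m, hm2, hmn, hrm, K, hKX, hKn, hKσ, ⟨x₁, hx₁, y₁, hy₁, hxyK⟩, hKg⟩ :=
    hB X hXR hXσ hcomm_central hpow_central (by push Not at hfix; exact hfix)
  let M : Subgroup H :=
    { carrier := {x | x ∈ X ∧ ∀ y ∈ X, x * y * x⁻¹ * y⁻¹ ∈ K}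
      mul_mem' := by
        rintro x x' ⟨hx, hx2⟩ ⟨hx', hx2'⟩
        refine ⟨X.mul_mem hx hx', fun y hy => ?_⟩
        have h1 := hKn _ (hx2' y hy) x hx
        have h2 := K.mul_mem h1 (hx2 y hy)
        have e : x * x' * y * (x * x')⁻¹ * y⁻¹ =
            x * (x' * y * x'⁻¹ * y⁻¹) * x⁻¹ * (x * y * x⁻¹ * y⁻¹) := by group
        rw [e]
        exact h2
      one_mem' := by
        refine ⟨X.one_mem, fun y hy => ?_⟩
        have e : (1 : H) * y * 1⁻¹ * y⁻¹ = 1 := by group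
        rw [e]
        exact K.one_mem
      inv_mem' := by
        rintro x ⟨hx, hx2⟩
        refine ⟨X.inv_mem hx, fun y hy => ?_⟩
        have h1 := hKn _ (K.inv_mem (hx2 y hy)) x⁻¹ (X.inv_mem hx)
        have e : x⁻¹ * y * x⁻¹⁻¹ * y⁻¹ = x⁻¹ * (x * y * x⁻¹ * y⁻¹)⁻¹ * x⁻¹⁻¹ := by group
        rw [e]
        exact h1 }
  have hMX : M ≤ X := fun x hx => hx.1
  have hMne : M ≠ X := by
    intro heq
    have hx₁M : x₁ ∈ M := by rw [heq]; exact hx₁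
    exact hxyK (hx₁M.2 y₁ hy₁)
  have hMσ : ∀ x ∈ M, σH x ∈ M := by
    intro x hx
    refine ⟨hXσ x hx.1, fun y hy => ?_⟩
    obtain ⟨y', hy', rfl⟩ := hσsurj y hy
    have h1 := hKσ _ (hx.2 y' hy')
    rwa [map_mul, map_mul, map_mul, map_inv, map_inv] at h1
  have hKZ₀ : ∀ x ∈ X, ∀ y ∈ X, x * y * x⁻¹ * y⁻¹ ∈ Z₂ := by
    intro x hx y hy
    exact ⟨X.mul_mem (X.mul_mem (X.mul_mem hx hy) (X.inv_mem hx)) (X.inv_mem hy),
      fun z hz => (hcomm_central x hx y hy z hz).symm⟩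
  have hMA : ∀ a ∈ A, ∀ x ∈ M, a * x * a⁻¹ ∈ M := by
    intro a ha x hx
    refine ⟨hXA a ha x hx.1, fun y hy => ?_⟩
    have hy' := hXA' a ha y hy
    have hk := hx.2 _ hy'
    have hkZ := hKZ₀ x hx.1 _ hy'
    have h1 := hAZ₂ a ha _ hkZ
    have e : a * x * a⁻¹ * y * (a * x * a⁻¹)⁻¹ * y⁻¹ =
        a * (x * (a⁻¹ * y * a) * x⁻¹ * (a⁻¹ * y * a)⁻¹) * a⁻¹ := by group
    rw [e, h1, mul_inv_cancel_right]
    exact hk
  have hMn : ∀ z ∈ X, ∀ x ∈ M, z * x * z⁻¹ ∈ M := by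
    intro z hz x hx
    refine ⟨X.mul_mem (X.mul_mem hz hx.1) (X.inv_mem hz), fun y hy => ?_⟩
    have hy' : z⁻¹ * y * z ∈ X := X.mul_mem (X.mul_mem (X.inv_mem hz) hy) hz
    have hk := hKn _ (hx.2 _ hy') z hz
    have e : z * x * z⁻¹ * y * (z * x * z⁻¹)⁻¹ * y⁻¹ =
        z * (x * (z⁻¹ * y * z) * x⁻¹ * (z⁻¹ * y * z)⁻¹) * z⁻¹ := by group
    rw [e]
    exact hk
  have hMcent := hP1 M hMX hMne hMσ hMA hMn
  have hKZ : ∀ k ∈ K, k ∈ Z₂ := by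
    intro k hk
    have hkM : k ∈ M := by
      refine ⟨hKX hk, fun y hy => ?_⟩
      have h1 := hKn _ (K.inv_mem hk) y hy
      have e : k * y * k⁻¹ * y⁻¹ = k * (y * k⁻¹ * y⁻¹) := by group
      rw [e]
      exact K.mul_mem hk h1
    exact ⟨hKX hk, fun x hx => hMcent k hkM x hx⟩
  -- Step 6
  let σX : MulAut ↥X := resA X ⟨σH, hσst⟩
  have hσXpow : ∀ (j : ℕ) (x : ↥X), (((σX ^ j) x : ↥X) : H) = (σH ^ j) (x : H) := by
    intro j x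
    show ((((resA X ⟨σH, hσst⟩) ^ j) x : ↥X) : H) = _
    rw [← map_pow, resA_apply]
    rfl
  have hσX : σX ^ 2 ^ n = 1 := by
    refine MulEquiv.ext (fun x => Subtype.ext ?_)
    rw [hσXpow, hσH]
    rfl
  let cA : ↥A →* MulAut ↥X := (resA X).comp
    (MonoidHom.codRestrict ((MulAut.conj : H →* MulAut H).comp A.subtype) (stabA X)
      (fun a => stabA_of_maps X _ (fun x hx => hXA a a.2 x hx)))
  have hcA : ∀ (a : ↥A) (x : ↥X), ((cA a x : ↥X) : H) = (a : H) * x * (a : H)⁻¹ :=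
    fun a x => rfl
  let 𝔖 : Subgroup (MulAut ↥X) := cA.range
  have h𝔖 : IsPGroup s 𝔖 :=
    IsPGroup.of_surjective (hS₀.to_le hAS) cA.rangeRestrict cA.rangeRestrict_surjective
  have h𝔖σ : ∀ φ ∈ 𝔖, σX * φ * σX⁻¹ ∈ 𝔖 := by
    rintro _ ⟨a, rfl⟩
    refine ⟨⟨σH a, hAσ a a.2⟩, ?_⟩
    refine MulEquiv.ext (fun x => Subtype.ext ?_)
    rw [hcA]
    show σH (a : H) * (x : H) * (σH (a : H))⁻¹ = σH ((a : H) * (σH⁻¹ (x : H)) * (a : H)⁻¹)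
    rw [map_mul, map_mul, map_inv, MulAut.apply_inv_self]
  have hcl : ∀ a b : ↥X, ⁅a, b⁆ ∈ Subgroup.center ↥X := by
    intro a b
    rw [center_iff_ctrG]
    refine ⟨(⁅a, b⁆).2, fun z hz => ?_⟩
    exact (hcomm_central a a.2 b b.2 z hz).symm
  have hpw : ∀ a : ↥X, a ^ r ∈ Subgroup.center ↥X := by
    intro a
    rw [center_iff_ctrG]
    refine ⟨(a ^ r).2, fun z hz => ?_⟩
    rw [Subgroup.coe_pow]
    exact (hpow_central a a.2 z hz).symm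
  have ht1 : ∀ x : ↥X, x⁻¹ * (σX ^ 2 ^ (n - 1)) x ∈ Subgroup.center ↥X →
      x⁻¹ * (σX ^ 2 ^ (n - m)) x ∈ Subgroup.center ↥X := by
    intro x hx
    rw [center_iff_ctrG] at hx ⊢
    rw [Subgroup.coe_mul, Subgroup.coe_inv, hσXpow] at hx ⊢
    rw [← hψd] at hx
    have hz1 : ψ ((x : H)⁻¹ * ψ x) = (x : H)⁻¹ * ψ x := hψZ₂ _ hx
    rw [map_mul, map_inv, hψψ] at hz1
    have hz2 : ((x : H)⁻¹ * ψ x) * ((x : H)⁻¹ * ψ x) = 1 := by
      have h1 : ((x : H)⁻¹ * ψ x) * ((x : H)⁻¹ * ψ x) =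
          ((ψ x)⁻¹ * x) * ((x : H)⁻¹ * ψ x) := congrArg (· * ((x : H)⁻¹ * ψ x)) hz1.symm
      rw [h1]
      group
    have hz3 : (x : H)⁻¹ * ψ x = 1 := hsq _ hz2
    have hz4 : ψ (x : H) = x := (inv_mul_eq_one.1 hz3).symm
    exact hKZ _ (hKg x x.2 hz4)
  have htop := top_thm (R := ↥X) hr hs hrs hr2 hs2 hcl hpw σX hσX 𝔖 h𝔖 h𝔖σ hm2 hmn hrm ht1
  -- Step 7
  apply hgens
  intro u hu x hx
  have huA : u ∈ A := Subgroup.subset_closure hu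
  have key : ∀ x ∈ X, x⁻¹ * (u * u) * x * (u * u)⁻¹ ∈ Z₂ := by
    intro x hx
    have hx' : ψ x ∈ X := hψX x hx
    have h1 := htop (cA ⟨u, huA⟩) ⟨⟨u, huA⟩, rfl⟩ ⟨ψ x, hx'⟩
    rw [center_iff_ctrG, Subgroup.coe_mul, Subgroup.coe_inv, hσXpow, hcA, hcA, hσXpow,
      ← hψd] at h1
    have h1' : (ψ (u * ψ x * u⁻¹))⁻¹ * (u * ψ (ψ x) * u⁻¹) ∈ Z₂ := h1
    rw [hψψ, map_mul, map_mul, map_inv, hgen_inv u hu, hψψ, inv_inv] at h1'
    have h2 := hZ₂A u huA _ h1'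
    have e : u * ((u⁻¹ * x * u)⁻¹ * (u * x * u⁻¹)) * u⁻¹ = x⁻¹ * (u * u) * x * (u * u)⁻¹ := by
      group
    rwa [e] at h2
  have h4 : (u * u) * x * (u * u)⁻¹ * x⁻¹ ∈ Z₂ := by
    have h := Z₂.inv_mem (key x⁻¹ (X.inv_mem hx))
    have e : (x⁻¹⁻¹ * (u * u) * x⁻¹ * (u * u)⁻¹)⁻¹ = (u * u) * x * (u * u)⁻¹ * x⁻¹ := by
      simp [mul_assoc]
    rwa [e] at h
  have huuA : u * u ∈ A := A.mul_mem huA huA
  have h5 := hAZ₂ (u * u) huuA _ h4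
  have h6 : (u * u) * x = x * (u * u) := hcc (u * u) huuA x hx h5
  exact odd_root u x (Nat.card H) hoddH pow_card_eq_one' h6

end Cfsg.Agent.Lib.Helper63.SH
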