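import Mathlib
import Cfsg.Agent.Lib.Helper63.SHGlue2
import Cfsg.Agent.Lib.Helper63.SGTop3

set_option autoImplicit false
open Cfsg

namespace Cfsg.Agent.Lib.Helper63.SH

open Cfsg.Agent.Lib.Helper63.S3A
open Cfsg.Agent.Lib.Helper63.Fpq
open scoped Pointwise

universe u

/-- an automorphism of `2`-power order of a group of odd order fixes a Sylow subgroup -/
theorem exists_sylow_inv {X : Type*} [Group X] [Finite X] (hodd : ¬ 2 ∣ Nat.card X)
    (σ : MulAut X) (n : ℕ) (hσ : σ ^ 2 ^ n = 1) (q : ℕ) [Fact q.Prime] :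
    ∃ Q : Sylow q X, ∀ x ∈ Q, σ x ∈ Q := by
  classical
  have := Fintype.ofFinite (Sylow q X)
  have : Fact (Nat.Prime 2) := ⟨Nat.prime_two⟩
  have hnd : ¬ 2 ∣ Fintype.card (Sylow q X) := by
    intro h2
    have h1 : Nat.card (Sylow q X) ∣ Nat.card X := by
      obtain ⟨Q⟩ : Nonempty (Sylow q X) := inferInstance
      exact (Sylow.card_dvd_index Q).trans (Subgroup.index_dvd_card _)
    rw [Nat.card_eq_fintype_card] at h1
    exact hodd (h2.trans h1)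
  have hperm : (MulAction.toPerm σ : Equiv.Perm (Sylow q X)) ^ 2 ^ n = 1 := by
    ext Q : 1
    have hk : ∀ k : ℕ, ((MulAction.toPerm σ : Equiv.Perm (Sylow q X)) ^ k) Q = (σ ^ k) • Q := by
      intro k
      induction k with
      | zero => rw [pow_zero, pow_zero, one_smul]; rfl
      | succ k ih =>
        rw [pow_succ', Equiv.Perm.mul_apply, ih, pow_succ', mul_smul]
        rfl
    rw [hk, hσ, one_smul]
    rfl
  obtain ⟨Q, hQ⟩ := Equiv.Perm.exists_fixed_point_of_prime (n := n) hnd hperm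
  refine ⟨Q, fun x hx => ?_⟩
  have h1 : σ • Q = Q := hQ
  have h2 : σ • x ∈ σ • (Q : Subgroup X) := Subgroup.smul_mem_pointwise_smul x σ _ hx
  rw [← Sylow.pointwise_smul_def, h1] at h2
  exact h2

/-- elements of prime power order of a nilpotent normal subgroup lie in the core -/
theorem mem_pCore_of_nilpotent {H : Type*} [Group H] [Finite H] (N : Subgroup H) [hNn : N.Normal]
    (hnil : Group.IsNilpotent N) (d : ℕ) [Fact d.Prime] (v : H) (hv : v ∈ N) (j : ℕ)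
    (hvj : v ^ d ^ j = 1) : v ∈ pCore d H := by
  obtain ⟨P⟩ : Nonempty (Sylow d ↥N) := inferInstance
  have hPn : (P : Subgroup ↥N).Normal := by
    have h := (Group.isNilpotent_of_finite_tfae (G := ↥N)).out 0 3
    exact h.1 hnil d inferInstance P
  haveI := hPn
  haveI hPc : (P : Subgroup ↥N).Characteristic := Sylow.characteristic_of_normal P hPn
  have hmapn : ((P : Subgroup ↥N).map N.subtype).Normal :=
    ConjAct.normal_of_characteristic_of_normal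
  have hmapp : IsPGroup d ((P : Subgroup ↥N).map N.subtype) := P.isPGroup'.map N.subtype
  apply le_pCore' hmapn hmapp
  refine ⟨⟨v, hv⟩, ?_, rfl⟩
  have hz : IsPGroup d (Subgroup.zpowers (⟨v, hv⟩ : ↥N)) :=
    SG.zpowers_pgroup _ d j (Subtype.ext (by rw [Subgroup.coe_pow]; exact hvj))
  obtain ⟨Q, hQ⟩ := hz.exists_le_sylow
  haveI := Sylow.unique_of_normal P hPn
  have hQP : Q = P := Subsingleton.elim Q P
  rw [← hQP]
  exact hQ (Subgroup.mem_zpowers _)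

/-- a normal subgroup which is an `r`-group modulo `F` and centralizes the `r'`-elements of
`F` lies in `F` -/
theorem nil_core {G : Type u} [Group G] [Finite G] (F : Subgroup G) [hFn : F.Normal]
    (hFmax : ∀ C : Subgroup G, C.Normal → Group.IsNilpotent C → C ≤ F)
    {r : ℕ} (hr : r.Prime) (T : Subgroup G) [hTn : T.Normal]
    (hTr : ∀ y ∈ T, ∃ j : ℕ, y ^ r ^ j ∈ F) (c : G) (hc : c ∈ T)
    (hcent : ∀ v ∈ F, ∀ d : ℕ, d.Prime → d ≠ r → ∀ j : ℕ, v ^ d ^ j = 1 → v * c = c * v) :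
    c ∈ F := by
  classical
  obtain ⟨K, hK⟩ : ∃ K : Subgroup G, K = T ⊓ Subgroup.centralizer
      {v | v ∈ F ∧ ∃ d : ℕ, d.Prime ∧ d ≠ r ∧ ∃ j : ℕ, v ^ d ^ j = 1} := ⟨_, rfl⟩
  have hKmem : ∀ z, z ∈ K ↔ z ∈ T ∧
      ∀ v ∈ F, ∀ d : ℕ, d.Prime → d ≠ r → ∀ j : ℕ, v ^ d ^ j = 1 → v * z = z * v := by
    intro z
    rw [hK, Subgroup.mem_inf, Subgroup.mem_centralizer_iff]
    constructor
    · rintro ⟨h1, h2⟩
      exact ⟨h1, fun v hv d hd hdr j hvd => h2 v ⟨hv, d, hd, hdr, j, hvd⟩⟩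
    · rintro ⟨h1, h2⟩
      exact ⟨h1, fun v ⟨hv, d, hd, hdr, j, hvd⟩ => h2 v hv d hd hdr j hvd⟩
  have hKn : K.Normal := ⟨by
    intro z hz g
    rw [hKmem] at hz ⊢
    refine ⟨hTn.conj_mem z hz.1 g, ?_⟩
    intro v hv d hd hdr j hvd
    have e : g⁻¹ * v * g = g⁻¹ * v * g⁻¹⁻¹ := by rw [inv_inv]
    have h0 : g⁻¹ * v * g ∈ F := by rw [e]; exact hFn.conj_mem v hv g⁻¹
    have h0' : (g⁻¹ * v * g) ^ d ^ j = 1 := by
      rw [e, conj_pow, hvd, mul_one, mul_inv_cancel]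
    have h1 := hz.2 (g⁻¹ * v * g) h0 d hd hdr j h0'
    calc v * (g * z * g⁻¹) = g * (g⁻¹ * v * g * z) * g⁻¹ := by group
      _ = g * (z * (g⁻¹ * v * g)) * g⁻¹ := by rw [h1]
      _ = g * z * g⁻¹ * v := by group⟩
  have hcK : c ∈ K := (hKmem c).2 ⟨hc, hcent⟩
  have hKnil : Group.IsNilpotent K := by
    haveI : Fact r.Prime := ⟨hr⟩
    have hcard : ∃ e, Nat.card (↥K ⧸ Subgroup.center ↥K) = r ^ e := by
      refine ⟨_, Nat.eq_prime_pow_of_unique_prime_dvd Nat.card_pos.ne' ?_⟩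
      intro d hd hdvd
      by_contra hdr
      haveI : Fact d.Prime := ⟨hd⟩
      obtain ⟨yb, hyb⟩ := exists_prime_orderOf_dvd_card' d hdvd
      obtain ⟨y, rfl⟩ := QuotientGroup.mk_surjective yb
      obtain ⟨k, hk⟩ : ∃ k : ℕ, k = (Nat.card G).factorization d := ⟨_, rfl⟩
      obtain ⟨m, hm⟩ : ∃ m : ℕ, m = Nat.card G / d ^ k := ⟨_, rfl⟩
      have hnm : d ^ k * m = Nat.card G := by
        rw [hm, hk]; exact Nat.ordProj_mul_ordCompl_eq_self (Nat.card G) d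
      have hdm : Nat.Coprime d m := by
        rw [hm, hk]; exact Nat.coprime_ordCompl hd Nat.card_pos.ne'
      have hy'd : ((y : G) ^ m) ^ d ^ k = 1 := by
        rw [← pow_mul, mul_comm, hnm]; exact pow_card_eq_one'
      have hyK := (hKmem (y : G)).1 y.2
      obtain ⟨i, hi⟩ := hTr (y : G) hyK.1
      have hy'F : (y : G) ^ m ∈ F := by
        refine root_mem F _ (d ^ k) (r ^ i) hy'd
          (Nat.Coprime.pow _ _ ((Nat.coprime_primes hd hr).2 hdr)) ?_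
        rw [← pow_mul, mul_comm, pow_mul]
        exact F.pow_mem hi m
      have hy'c : y ^ m ∈ Subgroup.center ↥K := by
        rw [Subgroup.mem_center_iff]
        intro z
        apply Subtype.ext
        show (z : G) * (y : G) ^ m = (y : G) ^ m * z
        exact (((hKmem (z : G)).1 z.2).2 _ hy'F d hd hdr k hy'd).symm
      have h3 : (QuotientGroup.mk y : ↥K ⧸ Subgroup.center ↥K) ^ m = 1 := by
        rw [← QuotientGroup.mk_pow]; exact (QuotientGroup.eq_one_iff _).2 hy'c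
      have h4 : d ∣ m := by rw [← hyb]; exact orderOf_dvd_of_pow_eq_one h3
      exact (Nat.Prime.coprime_iff_not_dvd hd).1 hdm h4
    obtain ⟨e, he⟩ := hcard
    haveI : Group.IsNilpotent (↥K ⧸ Subgroup.center ↥K) := (IsPGroup.of_card he).isNilpotent
    refine Subgroup.isNilpotent_of_ker_le_center (QuotientGroup.mk' (Subgroup.center ↥K)) ?_
    rw [QuotientGroup.ker_mk']
  exact hFmax K hKn hKnil hcK

/-- the second layer: under the two module-theoretic hypotheses, the involution of `σ`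
acts trivially modulo the Fitting subgroup -/
theorem k2H {H : Type u} [Group H] [Finite H] [Group.IsSolvable H] {n : ℕ} (hn : 0 < n)
    (σH : MulAut H) (hσH : σH ^ 2 ^ n = 1) (hodd : ¬ 2 ∣ Nat.card H)
    (hA : ∀ r : ℕ, r.Prime → ∀ X : Subgroup H, X ≤ pCore r H → (∀ x ∈ X, σH x ∈ X) →
      (∀ x ∈ X, ∀ y ∈ X, x * y = y * x) → ∀ x ∈ X, (σH ^ 2 ^ (n - 1)) x = x)
    (hB : ∀ r : ℕ, r.Prime → ∀ X : Subgroup H, X ≤ pCore r H → (∀ x ∈ X, σH x ∈ X) →
      (∀ x ∈ X, ∀ y ∈ X, ∀ z ∈ X, (x * y * x⁻¹ * y⁻¹) * z = z * (x * y * x⁻¹ * y⁻¹)) →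
      (∀ x ∈ X, ∀ z ∈ X, x ^ r * z = z * x ^ r) →
      (∃ x ∈ X, (σH ^ 2 ^ (n - 1)) x ≠ x) →
      ∃ m, 2 ≤ m ∧ m ≤ n ∧ r + 1 = 2 ^ m ∧ ∃ K : Subgroup H, K ≤ X ∧
        (∀ k ∈ K, ∀ x ∈ X, x * k * x⁻¹ ∈ K) ∧ (∀ k ∈ K, σH k ∈ K) ∧
        (∃ x ∈ X, ∃ y ∈ X, x * y * x⁻¹ * y⁻¹ ∉ K) ∧
        ∀ x ∈ X, (σH ^ 2 ^ (n - 1)) x = x → x⁻¹ * (σH ^ 2 ^ (n - m)) x ∈ K) :
    ∀ h : H, h⁻¹ * (σH ^ 2 ^ (n - 1)) h ∈ fittingSubgroup H := by
  classical
  obtain ⟨ψ, hψd⟩ : ∃ ψ : MulAut H, ψ = σH ^ 2 ^ (n - 1) := ⟨_, rfl⟩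
  obtain ⟨N, hN⟩ : ∃ N : Subgroup H, N = fittingSubgroup H := ⟨_, rfl⟩
  rw [← hN, ← hψd]
  haveI hNn : N.Normal := by rw [hN]; exact Cfsg.Agent.Lib.Helper71.fittingSubgroup_normal
  haveI hNchar : N.Characteristic := by rw [hN]; exact SG.fitting_char H
  have hNnil : Group.IsNilpotent N := by
    rw [hN]; exact Cfsg.Agent.Lib.Helper71.fittingSubgroup_isNilpotent
  have hNmax : ∀ C : Subgroup H, C.Normal → Group.IsNilpotent C → C ≤ N := fun C hC hn => by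
    haveI := hC; rw [hN]; exact Cfsg.Agent.Lib.Helper71.le_fittingSubgroup C hn
  have hψ2 : ψ ^ 2 = 1 := by
    rw [hψd, ← pow_mul, ← pow_succ, Nat.sub_add_cancel hn, hσH]
  have hcopH : Nat.Coprime 2 (Nat.card H) :=
    (Nat.Prime.coprime_iff_not_dvd Nat.prime_two).2 hodd
  have hcopQ : Nat.Coprime 2 (Nat.card (H ⧸ N)) :=
    Nat.Coprime.coprime_dvd_right (Subgroup.card_quotient_dvd_card N) hcopH
  have key := SG.aut_trivial_of_cores (H := H ⧸ N) (SG.qAutHom N ψ) 2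
    (by rw [← map_pow, hψ2, map_one]) hcopQ ?_
  · intro h
    have h1 := key (QuotientGroup.mk h)
    rw [SG.qAutHom_mk] at h1
    exact (QuotientGroup.eq).1 h1.symm
  · intro s hs xb hxb
    haveI : Fact s.Prime := ⟨hs⟩
    haveI hchar : (pCore s (H ⧸ N)).Characteristic :=
      Cfsg.Agent.Lib.Helper63.pCore_characteristic' _ _
    haveI hPn : (pCore s (H ⧸ N)).Normal := Subgroup.normal_of_characteristic _
    have hPs := Cfsg.Agent.Lib.Helper63.pCore_isPGroup' s (H ⧸ N)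
    obtain ⟨T₁, hT₁⟩ : ∃ T₁ : Subgroup H,
        T₁ = (pCore s (H ⧸ N)).comap (QuotientGroup.mk' N) := ⟨_, rfl⟩
    haveI hT₁n : T₁.Normal := by rw [hT₁]; exact hPn.comap _
    have hT₁σ : ∀ y ∈ T₁, σH y ∈ T₁ := by
      intro y hy
      rw [hT₁] at hy ⊢
      have h1 : SG.qAutHom N σH (QuotientGroup.mk y) ∈ pCore s (H ⧸ N) :=
        SG.char_inv (pCore s (H ⧸ N)) (SG.qAutHom N σH) _ hy
      exact h1
    have hT₁ψ : ∀ y ∈ T₁, ψ y ∈ T₁ := by
      rw [hψd]; exact SG.aut_pow_inv σH T₁ hT₁σ _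
    have hT₁s : ∀ y ∈ T₁, ∃ j : ℕ, y ^ s ^ j ∈ N := by
      intro y hy
      rw [hT₁] at hy
      obtain ⟨j, hj⟩ := hPs ⟨QuotientGroup.mk' N y, hy⟩
      refine ⟨j, ?_⟩
      have h1 : (QuotientGroup.mk' N y) ^ (s ^ j) = 1 := congrArg Subtype.val hj
      rw [← map_pow] at h1
      exact (QuotientGroup.eq_one_iff _).1 h1
    have hNT₁ : N ≤ T₁ := by
      intro f hf
      rw [hT₁, Subgroup.mem_comap, QuotientGroup.mk'_apply, (QuotientGroup.eq_one_iff f).2 hf]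
      exact Subgroup.one_mem _
    have hNψ : ∀ f ∈ N, ψ f ∈ N := SG.char_inv N ψ
    obtain ⟨u, rfl⟩ := QuotientGroup.mk_surjective xb
    have huT : u ∈ T₁ := by rw [hT₁]; exact hxb
    rw [SG.qAutHom_mk]
    refine ((QuotientGroup.eq).2 ?_).symm
    by_cases hsH : s ∣ Nat.card H
    swap
    · obtain ⟨i, hi⟩ := hT₁s u huT
      have huN : u ∈ N := root_mem N u (Nat.card H) (s ^ i) pow_card_eq_one'
        (Nat.Coprime.pow_right _ ((Nat.Prime.coprime_iff_not_dvd hs).2 hsH).symm) hi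
      exact N.mul_mem (N.inv_mem huN) (hNψ u huN)
    have hs2 : s ≠ 2 := fun h => hodd (h ▸ hsH)
    obtain ⟨Q, hQ⟩ := exists_sylow_inv hodd σH n hσH s
    obtain ⟨S₀, hS₀d⟩ : ∃ S₀ : Subgroup H, S₀ = (Q : Subgroup H) ⊓ T₁ := ⟨_, rfl⟩
    have hS₀s : IsPGroup s S₀ := by rw [hS₀d]; exact Q.isPGroup'.to_le inf_le_left
    have hS₀σ : ∀ x ∈ S₀, σH x ∈ S₀ := by
      intro x hx
      rw [hS₀d] at hx ⊢
      exact ⟨hQ x hx.1, hT₁σ x hx.2⟩
    have hdec : ∃ y ∈ S₀, y⁻¹ * u ∈ N := by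
      have h1 : (QuotientGroup.mk' N u) ∈
          ((Q.mapSurjective (QuotientGroup.mk'_surjective N) : Sylow s (H ⧸ N)) :
            Subgroup (H ⧸ N)) :=
        Cfsg.Agent.Lib.Helper63.pCore_le_sylow' s _ hxb
      rw [Sylow.coe_mapSurjective] at h1
      obtain ⟨y, hy, hyu⟩ := h1
      have h2 : y⁻¹ * u ∈ N := (QuotientGroup.eq).1 hyu
      refine ⟨y, ?_, h2⟩
      rw [hS₀d]
      refine ⟨hy, ?_⟩
      have e : y = u * (y⁻¹ * u)⁻¹ := by group
      rw [e]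
      exact T₁.mul_mem huT (T₁.inv_mem (hNT₁ h2))
    obtain ⟨y, hyS, hyN⟩ := hdec
    have hcN : y⁻¹ * ψ y ∈ N := by
      have hyT : y ∈ T₁ := by rw [hS₀d] at hyS; exact hyS.2
      refine nil_core N hNmax hs T₁ hT₁s _ (T₁.mul_mem (T₁.inv_mem hyT) (hT₁ψ y hyT)) ?_
      intro v hv d hd hds j hvj
      by_cases hdH : d ∣ Nat.card H
      · have hd2 : d ≠ 2 := fun h => hodd (h ▸ hdH)
        haveI : Fact d.Prime := ⟨hd⟩
        have hvd : v ∈ pCore d H := mem_pCore_of_nilpotent N hNnil d v hv j hvj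
        haveI : (pCore d H).Characteristic := pCore_characteristic' _ _
        have hg := glue hn σH hσH hodd hd hs hds hd2 hs2 (pCore d H) (pCore_isPGroup' d H)
          (Subgroup.normal_of_characteristic _)
          (SG.char_inv (pCore d H) σH) S₀ hS₀s hS₀σ (hA d hd) (hB d hd) y hyS v hvd
        rw [← hψd] at hg
        exact hg.symm
      · have hv1 : v ∈ (⊥ : Subgroup H) := root_mem ⊥ v (d ^ j) (Nat.card H) hvj
          (Nat.Coprime.pow_left _ ((Nat.Prime.coprime_iff_not_dvd hd).2 hdH))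
          (by rw [pow_card_eq_one']; exact Subgroup.one_mem _)
        rw [Subgroup.mem_bot] at hv1
        rw [hv1, one_mul, mul_one]
    have e : u⁻¹ * ψ u = (y⁻¹ * u)⁻¹ * (y⁻¹ * ψ y) * ψ (y⁻¹ * u) := by
      rw [map_mul, map_inv]; group
    rw [e]
    exact N.mul_mem (N.mul_mem (N.inv_mem hyN) hcN) (hNψ _ hyN)

end Cfsg.Agent.Lib.Helper63.SH
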