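import Mathlib
import Cfsg.Agent.Lib.Helper63.SHK2

set_option autoImplicit false
open Cfsg

namespace Cfsg.Agent.Lib.Helper63.SH

open Cfsg.Agent.Lib.Helper63.S3A
open Cfsg.Agent.Lib.Helper63.Fpq

universe u

/-- the module theorem for class two: an irreducible constituent carrying the non-commuting
part, on which the arithmetic conclusion holds -/
theorem modB {W : Type u} [AddCommGroup W] [Finite W] {ℓ r n : ℕ} {σ : LAut W}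
    {P : Subgroup (LAut W)} (h : SH ℓ r 2 n σ P)
    (hc1 : ∀ x ∈ P, ∀ y ∈ P, ∀ z ∈ P, (x * y * x⁻¹ * y⁻¹) * z = z * (x * y * x⁻¹ * y⁻¹))
    (hc5 : ∀ x ∈ P, ∀ z ∈ P, x ^ r * z = z * x ^ r)
    (hnc : ¬ ∀ x ∈ P, σ ^ 2 ^ (n - 1) * x = x * σ ^ 2 ^ (n - 1)) :
    ∃ m, 2 ≤ m ∧ m ≤ n ∧ r + 1 = 2 ^ m ∧ ∃ M₁ : AddSubgroup W,
      (∀ x ∈ P, ∀ w ∈ M₁, x w ∈ M₁) ∧ (∀ w ∈ M₁, σ w ∈ M₁) ∧
      (∃ x ∈ P, ∃ y ∈ P, ∃ w ∈ M₁, (x * y * x⁻¹ * y⁻¹) w ≠ w) ∧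
      (∀ x ∈ P, (∀ w ∈ M₁, (σ ^ 2 ^ (n - 1)) (x w) = x ((σ ^ 2 ^ (n - 1)) w)) →
         ∀ w ∈ M₁, (σ ^ 2 ^ (n - m)) (x w) = x ((σ ^ 2 ^ (n - m)) w)) := by
  classical
  obtain ⟨ψ, hψ⟩ : ∃ ψ : LAut W, ψ = σ ^ 2 ^ (n - 1) := ⟨_, rfl⟩
  rw [← hψ] at hnc ⊢
  have hσψ : σ * ψ = ψ * σ := by rw [hψ]; exact h.psi_comm
  have hψP : ∀ x ∈ P, ψ * x * ψ⁻¹ ∈ P := by rw [hψ]; exact h.Ppow _
  let D : Subgroup (LAut W) := Subgroup.closure {d | ∃ x ∈ P, d = x⁻¹ * (ψ * x * ψ⁻¹)}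
  have hDP : D ≤ P := by
    rw [Subgroup.closure_le]
    rintro _ ⟨x, hx, rfl⟩
    exact P.mul_mem (P.inv_mem hx) (hψP x hx)
  have hDn : ∀ y ∈ P, ∀ d ∈ D, y * d * y⁻¹ ∈ D := by
    intro y hy d hd
    refine closure_conj_mem _ y ?_ d hd
    rintro _ ⟨x, hx, rfl⟩
    have e : y * (x⁻¹ * (ψ * x * ψ⁻¹)) * y⁻¹ =
        ((x * y⁻¹)⁻¹ * (ψ * (x * y⁻¹) * ψ⁻¹)) * (y⁻¹⁻¹ * (ψ * y⁻¹ * ψ⁻¹))⁻¹ := by group
    rw [e]
    exact Subgroup.mul_mem _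
      (Subgroup.subset_closure ⟨x * y⁻¹, P.mul_mem hx (P.inv_mem hy), rfl⟩)
      (Subgroup.inv_mem _ (Subgroup.subset_closure ⟨y⁻¹, P.inv_mem hy, rfl⟩))
  have hDσ : ∀ d ∈ D, σ * d * σ⁻¹ ∈ D := by
    intro d hd
    refine closure_conj_mem _ σ ?_ d hd
    rintro _ ⟨x, hx, rfl⟩
    refine Subgroup.subset_closure ⟨σ * x * σ⁻¹, h.Pσ x hx, ?_⟩
    have e2 : σ⁻¹ * ψ⁻¹ = ψ⁻¹ * σ⁻¹ := by rw [← mul_inv_rev, ← mul_inv_rev, hσψ]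
    calc σ * (x⁻¹ * (ψ * x * ψ⁻¹)) * σ⁻¹
        = σ * x⁻¹ * σ⁻¹ * (σ * ψ) * x * (ψ⁻¹ * σ⁻¹) := by group
      _ = σ * x⁻¹ * σ⁻¹ * (ψ * σ) * x * (σ⁻¹ * ψ⁻¹) := by rw [hσψ, ← e2]
      _ = (σ * x * σ⁻¹)⁻¹ * (ψ * (σ * x * σ⁻¹) * ψ⁻¹) := by group
  have hDQ : ∀ x ∈ P, cjS x D = D := fun x hx => cjS_eq_of_nz (mem_nz D x (hDn x hx))
  have hDt : cjS σ D = D := cjS_eq_of_nz (mem_nz D σ hDσ)
  have hcop := h.copW D hDP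
  have hD1 : ∃ d ∈ D, d ≠ 1 := by
    by_contra hno
    push Not at hno
    apply hnc
    intro x hx
    have h1 := hno _ (Subgroup.subset_closure ⟨x, hx, rfl⟩)
    have h2 : ψ * x * ψ⁻¹ = x := by
      calc ψ * x * ψ⁻¹ = x * (x⁻¹ * (ψ * x * ψ⁻¹)) := by group
        _ = x := by rw [h1, mul_one]
    exact mul_inv_eq_iff_eq_mul.mp h2
  obtain ⟨M₁, hM0, hMP, hMσ, hMmin, ⟨d, hd, w₀, hw₀, hdw⟩⟩ :=
    exists_irr_nontriv D P σ hDQ hDt hcop hD1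
  have hPM : P ≤ stabU M₁ := fun x hx => stabU_of_maps M₁ x (hMP x hx)
  have hσM : σ ∈ stabU M₁ := stabU_of_maps M₁ σ hMσ
  have hψM : ψ ∈ stabU M₁ := by rw [hψ]; exact Subgroup.pow_mem _ hσM _
  have hgen : ∃ x ∈ P, ∃ w ∈ M₁, (x⁻¹ * (ψ * x * ψ⁻¹)) w ≠ w := by
    by_contra hno
    push Not at hno
    have hle : D ≤ fixer M₁ := by
      rw [Subgroup.closure_le]
      rintro _ ⟨x, hx, rfl⟩
      exact fun w hw => hno x hx w hw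
    exact hdw (hle hd w₀ hw₀)
  have hsub : SH ℓ r 2 n (resHom M₁ ⟨σ, hσM⟩) (img M₁ P) :=
    h.res M₁ σ n h.hn h.sp hσM (fun w _ => h.fp w) P le_rfl h.Pσ
  obtain ⟨tM, htM⟩ : ∃ tM : LAut M₁, tM = resHom M₁ ⟨σ, hσM⟩ := ⟨_, rfl⟩
  rw [← htM] at hsub
  have htMv : ∀ w : M₁, ((tM w : M₁) : W) = σ (w : W) := by intro w; rw [htM]; rfl
  have htMpow : ∀ (j : ℕ) (w : M₁), (((tM ^ j) w : M₁) : W) = (σ ^ j) (w : W) := by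
    intro j
    induction j with
    | zero => intro w; rw [pow_zero, pow_zero]; rfl
    | succ j ih2 =>
      intro w
      rw [pow_succ, pow_succ]
      show (((tM ^ j) (tM w) : M₁) : W) = (σ ^ j) (σ (w : W))
      rw [ih2, htMv]
  have himgctr : ∀ c : stabU M₁, (c : LAut W) ∈ SG.ctr P →
      resHom M₁ c ∈ SG.ctr (img M₁ P) := by
    intro c hc
    refine ⟨mem_img.2 ⟨c, hc.1, rfl⟩, ?_⟩
    intro z' hz'
    obtain ⟨z, hz, rfl⟩ := mem_img.1 hz'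
    rw [← map_mul, ← map_mul]
    congr 1
    exact Subtype.ext (hc.2 z hz)
  have hc1' : ∀ x' ∈ img M₁ P, ∀ y' ∈ img M₁ P,
      x' * y' * x'⁻¹ * y'⁻¹ ∈ SG.ctr (img M₁ P) := by
    intro x' hx' y' hy'
    obtain ⟨x, hx, rfl⟩ := mem_img.1 hx'
    obtain ⟨y, hy, rfl⟩ := mem_img.1 hy'
    rw [← map_inv, ← map_inv, ← map_mul, ← map_mul, ← map_mul]
    refine himgctr _ ⟨?_, fun z hz => ?_⟩
    · exact P.mul_mem (P.mul_mem (P.mul_mem hx hy) (P.inv_mem hx)) (P.inv_mem hy)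
    · exact (hc1 x hx y hy z hz).symm
  have hc5' : ∀ x' ∈ img M₁ P, x' ^ r ∈ SG.ctr (img M₁ P) := by
    intro x' hx'
    obtain ⟨x, hx, rfl⟩ := mem_img.1 hx'
    rw [← map_pow]
    refine himgctr _ ⟨?_, fun z hz => ?_⟩
    · exact P.pow_mem hx r
    · exact (hc5 x hx z hz).symm
  have hirr' : ∀ V : AddSubgroup ↥M₁, (∀ x' ∈ img M₁ P, ∀ w ∈ V, x' w ∈ V) →
      (∀ w ∈ V, tM w ∈ V) → V = ⊥ ∨ V = ⊤ := by
    intro V hVP hVτ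
    by_cases hV0 : V = ⊥
    · exact Or.inl hV0
    right
    have h1 : M₁ ≤ V.map M₁.subtype := hMmin (V.map M₁.subtype) (by
        rintro _ ⟨v, -, rfl⟩
        exact v.2) (by
        intro hbot
        apply hV0
        rw [eq_bot_iff]
        intro v hv
        have h2 : (v : W) ∈ V.map M₁.subtype := ⟨v, hv, rfl⟩
        rw [hbot, AddSubgroup.mem_bot] at h2
        rw [AddSubgroup.mem_bot]
        exact Subtype.ext h2) (by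
        rintro x hx _ ⟨v, hv, rfl⟩
        exact ⟨(resHom M₁ ⟨x, hPM hx⟩) v,
          hVP _ (mem_img.2 ⟨⟨x, hPM hx⟩, hx, rfl⟩) v hv, rfl⟩) (by
        rintro _ ⟨v, hv, rfl⟩
        exact ⟨tM v, hVτ v hv, htMv v⟩)
    rw [eq_top_iff]
    intro m _
    have h2 : (m : W) ∈ V.map M₁.subtype := h1 m.2
    obtain ⟨v, hv, hvm⟩ := h2
    have : v = m := Subtype.ext hvm
    rw [← this]; exact hv
  have hnc' : ¬ ∀ x' ∈ img M₁ P, tM ^ 2 ^ (n - 1) * x' = x' * tM ^ 2 ^ (n - 1) := by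
    intro hall
    obtain ⟨x, hx, w, hw, hne⟩ := hgen
    apply hne
    have h1 := hall (resHom M₁ ⟨x, hPM hx⟩) (mem_img.2 ⟨⟨x, hPM hx⟩, hx, rfl⟩)
    have hw₁ : ψ⁻¹ w ∈ M₁ := ((stabU M₁).inv_mem hψM w).2 hw
    have h2 := congrArg (fun e : LAut M₁ => ((e ⟨ψ⁻¹ w, hw₁⟩ : M₁) : W)) h1
    have h3 : ψ (x (ψ⁻¹ w)) = x (ψ (ψ⁻¹ w)) := by
      have e1 : (((tM ^ 2 ^ (n - 1) * resHom M₁ ⟨x, hPM hx⟩) ⟨ψ⁻¹ w, hw₁⟩ : M₁) : W) =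
          ψ (x (ψ⁻¹ w)) := by
        show (((tM ^ 2 ^ (n - 1)) (resHom M₁ ⟨x, hPM hx⟩ ⟨ψ⁻¹ w, hw₁⟩) : M₁) : W) = _
        rw [htMpow, ← hψ]
        rfl
      have e2 : (((resHom M₁ ⟨x, hPM hx⟩ * tM ^ 2 ^ (n - 1)) ⟨ψ⁻¹ w, hw₁⟩ : M₁) : W) =
          x (ψ (ψ⁻¹ w)) := by
        show (((resHom M₁ ⟨x, hPM hx⟩) ((tM ^ 2 ^ (n - 1)) ⟨ψ⁻¹ w, hw₁⟩) : M₁) : W) = _
        rw [resHom_apply, htMpow, ← hψ]
      rw [← e1, ← e2]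
      exact h2
    rw [app_inv] at h3
    show x⁻¹ (ψ (x (ψ⁻¹ w))) = w
    rw [h3, inv_app]
  obtain ⟨m, hmn, hrm, hres, -⟩ := thmC2 hsub hc1' hc5' hirr' hnc'
  have hm2 : 2 ≤ m := by
    have hr3 : 3 ≤ r := by
      have h1 := h.hr.two_le
      have h2 := h.hrp
      omega
    by_contra hlt
    have h01 : m = 0 ∨ m = 1 := by omega
    rcases h01 with rfl | rfl
    · rw [pow_zero] at hrm; omega
    · rw [pow_one] at hrm; omega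
  refine ⟨m, hm2, hmn, hrm, M₁, hMP, hMσ, ?_, ?_⟩
  · by_contra hno
    push Not at hno
    apply hnc'
    apply thmA hsub
    intro x' hx' y' hy'
    obtain ⟨x, hx, rfl⟩ := mem_img.1 hx'
    obtain ⟨y, hy, rfl⟩ := mem_img.1 hy'
    have h1 : resHom M₁ (x * y * x⁻¹ * y⁻¹) = 1 :=
      res_eq_one _ (fun w hw => hno x hx y hy w hw)
    rw [map_mul, map_mul, map_mul, map_inv, map_inv] at h1
    calc resHom M₁ x * resHom M₁ y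
        = (resHom M₁ x * resHom M₁ y * (resHom M₁ x)⁻¹ * (resHom M₁ y)⁻¹) *
          resHom M₁ y * resHom M₁ x := by group
      _ = resHom M₁ y * resHom M₁ x := by rw [h1, one_mul]
  · intro x hx hxψ w hw
    have h1 : tM ^ 2 ^ (n - 1) * resHom M₁ ⟨x, hPM hx⟩ =
        resHom M₁ ⟨x, hPM hx⟩ * tM ^ 2 ^ (n - 1) := by
      refine LinearEquiv.ext (fun v => Subtype.ext ?_)
      show (((tM ^ 2 ^ (n - 1)) (resHom M₁ ⟨x, hPM hx⟩ v) : M₁) : W) =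
        (((resHom M₁ ⟨x, hPM hx⟩) ((tM ^ 2 ^ (n - 1)) v) : M₁) : W)
      rw [htMpow, resHom_apply, resHom_apply, htMpow, ← hψ]
      exact hxψ v v.2
    have h2 := hres _ (mem_img.2 ⟨⟨x, hPM hx⟩, hx, rfl⟩) h1
    have h3 := congrArg (fun e : LAut M₁ => ((e ⟨w, hw⟩ : M₁) : W)) h2
    have e1 : (((tM ^ 2 ^ (n - m) * resHom M₁ ⟨x, hPM hx⟩) ⟨w, hw⟩ : M₁) : W) =
        (σ ^ 2 ^ (n - m)) (x w) := by
      show (((tM ^ 2 ^ (n - m)) (resHom M₁ ⟨x, hPM hx⟩ ⟨w, hw⟩) : M₁) : W) = _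
      rw [htMpow]
      rfl
    have e2 : (((resHom M₁ ⟨x, hPM hx⟩ * tM ^ 2 ^ (n - m)) ⟨w, hw⟩ : M₁) : W) =
        x ((σ ^ 2 ^ (n - m)) w) := by
      show (((resHom M₁ ⟨x, hPM hx⟩) ((tM ^ 2 ^ (n - m)) ⟨w, hw⟩) : M₁) : W) = _
      rw [resHom_apply, htMpow]
    rw [← e1, ← e2]
    exact h3

end Cfsg.Agent.Lib.Helper63.SH
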