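import Mathlib
import Cfsg.Agent.Lib.Helper63.SHModA

set_option autoImplicit false
open Cfsg

namespace Cfsg.Agent.Lib.Helper63.SH

open Cfsg.Agent.Lib.Helper63.S3A
open Cfsg.Agent.Lib.Helper63.Fpq

universe u

section

variable {G : Type u} [Group G] [Finite G] {n : ℕ}

/-- the module attached to the `ℓ`-torsion of an abelian normal subgroup -/
theorem modPack (hn : 0 < n) (σ : MulAut G) (hσ : σ ^ 2 ^ n = 1)
    (hfpf : ∀ g : G, σ g = g → g = 1)
    (F : Subgroup G) [hFn : F.Normal] (hFab : ∀ x ∈ F, ∀ y ∈ F, x * y = y * x)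
    (hFA : ∀ e : MulAut G, ∀ g ∈ F, e g ∈ F)
    {r ℓ : ℕ} (hr : r.Prime) (hℓ : ℓ.Prime) (hrℓ : r ≠ ℓ) (hr2 : r ≠ 2) (hℓ2 : ℓ ≠ 2)
    (T : Subgroup G) (hTσ : ∀ x ∈ T, σ x ∈ T) (hTr : ∀ y ∈ T, ∃ j : ℕ, y ^ r ^ j ∈ F) :
    ∃ (W : Type u) (_ : AddCommGroup W) (_ : Finite W) (ρ : G →* LAut W) (σW : LAut W),
      SH ℓ r 2 n σW (T.map ρ) ∧ (∀ g, ρ (σ g) = σW * ρ g * σW⁻¹) ∧
      (∀ g, ρ g = 1 ↔ ∀ v ∈ F, v ^ ℓ = 1 → g * v = v * g) := by
  classical
  let V : Subgroup G :=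
    { carrier := {v | v ∈ F ∧ v ^ ℓ = 1}
      mul_mem' := by
        rintro x y ⟨hx, hx'⟩ ⟨hy, hy'⟩
        refine ⟨F.mul_mem hx hy, ?_⟩
        have hc : Commute x y := hFab x hx y hy
        rw [hc.mul_pow, hx', hy', one_mul]
      one_mem' := ⟨F.one_mem, one_pow ℓ⟩
      inv_mem' := by
        rintro x ⟨hx, hx'⟩
        exact ⟨F.inv_mem hx, by rw [inv_pow, hx', inv_one]⟩ }
  haveI hVn : V.Normal := ⟨by
    intro v hv g
    refine ⟨hFn.conj_mem v hv.1 g, ?_⟩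
    rw [conj_pow, hv.2, mul_one, mul_inv_cancel]⟩
  have hVA : ∀ e : MulAut G, ∀ v ∈ V, e v ∈ V :=
    fun e v hv => ⟨hFA e v hv.1, by rw [← map_pow, hv.2, map_one]⟩
  have hVab : ∀ x ∈ V, ∀ y ∈ V, x * y = y * x := fun x hx y hy => hFab x hx.1 y hy.1
  obtain ⟨ρ, hρ⟩ : ∃ ρ : G →* LAut (AbMod V hVab), ρ = AbMod.conjHom := ⟨_, rfl⟩
  have hρval : ∀ (g : G) (w : AbMod V hVab), (ρ g w).val = g * w.val * g⁻¹ := by
    intro g w; rw [hρ]; rfl
  let ρA : MulAut G →* LAut (AbMod V hVab) := MonoidHom.mk'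
    (fun e => AbMod.aut (fun g => e g) (fun g => e⁻¹ g) (hVA e) (hVA e⁻¹)
      (fun v _ w _ => map_mul e v w) (fun v _ => MulAut.inv_apply_self _ e v)
      (fun v _ => MulAut.apply_inv_self _ e v))
    (by
      intro x y
      refine LinearEquiv.ext (fun w => AbMod.ext ?_)
      rfl)
  have hρAval : ∀ (e : MulAut G) (w : AbMod V hVab), (ρA e w).val = e w.val := fun e w => rfl
  have hρAinv : ∀ (e : MulAut G) (w : AbMod V hVab), ((ρA e)⁻¹ w).val = e⁻¹ w.val :=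
    fun e w => rfl
  have hρAρ : ∀ (e : MulAut G) (g : G), ρA e * ρ g * (ρA e)⁻¹ = ρ (e g) := by
    intro e g
    refine LinearEquiv.ext (fun w => AbMod.ext ?_)
    have h1 : ((ρA e * ρ g * (ρA e)⁻¹) w).val = e (g * (e⁻¹ w.val) * g⁻¹) := by
      show (ρA e (ρ g ((ρA e)⁻¹ w))).val = _
      rw [hρAval, hρval, hρAinv]
    rw [h1, hρval, map_mul, map_mul, map_inv, MulAut.apply_inv_self]
  have hker : ∀ g, ρ g = 1 ↔ ∀ v ∈ V, g * v = v * g := by
    intro g
    constructor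
    · intro hg v hv
      have h0 := congrArg (fun e : LAut (AbMod V hVab) => (e (AbMod.mk v hv)).val) hg
      have h1 : g * v * g⁻¹ = v := by
        have h2 := hρval g (AbMod.mk v hv)
        rw [AbMod.val_mk] at h2
        rw [← h2]; exact h0
      exact mul_inv_eq_iff_eq_mul.1 h1
    · intro hg
      refine LinearEquiv.ext (fun x => AbMod.ext ?_)
      rw [hρval]
      exact mul_inv_eq_iff_eq_mul.2 (hg _ x.val_mem)
  have hFker : ∀ f ∈ F, ρ f = 1 := fun f hf => (hker f).2 (fun v hv => hFab f hf v hv.1)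
  refine ⟨AbMod V hVab, inferInstance, inferInstance, ρ, ρA σ, ?_, ?_, ?_⟩
  · exact
    { hℓ := hℓ, hr := hr, hp := Nat.prime_two, hrℓ := hrℓ, hrp := hr2, hℓp := hℓ2, hn := hn
      sp := by rw [← map_pow, hσ, map_one]
      exp := by
        intro w
        apply AbMod.ext
        rw [val_nsmul]
        exact w.val_mem.2
      fp := by
        intro w h1
        apply AbMod.ext
        have e1 : σ w.val = w.val := congrArg AbMod.val h1
        exact hfpf _ e1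
      Pr := by
        rintro ⟨_, y, hy, rfl⟩
        obtain ⟨j, hj⟩ := hTr y hy
        refine ⟨j, Subtype.ext ?_⟩
        show ρ y ^ r ^ j = 1
        rw [← map_pow]; exact hFker _ hj
      Pσ := by
        rintro _ ⟨g, hg, rfl⟩
        rw [hρAρ]; exact ⟨σ g, hTσ g hg, rfl⟩ }
  · intro g
    exact (hρAρ σ g).symm
  · intro g
    rw [hker]
    constructor
    · intro h v hv hvl
      exact h v ⟨hv, hvl⟩
    · intro h v hv
      exact h v hv.1 hv.2

end

end Cfsg.Agent.Lib.Helper63.SH
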