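import Mathlib
import Cfsg.Agent.Lib.Helper63.SHMod

set_option autoImplicit false
open Cfsg

namespace Cfsg.Agent.Lib.Helper63.SH

open Cfsg.Agent.Lib.Helper63.S3A
open Cfsg.Agent.Lib.Helper63.Fpq

universe u

section

variable {G : Type u} [Group G] [Finite G] {n : ℕ}

/-- hypothesis A in the Frattini-free case -/
theorem fratFree_A (hn : 0 < n) (σ : MulAut G) (hσ : σ ^ 2 ^ n = 1)
    (hfpf : ∀ g : G, σ g = g → g = 1)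
    (F : Subgroup G) [hFn : F.Normal] [hFc : F.Characteristic]
    (hFab : ∀ x ∈ F, ∀ y ∈ F, x * y = y * x)
    (hFmax : ∀ C : Subgroup G, C.Normal → Group.IsNilpotent C → C ≤ F)
    (hFel : ∀ d : ℕ, d.Prime → ∀ v ∈ F, ∀ j : ℕ, v ^ d ^ j = 1 → v ^ d = 1)
    (r : ℕ) (hr : r.Prime) (X : Subgroup (G ⧸ F)) (hXr : X ≤ pCore r (G ⧸ F))
    (hXσ : ∀ x ∈ X, SG.qAutHom F σ x ∈ X) (hXab : ∀ x ∈ X, ∀ y ∈ X, x * y = y * x) :
    ∀ x ∈ X, ((SG.qAutHom F σ) ^ 2 ^ (n - 1)) x = x := by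
  classical
  have hpG : ¬ 2 ∣ Nat.card G := SG.fpf_not_dvd Nat.prime_two σ hσ hfpf
  have hFA : ∀ e : MulAut G, ∀ g ∈ F, e g ∈ F := fun e => SG.char_inv F e
  haveI : Fact r.Prime := ⟨hr⟩
  haveI hchar : (pCore r (G ⧸ F)).Characteristic := pCore_characteristic' _ _
  haveI hPn : (pCore r (G ⧸ F)).Normal := Subgroup.normal_of_characteristic _
  have hPr := pCore_isPGroup' r (G ⧸ F)
  obtain ⟨Tr, hTrd⟩ : ∃ Tr : Subgroup G,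
      Tr = (pCore r (G ⧸ F)).comap (QuotientGroup.mk' F) := ⟨_, rfl⟩
  haveI hTrn : Tr.Normal := by rw [hTrd]; exact hPn.comap _
  have hTrr : ∀ y ∈ Tr, ∃ j : ℕ, y ^ r ^ j ∈ F := by
    intro y hy
    rw [hTrd] at hy
    obtain ⟨j, hj⟩ := hPr ⟨QuotientGroup.mk' F y, hy⟩
    refine ⟨j, ?_⟩
    have h1 : (QuotientGroup.mk' F y) ^ (r ^ j) = 1 := congrArg Subtype.val hj
    rw [← map_pow] at h1
    exact (QuotientGroup.eq_one_iff _).1 h1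
  obtain ⟨T, hT⟩ : ∃ T : Subgroup G, T = X.comap (QuotientGroup.mk' F) := ⟨_, rfl⟩
  have hTTr : T ≤ Tr := by rw [hT, hTrd]; exact Subgroup.comap_mono hXr
  have hTσ : ∀ y ∈ T, σ y ∈ T := by
    intro y hy
    rw [hT] at hy ⊢
    exact hXσ _ hy
  have hTr : ∀ y ∈ T, ∃ j : ℕ, y ^ r ^ j ∈ F := fun y hy => hTrr y (hTTr hy)
  intro xb hxb
  obtain ⟨x, rfl⟩ := QuotientGroup.mk_surjective xb
  have hxT : x ∈ T := by rw [hT]; exact hxb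
  rw [← map_pow, SG.qAutHom_mk]
  refine ((QuotientGroup.eq).2 ?_).symm
  obtain ⟨ψ, hψ⟩ : ∃ ψ : MulAut G, ψ = σ ^ 2 ^ (n - 1) := ⟨_, rfl⟩
  rw [← hψ]
  have hψT : ∀ y ∈ T, ψ y ∈ T := by rw [hψ]; exact SG.aut_pow_inv σ T hTσ _
  by_cases hrG : r ∣ Nat.card G
  swap
  · obtain ⟨i, hi⟩ := hTr x hxT
    have hxF : x ∈ F := root_mem F x (Nat.card G) (r ^ i) pow_card_eq_one'
      (Nat.Coprime.pow_right _ ((Nat.Prime.coprime_iff_not_dvd hr).2 hrG).symm) hi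
    exact F.mul_mem (F.inv_mem hxF) (hFA ψ x hxF)
  have hr2 : r ≠ 2 := fun h => hpG (h ▸ hrG)
  refine nil_core F hFmax hr Tr hTrr _ (hTTr (T.mul_mem (T.inv_mem hxT) (hψT x hxT))) ?_
  intro v hv d hd hdr j hvj
  have hvd : v ^ d = 1 := hFel d hd v hv j hvj
  by_cases hdG : d ∣ Nat.card G
  swap
  · have hv1 : v ∈ (⊥ : Subgroup G) := root_mem ⊥ v d (Nat.card G) hvd
      ((Nat.Prime.coprime_iff_not_dvd hd).2 hdG)
      (by rw [pow_card_eq_one']; exact Subgroup.one_mem _)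
    rw [Subgroup.mem_bot] at hv1
    rw [hv1, one_mul, mul_one]
  have hd2 : d ≠ 2 := fun h => hpG (h ▸ hdG)
  obtain ⟨W, iW, fW, ρ, σW, hsh, heq, hker⟩ :=
    modPack hn σ hσ hfpf F hFab hFA hr hd (Ne.symm hdr) hr2 hd2 T hTσ hTr
  have hFker : ∀ f ∈ F, ρ f = 1 := fun f hf => (hker f).2 (fun v hv _ => hFab f hf v hv)
  have hab : ∀ a ∈ T.map ρ, ∀ b ∈ T.map ρ, a * b = b * a := by
    rintro _ ⟨a, ha, rfl⟩ _ ⟨b, hb, rfl⟩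
    have h1 : a * b * a⁻¹ * b⁻¹ ∈ F := by
      rw [hT] at ha hb
      have h2 := hXab _ ha _ hb
      have h3 : (QuotientGroup.mk' F) (a * b * a⁻¹ * b⁻¹) = 1 := by
        rw [map_mul, map_mul, map_mul, map_inv, map_inv, h2]
        group
      exact (QuotientGroup.eq_one_iff _).1 h3
    have h3 := hFker _ h1
    rw [map_mul, map_mul, map_mul, map_inv, map_inv] at h3
    calc ρ a * ρ b = (ρ a * ρ b * (ρ a)⁻¹ * (ρ b)⁻¹) * ρ b * ρ a := by group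
      _ = ρ b * ρ a := by rw [h3, one_mul]
  have hA := thmA hsh hab (ρ x) ⟨x, hxT, rfl⟩
  have heqpow : ∀ (k : ℕ) (g : G), ρ ((σ ^ k) g) = σW ^ k * ρ g * (σW ^ k)⁻¹ := by
    intro k
    induction k with
    | zero => intro g; rw [pow_zero, pow_zero, inv_one, mul_one, one_mul]; rfl
    | succ k ih =>
      intro g
      rw [pow_succ', MulAut.mul_apply, heq, ih, pow_succ']
      group
  have h5 : ρ (x⁻¹ * ψ x) = 1 := by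
    rw [map_mul, map_inv, hψ, heqpow, hA, mul_inv_cancel_right, inv_mul_cancel]
  exact ((hker _).1 h5 v hv hvd).symm

/-- hypothesis B in the Frattini-free case -/
theorem fratFree_B (hn : 0 < n) (σ : MulAut G) (hσ : σ ^ 2 ^ n = 1)
    (hfpf : ∀ g : G, σ g = g → g = 1)
    (F : Subgroup G) [hFn : F.Normal] [hFc : F.Characteristic]
    (hFab : ∀ x ∈ F, ∀ y ∈ F, x * y = y * x)
    (hFmax : ∀ C : Subgroup G, C.Normal → Group.IsNilpotent C → C ≤ F)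
    (hFel : ∀ d : ℕ, d.Prime → ∀ v ∈ F, ∀ j : ℕ, v ^ d ^ j = 1 → v ^ d = 1)
    (r : ℕ) (hr : r.Prime) (X : Subgroup (G ⧸ F)) (hXr : X ≤ pCore r (G ⧸ F))
    (hXσ : ∀ x ∈ X, SG.qAutHom F σ x ∈ X)
    (hX1 : ∀ x ∈ X, ∀ y ∈ X, ∀ z ∈ X, (x * y * x⁻¹ * y⁻¹) * z = z * (x * y * x⁻¹ * y⁻¹))
    (hX5 : ∀ x ∈ X, ∀ z ∈ X, x ^ r * z = z * x ^ r)
    (hXne : ∃ x ∈ X, ((SG.qAutHom F σ) ^ 2 ^ (n - 1)) x ≠ x) :
    ∃ m, 2 ≤ m ∧ m ≤ n ∧ r + 1 = 2 ^ m ∧ ∃ K : Subgroup (G ⧸ F), K ≤ X ∧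
        (∀ k ∈ K, ∀ x ∈ X, x * k * x⁻¹ ∈ K) ∧ (∀ k ∈ K, SG.qAutHom F σ k ∈ K) ∧
        (∃ x ∈ X, ∃ y ∈ X, x * y * x⁻¹ * y⁻¹ ∉ K) ∧
        ∀ x ∈ X, ((SG.qAutHom F σ) ^ 2 ^ (n - 1)) x = x →
          x⁻¹ * ((SG.qAutHom F σ) ^ 2 ^ (n - m)) x ∈ K := by
  classical
  have hpG : ¬ 2 ∣ Nat.card G := SG.fpf_not_dvd Nat.prime_two σ hσ hfpf
  have hFA : ∀ e : MulAut G, ∀ g ∈ F, e g ∈ F := fun e => SG.char_inv F e
  haveI : Fact r.Prime := ⟨hr⟩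
  haveI hchar : (pCore r (G ⧸ F)).Characteristic := pCore_characteristic' _ _
  haveI hPn : (pCore r (G ⧸ F)).Normal := Subgroup.normal_of_characteristic _
  have hPr := pCore_isPGroup' r (G ⧸ F)
  obtain ⟨Tr, hTrd⟩ : ∃ Tr : Subgroup G,
      Tr = (pCore r (G ⧸ F)).comap (QuotientGroup.mk' F) := ⟨_, rfl⟩
  haveI hTrn : Tr.Normal := by rw [hTrd]; exact hPn.comap _
  have hTrr : ∀ y ∈ Tr, ∃ j : ℕ, y ^ r ^ j ∈ F := by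
    intro y hy
    rw [hTrd] at hy
    obtain ⟨j, hj⟩ := hPr ⟨QuotientGroup.mk' F y, hy⟩
    refine ⟨j, ?_⟩
    have h1 : (QuotientGroup.mk' F y) ^ (r ^ j) = 1 := congrArg Subtype.val hj
    rw [← map_pow] at h1
    exact (QuotientGroup.eq_one_iff _).1 h1
  obtain ⟨T, hT⟩ : ∃ T : Subgroup G, T = X.comap (QuotientGroup.mk' F) := ⟨_, rfl⟩
  have hTTr : T ≤ Tr := by rw [hT, hTrd]; exact Subgroup.comap_mono hXr
  have hTσ : ∀ y ∈ T, σ y ∈ T := by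
    intro y hy
    rw [hT] at hy ⊢
    exact hXσ _ hy
  have hTr : ∀ y ∈ T, ∃ j : ℕ, y ^ r ^ j ∈ F := fun y hy => hTrr y (hTTr hy)
  obtain ⟨ψ, hψ⟩ : ∃ ψ : MulAut G, ψ = σ ^ 2 ^ (n - 1) := ⟨_, rfl⟩
  have hψT : ∀ y ∈ T, ψ y ∈ T := by rw [hψ]; exact SG.aut_pow_inv σ T hTσ _
  obtain ⟨xb₀, hxb₀, hne₀⟩ := hXne
  obtain ⟨t₀, rfl⟩ := QuotientGroup.mk_surjective xb₀
  have ht₀T : t₀ ∈ T := by rw [hT]; exact hxb₀
  rw [← map_pow, SG.qAutHom_mk, ← hψ] at hne₀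
  have hc₀F : t₀⁻¹ * ψ t₀ ∉ F := fun hin => hne₀ ((QuotientGroup.eq).2 hin).symm
  have hrG : r ∣ Nat.card G := by
    by_contra hrG
    obtain ⟨i, hi⟩ := hTr t₀ ht₀T
    have ht₀F : t₀ ∈ F := root_mem F t₀ (Nat.card G) (r ^ i) pow_card_eq_one'
      (Nat.Coprime.pow_right _ ((Nat.Prime.coprime_iff_not_dvd hr).2 hrG).symm) hi
    exact hc₀F (F.mul_mem (F.inv_mem ht₀F) (hFA ψ _ ht₀F))
  have hr2 : r ≠ 2 := fun h => hpG (h ▸ hrG)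
  have hex : ∃ v ∈ F, ∃ d : ℕ, d.Prime ∧ d ≠ r ∧ (∃ j : ℕ, v ^ d ^ j = 1) ∧
      v * (t₀⁻¹ * ψ t₀) ≠ (t₀⁻¹ * ψ t₀) * v := by
    by_contra hno
    push Not at hno
    exact hc₀F (nil_core F hFmax hr Tr hTrr _
      (hTTr (T.mul_mem (T.inv_mem ht₀T) (hψT t₀ ht₀T)))
      (fun v hv d hd hdr j hvj => hno v hv d hd hdr ⟨j, hvj⟩))
  obtain ⟨v₀, hv₀F, ℓ, hℓ, hℓr, ⟨j₀, hv₀j⟩, hv₀c⟩ := hex
  have hv₀ℓ : v₀ ^ ℓ = 1 := hFel ℓ hℓ v₀ hv₀F j₀ hv₀j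
  have hℓG : ℓ ∣ Nat.card G := by
    by_contra hℓG
    have hv1 : v₀ ∈ (⊥ : Subgroup G) := root_mem ⊥ v₀ ℓ (Nat.card G) hv₀ℓ
      ((Nat.Prime.coprime_iff_not_dvd hℓ).2 hℓG)
      (by rw [pow_card_eq_one']; exact Subgroup.one_mem _)
    rw [Subgroup.mem_bot] at hv1
    apply hv₀c
    rw [hv1, one_mul, mul_one]
  have hℓ2 : ℓ ≠ 2 := fun h => hpG (h ▸ hℓG)
  obtain ⟨W, iW, fW, ρ, σW, hsh, heq, hker⟩ :=
    modPack hn σ hσ hfpf F hFab hFA hr hℓ (Ne.symm hℓr) hr2 hℓ2 T hTσ hTr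
  have hFker : ∀ f ∈ F, ρ f = 1 := fun f hf => (hker f).2 (fun v hv _ => hFab f hf v hv)
  have heqpow : ∀ (k : ℕ) (g : G), ρ ((σ ^ k) g) = σW ^ k * ρ g * (σW ^ k)⁻¹ := by
    intro k
    induction k with
    | zero => intro g; rw [pow_zero, pow_zero, inv_one, mul_one, one_mul]; rfl
    | succ k ih =>
      intro g
      rw [pow_succ', MulAut.mul_apply, heq, ih, pow_succ']
      group
  have hρπ : ∀ g g' : G, (QuotientGroup.mk' F) g = (QuotientGroup.mk' F) g' → ρ g = ρ g' := by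
    intro g g' hgg
    have h1 : g⁻¹ * g' ∈ F := (QuotientGroup.eq).1 hgg
    have h2 := hFker _ h1
    rw [map_mul, map_inv] at h2
    exact inv_mul_eq_one.1 h2
  have hc1 : ∀ x ∈ T.map ρ, ∀ y ∈ T.map ρ, ∀ z ∈ T.map ρ,
      (x * y * x⁻¹ * y⁻¹) * z = z * (x * y * x⁻¹ * y⁻¹) := by
    rintro _ ⟨a, ha, rfl⟩ _ ⟨b, hb, rfl⟩ _ ⟨c, hc, rfl⟩
    rw [hT] at ha hb hc
    have h2 := hX1 _ ha _ hb _ hc
    have h3 := hρπ ((a * b * a⁻¹ * b⁻¹) * c) (c * (a * b * a⁻¹ * b⁻¹)) (by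
      simp only [map_mul, map_inv]
      exact h2)
    simp only [map_mul, map_inv] at h3
    exact h3
  have hc5 : ∀ x ∈ T.map ρ, ∀ z ∈ T.map ρ, x ^ r * z = z * x ^ r := by
    rintro _ ⟨a, ha, rfl⟩ _ ⟨c, hc, rfl⟩
    rw [hT] at ha hc
    have h2 := hX5 _ ha _ hc
    have h3 := hρπ (a ^ r * c) (c * a ^ r) (by
      simp only [map_mul, map_pow]
      exact h2)
    simp only [map_mul, map_pow] at h3
    exact h3
  have hnc : ¬ ∀ x ∈ T.map ρ, σW ^ 2 ^ (n - 1) * x = x * σW ^ 2 ^ (n - 1) := by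
    intro hall
    have h1 := hall (ρ t₀) ⟨t₀, ht₀T, rfl⟩
    have h5 : ρ (t₀⁻¹ * ψ t₀) = 1 := by
      rw [map_mul, map_inv, hψ, heqpow, h1, mul_inv_cancel_right, inv_mul_cancel]
    exact hv₀c ((hker _).1 h5 v₀ hv₀F hv₀ℓ).symm
  obtain ⟨m, hm2, hmn, hrm, M₁, hMP, hMσ, ⟨xc, hxc, yc, hyc, wc, hwc, hcw⟩, hlast⟩ :=
    modB hsh hc1 hc5 hnc
  have hPM : T.map ρ ≤ stabU M₁ := fun x hx => stabU_of_maps M₁ x (hMP x hx)
  have hσM : σW ∈ stabU M₁ := stabU_of_maps M₁ σW hMσ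
  obtain ⟨N₀, hN₀⟩ : ∃ N₀ : Subgroup G, N₀ = (fixer M₁).comap ρ := ⟨_, rfl⟩
  have hN₀mem : ∀ g : G, g ∈ N₀ ↔ ρ g ∈ fixer M₁ := by
    intro g; rw [hN₀]; rfl
  refine ⟨m, hm2, hmn, hrm, (T ⊓ N₀).map (QuotientGroup.mk' F), ?_, ?_, ?_, ?_, ?_⟩
  · rintro _ ⟨t, ht, rfl⟩
    have h1 := ht.1
    rw [hT] at h1
    exact h1
  · rintro _ ⟨t', ht', rfl⟩ xb hxb
    obtain ⟨t, rfl⟩ := QuotientGroup.mk_surjective xb
    have htT : t ∈ T := by rw [hT]; exact hxb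
    refine ⟨t * t' * t⁻¹, ⟨T.mul_mem (T.mul_mem htT ht'.1) (T.inv_mem htT), ?_⟩, ?_⟩
    · refine (hN₀mem _).2 ?_
      rw [map_mul, map_mul, map_inv]
      exact fixer_conj (hPM ⟨t, htT, rfl⟩) ((hN₀mem t').1 ht'.2)
    · rw [map_mul, map_mul, map_inv]
      rfl
  · rintro _ ⟨t', ht', rfl⟩
    refine ⟨σ t', ⟨hTσ t' ht'.1, ?_⟩, rfl⟩
    refine (hN₀mem _).2 ?_
    rw [heq]
    exact fixer_conj hσM ((hN₀mem t').1 ht'.2)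
  · obtain ⟨a, ha, rfl⟩ := hxc
    obtain ⟨b, hb, rfl⟩ := hyc
    refine ⟨QuotientGroup.mk' F a, by rw [hT] at ha; exact ha, QuotientGroup.mk' F b,
      by rw [hT] at hb; exact hb, ?_⟩
    rintro ⟨t', ht', ht'eq⟩
    have h1 : ρ t' = ρ (a * b * a⁻¹ * b⁻¹) := hρπ _ _ (by
      rw [ht'eq]
      simp only [map_mul, map_inv])
    have h2 : ρ t' ∈ fixer M₁ := (hN₀mem t').1 ht'.2
    rw [h1, map_mul, map_mul, map_mul, map_inv, map_inv] at h2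
    exact hcw (h2 wc hwc)
  · intro xb hxb hfixx
    obtain ⟨t, rfl⟩ := QuotientGroup.mk_surjective xb
    have htT : t ∈ T := by rw [hT]; exact hxb
    rw [← map_pow, SG.qAutHom_mk] at hfixx
    rw [← map_pow, SG.qAutHom_mk]
    have h1 : ρ ((σ ^ 2 ^ (n - 1)) t) = ρ t := hρπ _ _ hfixx
    rw [heqpow] at h1
    have h2 : σW ^ 2 ^ (n - 1) * ρ t = ρ t * σW ^ 2 ^ (n - 1) := mul_inv_eq_iff_eq_mul.mp h1
    have h3 := hlast (ρ t) ⟨t, htT, rfl⟩ (fun w _ => by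
      have h4 := congrArg (fun e : LAut W => e w) h2
      exact h4)
    refine ⟨t⁻¹ * (σ ^ 2 ^ (n - m)) t,
      ⟨T.mul_mem (T.inv_mem htT) (SG.aut_pow_inv σ T hTσ _ t htT), ?_⟩, ?_⟩
    · refine (hN₀mem _).2 ?_
      rw [map_mul, map_inv, heqpow]
      intro w hw
      have hgM : σW ^ 2 ^ (n - m) ∈ stabU M₁ := Subgroup.pow_mem _ hσM _
      have hw₁ : (σW ^ 2 ^ (n - m))⁻¹ w ∈ M₁ := ((stabU M₁).inv_mem hgM w).2 hw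
      have h4 := h3 _ hw₁
      rw [app_inv] at h4
      show (ρ t)⁻¹ ((σW ^ 2 ^ (n - m)) (ρ t ((σW ^ 2 ^ (n - m))⁻¹ w))) = w
      rw [h4, inv_app]
    · rw [map_mul, map_inv]
      rfl

end

end Cfsg.Agent.Lib.Helper63.SH
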