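import Mathlib
import Cfsg.Agent.Lib.Helper63.SHMod2
import Cfsg.Agent.S3794

set_option autoImplicit false
open Cfsg

namespace Cfsg.Agent.Lib.Helper63.SH

open Cfsg.Agent.Lib.Helper63.S3A
open Cfsg.Agent.Lib.Helper63.Fpq
open scoped commutatorElement

universe u

/-- the Frattini-free case of the two-layer theorem -/
theorem fratFree_K2 {G : Type u} [Group G] [Finite G] [Group.IsSolvable G] {n : ℕ} (hn : 0 < n)
    (σ : MulAut G) (hσ : σ ^ 2 ^ n = 1) (hfpf : ∀ g : G, σ g = g → g = 1)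
    (hΦ : frattini G = ⊥) :
    ∃ N₁ N₂ : Subgroup G, N₁.Normal ∧ N₂.Normal ∧ Group.IsNilpotent N₁ ∧
      (∃ k : ℕ, N₂.lowerCentralSeries k ≤ N₁) ∧
      ∀ g : G, g⁻¹ * (σ ^ 2 ^ (n - 1)) g ∈ N₂ := by
  classical
  have hpG := SG.fpf_not_dvd Nat.prime_two σ hσ hfpf
  obtain ⟨F, hF⟩ : ∃ F : Subgroup G, F = fittingSubgroup G := ⟨_, rfl⟩
  haveI hFn : F.Normal := by
    rw [hF]; exact Cfsg.Agent.Lib.Helper71.fittingSubgroup_normal
  have hFnil : Group.IsNilpotent F := by
    rw [hF]; exact Cfsg.Agent.Lib.Helper71.fittingSubgroup_isNilpotent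
  have hFab := Cfsg.Agent.Lib.Helper90.comm_of_nilpotent_normal_of_frattini_eq_bot hΦ F hFnil
  have hFmax : ∀ C : Subgroup G, C.Normal → Group.IsNilpotent C → C ≤ F := fun C hC hn => by
    haveI := hC; rw [hF]; exact Cfsg.Agent.Lib.Helper71.le_fittingSubgroup C hn
  haveI hFchar : F.Characteristic := by rw [hF]; exact SG.fitting_char G
  have hFel : ∀ d : ℕ, d.Prime → ∀ v ∈ F, ∀ j : ℕ, v ^ d ^ j = 1 → v ^ d = 1 := by
    intro d hd v hv j hvj
    haveI : Fact d.Prime := ⟨hd⟩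
    let Pd : Subgroup G :=
      { carrier := {v | v ∈ F ∧ ∃ j : ℕ, v ^ d ^ j = 1}
        mul_mem' := by
          rintro x y ⟨hx, i, hxi⟩ ⟨hy, k, hyk⟩
          refine ⟨F.mul_mem hx hy, i + k, ?_⟩
          have hc : Commute x y := hFab x hx y hy
          rw [hc.mul_pow, pow_add, pow_mul, hxi, one_pow, one_mul, mul_comm, pow_mul, hyk,
            one_pow]
        one_mem' := ⟨F.one_mem, 0, one_pow _⟩
        inv_mem' := by
          rintro x ⟨hx, i, hxi⟩
          exact ⟨F.inv_mem hx, i, by rw [inv_pow, hxi, inv_one]⟩ }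
    haveI hPdn : Pd.Normal := ⟨by
      rintro v ⟨hv, i, hvi⟩ g
      refine ⟨hFn.conj_mem v hv g, i, ?_⟩
      rw [conj_pow, hvi, mul_one, mul_inv_cancel]⟩
    have hPd : IsPGroup d Pd := by
      rintro ⟨v, hv, i, hvi⟩
      exact ⟨i, Subtype.ext hvi⟩
    have h1 := Cfsg.Agent.Lib.Helper90.frattini_map_subtype_le Pd
    rw [hΦ, le_bot_iff, Subgroup.map_eq_bot_iff_of_injective _ Pd.subtype_injective] at h1
    have h2 := Cfsg.Agent.Lib.Helper1.pow_mem_frattini_of_pGroup d hPd ⟨v, hv, j, hvj⟩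
    rw [h1, Subgroup.mem_bot] at h2
    exact congrArg Subtype.val h2
  haveI : Group.IsSolvable (G ⧸ F) := inferInstance
  have hσH : (SG.qAutHom F σ) ^ 2 ^ n = 1 := by rw [← map_pow, hσ, map_one]
  have hodd : ¬ 2 ∣ Nat.card (G ⧸ F) :=
    fun hd => hpG (hd.trans (Subgroup.card_quotient_dvd_card F))
  have hk := k2H hn (SG.qAutHom F σ) hσH hodd
    (fun r hr X hXr hXσ hXab => fratFree_A hn σ hσ hfpf F hFab hFmax hFel r hr X hXr hXσ hXab)
    (fun r hr X hXr hXσ hX1 hX5 hXne =>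
      fratFree_B hn σ hσ hfpf F hFab hFmax hFel r hr X hXr hXσ hX1 hX5 hXne)
  haveI hF2n : (fittingSubgroup (G ⧸ F)).Normal :=
    Cfsg.Agent.Lib.Helper71.fittingSubgroup_normal
  refine ⟨F, (fittingSubgroup (G ⧸ F)).comap (QuotientGroup.mk' F), hFn, hF2n.comap _, hFnil,
    ?_, ?_⟩
  · obtain ⟨k, hk2⟩ := (Subgroup.isNilpotent_iff_lowerCentralSeries
      (fittingSubgroup (G ⧸ F))).1 Cfsg.Agent.Lib.Helper71.fittingSubgroup_isNilpotent
    refine ⟨k, (SG.lcs_comap_le (QuotientGroup.mk' F) (fittingSubgroup (G ⧸ F)) k).trans ?_⟩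
    rw [hk2, MonoidHom.comap_bot, QuotientGroup.ker_mk']
  · intro g
    have h1 := hk (QuotientGroup.mk g)
    rw [← map_pow, SG.qAutHom_mk] at h1
    rw [Subgroup.mem_comap, map_mul, map_inv]
    exact h1

/-- the two-layer theorem: the involution of `σ` acts trivially modulo the second Fitting
subgroup -/
theorem K2_aux : ∀ N : ℕ, ∀ (G : Type u) [Group G] [Finite G],
    Nat.card G ≤ N → Group.IsSolvable G → ∀ (n : ℕ) (σ : MulAut G), 0 < n → σ ^ 2 ^ n = 1 →
    (∀ g : G, σ g = g → g = 1) →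
    ∃ N₁ N₂ : Subgroup G, N₁.Normal ∧ N₂.Normal ∧ Group.IsNilpotent N₁ ∧
      (∃ k : ℕ, N₂.lowerCentralSeries k ≤ N₁) ∧
      ∀ g : G, g⁻¹ * (σ ^ 2 ^ (n - 1)) g ∈ N₂ := by
  intro N
  induction N with
  | zero =>
    intro G _ _ hc
    have := Nat.card_pos (α := G)
    omega
  | succ N ih =>
    intro G _ _ hcard hG n σ hn hσ hfpf
    haveI := hG
    by_cases hΦ : frattini G = ⊥
    · exact fratFree_K2 hn σ hσ hfpf hΦ
    · haveI hΦn : (frattini G).Normal := Subgroup.normal_of_characteristic _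
      have hcardlt : Nat.card (G ⧸ frattini G) ≤ N := by
        have h1 := Subgroup.card_eq_card_quotient_mul_card_subgroup (frattini G)
        have h2 : 1 < Nat.card (frattini G) := (Subgroup.one_lt_card_iff_ne_bot _).2 hΦ
        have h3 : 0 < Nat.card (G ⧸ frattini G) := Nat.card_pos
        nlinarith
      have hfpfb := SG.fpf_quot Nat.prime_two σ hσ hfpf (frattini G)
      have hσb : (SG.qAutHom (frattini G) σ) ^ 2 ^ n = 1 := by rw [← map_pow, hσ, map_one]
      obtain ⟨M₁, M₂, hM₁n, hM₂n, hM₁nil, ⟨k, hk⟩, hM⟩ :=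
        ih (G ⧸ frattini G) hcardlt inferInstance n (SG.qAutHom (frattini G) σ) hn hσb hfpfb
      obtain ⟨Nn, hNn⟩ : ∃ Nn : Subgroup G,
          Nn = M₁.comap (QuotientGroup.mk' (frattini G)) := ⟨_, rfl⟩
      haveI hNnn : Nn.Normal := by rw [hNn]; exact hM₁n.comap _
      have hΦle : frattini G ≤ Nn := by
        rw [hNn]
        intro x hx
        rw [Subgroup.mem_comap, QuotientGroup.mk'_apply, (QuotientGroup.eq_one_iff x).2 hx]
        exact Subgroup.one_mem _
      have hmap : Nn.map (QuotientGroup.mk' (frattini G)) = M₁ := by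
        rw [hNn]
        exact Subgroup.map_comap_eq_self_of_surjective (QuotientGroup.mk'_surjective _) _
      have hNnil : Group.IsNilpotent Nn := by
        apply Cfsg.Agent.S0070.nilpotent_of_frattini_quotient Nn hΦle
        rw [hmap]; exact hM₁nil
      refine ⟨Nn, M₂.comap (QuotientGroup.mk' (frattini G)), hNnn, hM₂n.comap _, hNnil,
        ⟨k, ?_⟩, ?_⟩
      · rw [hNn]
        exact (SG.lcs_comap_le (QuotientGroup.mk' (frattini G)) M₂ k).trans
          (Subgroup.comap_mono hk)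
      · intro g
        rw [Subgroup.mem_comap]
        have h1 := hM (QuotientGroup.mk g)
        rw [← map_pow, SG.qAutHom_mk] at h1
        rw [map_mul, map_inv]
        exact h1

/-- lifting a chain through a nilpotent normal subgroup -/
theorem chain_lift {G : Type u} [Group G] (N : Subgroup G) [hNn : N.Normal]
    (hN : Group.IsNilpotent N) (k : ℕ)
    (hc : ∃ Fb : Fin (k + 1) → Subgroup (G ⧸ N), Fb 0 = ⊥ ∧ Fb (Fin.last k) = ⊤ ∧
      Monotone Fb ∧ (∀ i, (Fb i).Normal) ∧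
      ∀ i : Fin k, ∃ j : ℕ, (Fb i.succ).lowerCentralSeries j ≤ Fb i.castSucc) :
    ∃ F : Fin (k + 1 + 1) → Subgroup G, F 0 = ⊥ ∧ F (Fin.last (k + 1)) = ⊤ ∧ Monotone F ∧
      (∀ i, (F i).Normal) ∧
      ∀ i : Fin (k + 1), ∃ j : ℕ, (F i.succ).lowerCentralSeries j ≤ F i.castSucc := by
  obtain ⟨Fb, hFb0, hFbl, hFbm, hFbn, hFbc⟩ := hc
  obtain ⟨π, hπ⟩ : ∃ π : G →* G ⧸ N, π = QuotientGroup.mk' N := ⟨_, rfl⟩
  obtain ⟨F, hF0, hFs⟩ : ∃ F : Fin (k + 1 + 1) → Subgroup G, F 0 = ⊥ ∧
      ∀ i : Fin (k + 1), F i.succ = (Fb i).comap π :=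
    ⟨Fin.cons ⊥ (fun i => (Fb i).comap π), Fin.cons_zero _ _, fun i => Fin.cons_succ _ _ i⟩
  refine ⟨F, hF0, ?_, ?_, ?_, ?_⟩
  · rw [← Fin.succ_last, hFs, hFbl, Subgroup.comap_top]
  · rw [Fin.monotone_iff_le_succ]
    intro i
    refine Fin.cases ?_ (fun i' => ?_) i
    · rw [Fin.castSucc_zero, hF0]; exact bot_le
    · rw [← Fin.succ_castSucc, hFs, hFs]
      exact Subgroup.comap_mono (hFbm (Fin.castSucc_le_succ i'))
  · intro i
    refine Fin.cases ?_ (fun i' => ?_) i
    · rw [hF0]; infer_instance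
    · rw [hFs]; exact (hFbn i').comap π
  · intro i
    refine Fin.cases ?_ (fun i' => ?_) i
    · have e1 : F (Fin.succ 0) = N := by
        rw [hFs, hFb0, hπ, MonoidHom.comap_bot, QuotientGroup.ker_mk']
      rw [e1]
      obtain ⟨j, hj⟩ := (Subgroup.isNilpotent_iff_lowerCentralSeries N).1 hN
      exact ⟨j, by rw [hj]; exact bot_le⟩
    · obtain ⟨j, hj⟩ := hFbc i'
      refine ⟨j, ?_⟩
      rw [← Fin.succ_castSucc, hFs, hFs]
      exact (SG.lcs_comap_le π (Fb i'.succ) j).trans (Subgroup.comap_mono hj)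

/-- the chain of normal subgroups with nilpotent factors -/
theorem chain2_aux : ∀ n : ℕ, ∀ (G : Type u) [Group G] [Finite G], Group.IsSolvable G →
    ∀ σ : MulAut G, σ ^ 2 ^ (n + 2) = 1 → (∀ g : G, σ g = g → g = 1) →
    ∀ L : ℕ, L = 2 * n + 2 →
    ∃ F : Fin (L + 1) → Subgroup G, F 0 = ⊥ ∧ F (Fin.last L) = ⊤ ∧ Monotone F ∧
      (∀ i, (F i).Normal) ∧
      ∀ i : Fin L, ∃ k : ℕ, (F i.succ).lowerCentralSeries k ≤ F i.castSucc := by
  intro n
  induction n with
  | zero =>
    intro G _ _ hG σ hσ hfpf L hL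
    have hσ4 : σ ^ 4 = 1 := by
      have e : 2 ^ (0 + 2) = 4 := by norm_num
      rw [e] at hσ
      exact hσ
    have hnil : Group.IsNilpotent (commutator G) := Cfsg.Agent.S3794.result hG σ hσ4 hfpf
    have hL' : L = 0 + 1 + 1 := by omega
    subst hL'
    haveI hcn : (commutator G).Normal := inferInstance
    apply chain_lift (commutator G) hnil (0 + 1)
    refine ⟨fun i => if i = 0 then ⊥ else ⊤, ?_, ?_, ?_, ?_, ?_⟩
    · simp
    · simp
    · intro i j hij
      by_cases hi : i = 0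
      · simp [hi]
      · have hj : j ≠ 0 := by
          intro hj
          rw [hj] at hij
          exact hi (le_antisymm hij (Fin.zero_le _))
        simp [hi, hj]
    · intro i
      by_cases hi : i = 0
      · simp only [hi, if_true]; infer_instance
      · simp only [hi, if_false]; infer_instance
    · intro i
      refine ⟨1, ?_⟩
      have hab : ∀ a b : G ⧸ commutator G, a * b = b * a := by
        intro a b
        obtain ⟨a', rfl⟩ := QuotientGroup.mk_surjective a
        obtain ⟨b', rfl⟩ := QuotientGroup.mk_surjective b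
        rw [← QuotientGroup.mk_mul, ← QuotientGroup.mk_mul, QuotientGroup.eq]
        have h1 : (a' * b')⁻¹ * (b' * a') = ⁅b'⁻¹, a'⁻¹⁆ := by
          rw [commutatorElement_def]; group
        rw [h1]
        exact Subgroup.commutator_mem_commutator (Subgroup.mem_top _) (Subgroup.mem_top _)
      rw [Subgroup.lowerCentralSeries_succ, Subgroup.commutator_le]
      intro a _ b _
      have h2 : ⁅a, b⁆ = 1 := by
        rw [commutatorElement_def, hab a b]; group
      rw [h2]
      exact Subgroup.one_mem _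
  | succ n ih =>
    intro G _ _ hG σ hσ hfpf L hL
    haveI := hG
    haveI hFchar : (fittingSubgroup G).Characteristic := SG.fitting_char G
    haveI hFn : (fittingSubgroup G).Normal := Subgroup.normal_of_characteristic _
    obtain ⟨N₁, N₂, hN₁n, hN₂n, hN₁nil, ⟨k, hk⟩, hN⟩ :=
      K2_aux (Nat.card G) G le_rfl hG (n + 1 + 2) σ (by omega) hσ hfpf
    have e0 : n + 1 + 2 - 1 = n + 2 := by omega
    rw [e0] at hN
    have hN₁le : N₁ ≤ fittingSubgroup G := by
      haveI := hN₁n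
      exact Cfsg.Agent.Lib.Helper71.le_fittingSubgroup N₁ hN₁nil
    -- first quotient
    have hfpf₁ := SG.fpf_quot Nat.prime_two σ hσ hfpf (fittingSubgroup G)
    have hσ₁ : (SG.qAutHom (fittingSubgroup G) σ) ^ 2 ^ (n + 1 + 2) = 1 := by
      rw [← map_pow, hσ, map_one]
    haveI hFchar₂ : (fittingSubgroup (G ⧸ fittingSubgroup G)).Characteristic :=
      SG.fitting_char _
    haveI hFn₂ : (fittingSubgroup (G ⧸ fittingSubgroup G)).Normal :=
      Subgroup.normal_of_characteristic _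
    have hfpf₂ := SG.fpf_quot Nat.prime_two (SG.qAutHom (fittingSubgroup G) σ) hσ₁ hfpf₁
      (fittingSubgroup (G ⧸ fittingSubgroup G))
    have hmapnil : Group.IsNilpotent (N₂.map (QuotientGroup.mk' (fittingSubgroup G))) := by
      rw [Subgroup.isNilpotent_iff_lowerCentralSeries]
      refine ⟨k, ?_⟩
      rw [← Subgroup.map_lowerCentralSeries, eq_bot_iff]
      rintro _ ⟨x, hx, rfl⟩
      rw [Subgroup.mem_bot]
      exact (QuotientGroup.eq_one_iff x).2 (hN₁le (hk hx))
    have hmaple : N₂.map (QuotientGroup.mk' (fittingSubgroup G)) ≤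
        fittingSubgroup (G ⧸ fittingSubgroup G) := by
      haveI : (N₂.map (QuotientGroup.mk' (fittingSubgroup G))).Normal :=
        hN₂n.map _ (QuotientGroup.mk'_surjective _)
      exact Cfsg.Agent.Lib.Helper71.le_fittingSubgroup _ hmapnil
    have hσ₂ : (SG.qAutHom (fittingSubgroup (G ⧸ fittingSubgroup G))
        (SG.qAutHom (fittingSubgroup G) σ)) ^ 2 ^ (n + 2) = 1 := by
      refine MulEquiv.ext (fun y => ?_)
      induction y using QuotientGroup.induction_on with
      | H y₁ =>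
        rw [← map_pow, SG.qAutHom_mk]
        refine ((QuotientGroup.eq).2 ?_).symm
        induction y₁ using QuotientGroup.induction_on with
        | H x =>
          rw [← map_pow, SG.qAutHom_mk]
          apply hmaple
          refine ⟨x⁻¹ * (σ ^ 2 ^ (n + 2)) x, hN x, ?_⟩
          rw [map_mul, map_inv]
          rfl
    obtain hchain := ih ((G ⧸ fittingSubgroup G) ⧸ fittingSubgroup (G ⧸ fittingSubgroup G))
      inferInstance _ hσ₂ hfpf₂ (2 * n + 2) rfl
    have hchain₁ := chain_lift (fittingSubgroup (G ⧸ fittingSubgroup G))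
      Cfsg.Agent.Lib.Helper71.fittingSubgroup_isNilpotent (2 * n + 2) hchain
    have hchain₂ := chain_lift (fittingSubgroup G)
      Cfsg.Agent.Lib.Helper71.fittingSubgroup_isNilpotent (2 * n + 2 + 1) hchain₁
    have hL' : L = 2 * n + 2 + 1 + 1 := by omega
    subst hL'
    exact hchain₂

/-- **Gross.** A finite solvable group with a fixed-point-free automorphism of order `2 ^ n`,
`n ≥ 2`, has Fitting height at most `2 n - 2`. -/
theorem gross {G : Type u} [Group G] [Finite G] (hG : Group.IsSolvable G) (σ : MulAut G)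
    (n : ℕ) (hn : 1 < n) (hσ : orderOf σ = 2 ^ n) (hfpf : ∀ g : G, σ g = g → g = 1) :
    ∃ F : Fin ((2 * n - 2) + 1) → Subgroup G, F 0 = ⊥ ∧ F (Fin.last (2 * n - 2)) = ⊤ ∧
      Monotone F ∧ (∀ i, (F i).Normal) ∧
      ∀ i : Fin (2 * n - 2), ∃ k : ℕ, (F i.succ).lowerCentralSeries k ≤ F i.castSucc := by
  obtain ⟨n', rfl⟩ : ∃ n' : ℕ, n = n' + 2 := ⟨n - 2, by omega⟩
  exact chain2_aux n' G hG σ (by rw [← hσ]; exact pow_orderOf_eq_one σ) hfpf
    (2 * (n' + 2) - 2) (by omega)

end Cfsg.Agent.Lib.Helper63.SH
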